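import Mathlib

-- merged: Cfsg.Agent.OddHalf.D7.Uni.Heis
section

/-!
# Unitary groups, existence of the doubled transvection group: the radical `Q` of a point (helper575)

`N` a hermitian space over `F` (characteristic two), `Q = {S x a | a + σ a = B x x}` the Heisenberg group, `X = {S 0 a}`
its centre, `P` a group acting on `Q`.

* `E2` : an additive map `Q/X → X`, `P`-invariant up to inner ones, is inner;
* `lin` : a 2-element commuting with `P` on `Q/X` is trivial on `Q/X`;
* `semi` : a map normalising `P` is semilinear on `Q/X`.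
-/

set_option autoImplicit false

namespace Cfsg.Agent.OddHalf.D7.Uni.Ex

open Subgroup

variable {G : Type*} [Group G] {F : Type*} [Field F] {N : Type*} [AddCommGroup N] [Module F N]

/-- A hermitian form in characteristic two. -/
structure Form (σ : F →+* F) (B : N → N → F) : Prop where
  two : ∀ x : F, x + x = 0
  σσ : ∀ x, σ (σ x) = x
  nt : ∃ x, σ x ≠ x
  add_left : ∀ x y z, B (x + y) z = B x z + B y z
  smul_left : ∀ (c : F) x y, B (c • x) y = c * B x y
  symm : ∀ x y, B y x = σ (B x y)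
  nondeg : ∀ y, (∀ x, B x y = 0) → y = 0

/-- The Heisenberg group of `N`. -/
structure Heis (σ : F →+* F) (B : N → N → F) (X Q : Subgroup G) (S : N → F → G) : Prop extends Form σ B where
  mul : ∀ x a y b, a + σ a = B x x → b + σ b = B y y → S x a * S y b = S (x + y) (a + b + B y x)
  inj : ∀ x a, a + σ a = B x x → S x a = 1 → x = 0 ∧ a = 0
  memQ : ∀ g, g ∈ Q ↔ ∃ x a, a + σ a = B x x ∧ g = S x a
  memX : ∀ g, g ∈ X ↔ ∃ a, σ a = a ∧ g = S 0 a

namespace Form

variable {σ : F →+* F} {B : N → N → F}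

theorem two' (H : Form σ B) (x : N) : x + x = 0 := by
  have h : (1 : F) + 1 = 0 := H.two 1
  have : ((1 : F) + 1) • x = x + x := by rw [add_smul, one_smul]
  rw [← this, h, zero_smul]

theorem add_right (H : Form σ B) (x y z : N) : B x (y + z) = B x y + B x z := by
  rw [H.symm (y + z) x, H.add_left, map_add, ← H.symm, ← H.symm]

theorem smul_right (H : Form σ B) (c : F) (x y : N) : B x (c • y) = σ c * B x y := by
  rw [H.symm (c • y) x, H.smul_left, map_mul, ← H.symm]

theorem zero_left (H : Form σ B) (x : N) : B 0 x = 0 := by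
  have := H.smul_left 0 0 x
  rwa [zero_smul, zero_mul] at this

theorem zero_right (H : Form σ B) (x : N) : B x 0 = 0 := by
  rw [H.symm, H.zero_left, map_zero]

theorem swap (H : Form σ B) {x y : N} (h : B x y = 0) : B y x = 0 := by
  rw [H.symm, h, map_zero]

/-- the trace is onto -/
theorem exists_tr (H : Form σ B) {c : F} (hc : σ c = c) : ∃ a, a + σ a = c := by
  obtain ⟨θ, hθ⟩ := H.nt
  have hd : θ + σ θ ≠ 0 := by
    intro h
    apply hθ
    calc σ θ = (θ + σ θ) + θ := by rw [add_comm θ, add_assoc, H.two, add_zero]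
      _ = θ := by rw [h, zero_add]
  have hs : σ (θ + σ θ) = θ + σ θ := by rw [map_add, H.σσ, add_comm]
  refine ⟨c * θ / (θ + σ θ), ?_⟩
  rw [map_div₀, map_mul, hc, hs]
  field_simp

theorem tr_sigma (H : Form σ B) (a : F) : σ (a + σ a) = a + σ a := by
  rw [map_add, H.σσ, add_comm]

theorem self_sigma (H : Form σ B) (x : N) : σ (B x x) = B x x := (H.symm x x).symm

/-- the trace form is nondegenerate -/
theorem tr_nondeg (H : Form σ B) {c : F} (h : ∀ l : F, l * c + σ (l * c) = 0) : c = 0 := by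
  by_contra hc
  obtain ⟨θ, hθ⟩ := H.nt
  apply hθ
  have := h (θ * c⁻¹)
  rw [mul_assoc, inv_mul_cancel₀ hc, mul_one] at this
  calc σ θ = (θ + σ θ) + θ := by rw [add_comm θ, add_assoc, H.two, add_zero]
    _ = θ := by rw [this, zero_add]

theorem neg_eq (H : Form σ B) (x : F) : -x = x := by
  rw [neg_eq_iff_add_eq_zero]; exact H.two x

theorem neg_eq' (H : Form σ B) (x : N) : -x = x := by
  rw [neg_eq_iff_add_eq_zero]; exact H.two' x

/-- a vector with `B x e = 1` -/
theorem exists_one (H : Form σ B) {e : N} (he : e ≠ 0) : ∃ x, B x e = 1 := by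
  by_contra hcon
  push Not at hcon
  apply he
  apply H.nondeg
  intro x
  by_contra hx
  apply hcon ((B x e)⁻¹ • x)
  rw [H.smul_left, inv_mul_cancel₀ hx]

/-- elements of `N` are determined by `Tr B` -/
theorem eq_zero_of_tr (H : Form σ B) {y : N} (h : ∀ x, B x y + σ (B x y) = 0) : y = 0 := by
  apply H.nondeg
  intro x
  apply H.tr_nondeg
  intro l
  rw [← H.smul_left]
  exact h _

end Form

namespace Heis

variable {σ : F →+* F} {B : N → N → F} {X Q : Subgroup G} {S : N → F → G}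

theorem one (H : Heis σ B X Q S) : S 0 0 = 1 := by
  have h1 : (0 : F) + σ 0 = B 0 0 := by rw [map_zero, H.zero_left, add_zero]
  have h := H.mul 0 0 0 0 h1 h1
  rw [H.zero_left, add_zero, add_zero, add_zero] at h
  exact mul_eq_left.1 h

theorem tr0 (H : Heis σ B X Q S) {a : F} (ha : σ a = a) : a + σ a = B 0 0 := by
  rw [ha, H.two, H.zero_left]

theorem tr_σ (H : Heis σ B X Q S) {x : N} {a : F} (ha : a + σ a = B x x) : σ a + σ (σ a) = B x x := by
  rw [H.σσ, add_comm, ha]

theorem tr_mul (H : Heis σ B X Q S) {x y : N} {a b : F} (ha : a + σ a = B x x) (hb : b + σ b = B y y) :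
    (a + b + B y x) + σ (a + b + B y x) = B (x + y) (x + y) := by
  rw [H.add_left, H.toForm.add_right, H.toForm.add_right, map_add, map_add, ← H.symm y x, ← ha, ← hb]
  ring

theorem inv (H : Heis σ B X Q S) {x : N} {a : F} (ha : a + σ a = B x x) : (S x a)⁻¹ = S x (σ a) := by
  apply inv_eq_of_mul_eq_one_right
  rw [H.mul x a x (σ a) ha (H.tr_σ ha), H.two', ha, H.two, H.one]

theorem eq_iff (H : Heis σ B X Q S) {x y : N} {a b : F} (ha : a + σ a = B x x) (hb : b + σ b = B y y)
    (h : S x a = S y b) : x = y ∧ a = b := by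
  have h1 : S x a * (S y b)⁻¹ = 1 := by rw [h, mul_inv_cancel]
  rw [H.inv hb, H.mul x a y (σ b) ha (H.tr_σ hb)] at h1
  obtain ⟨h2, h3⟩ := H.inj _ _ (H.tr_mul ha (H.tr_σ hb)) h1
  have hxy : x = y := by
    rw [add_eq_zero_iff_eq_neg, H.neg_eq'] at h2
    exact h2
  refine ⟨hxy, ?_⟩
  rw [hxy] at h3
  rw [← hb] at h3
  have h4 : a + b = 0 := by
    calc a + b = a + b + (σ b + σ b) := by rw [H.two, add_zero]
      _ = a + σ b + (b + σ b) := by ring
      _ = 0 := h3
  rw [add_eq_zero_iff_eq_neg, H.neg_eq] at h4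
  exact h4

/-- conjugation -/
theorem conj (H : Heis σ B X Q S) {x y : N} {a b : F} (ha : a + σ a = B x x) (hb : b + σ b = B y y) :
    S y b * S x a * (S y b)⁻¹ = S x (a + (B x y + σ (B x y))) := by
  have h1 : (a + (B x y + σ (B x y))) + σ (a + (B x y + σ (B x y))) = B x x := by
    rw [map_add, H.tr_sigma, ← ha]
    linear_combination (B x y + σ (B x y)) * H.two 1
  rw [mul_inv_eq_iff_eq_mul, H.mul _ _ _ _ hb ha, H.mul _ _ _ _ h1 hb, add_comm y x, H.symm x y]
  congr 1
  linear_combination - σ (B x y) * H.two 1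

theorem mul_X (H : Heis σ B X Q S) {x : N} {a b : F} (ha : a + σ a = B x x) (hb : σ b = b) :
    S x a * S 0 b = S x (a + b) := by
  rw [H.mul _ _ _ _ ha (H.tr0 hb), H.zero_left, add_zero, add_zero]

theorem X_mul (H : Heis σ B X Q S) {x : N} {a b : F} (ha : a + σ a = B x x) (hb : σ b = b) :
    S 0 b * S x a = S x (a + b) := by
  rw [H.mul _ _ _ _ (H.tr0 hb) ha, H.zero_right, zero_add, add_zero, add_comm]

theorem XQ (H : Heis σ B X Q S) : X ≤ Q := by
  intro g hg
  obtain ⟨a, ha, rfl⟩ := (H.memX g).1 hg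
  exact (H.memQ _).2 ⟨0, a, H.tr0 ha, rfl⟩

theorem mem_Q (H : Heis σ B X Q S) {x : N} {a : F} (ha : a + σ a = B x x) : S x a ∈ Q := (H.memQ _).2 ⟨x, a, ha, rfl⟩

theorem mem_X (H : Heis σ B X Q S) {a : F} (ha : σ a = a) : S 0 a ∈ X := (H.memX _).2 ⟨a, ha, rfl⟩

theorem XcQ (H : Heis σ B X Q S) {x q : G} (hx : x ∈ X) (hq : q ∈ Q) : x * q = q * x := by
  obtain ⟨a, ha, rfl⟩ := (H.memX x).1 hx
  obtain ⟨y, b, hb, rfl⟩ := (H.memQ q).1 hq
  rw [H.X_mul hb ha, H.mul_X hb ha]

theorem X2 (H : Heis σ B X Q S) {x : G} (hx : x ∈ X) : x * x = 1 := by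
  obtain ⟨a, ha, rfl⟩ := (H.memX x).1 hx
  rw [H.mul_X (H.tr0 ha) ha, H.two, H.one]

/-- the commutator -/
theorem comm (H : Heis σ B X Q S) {x y : N} {a b : F} (ha : a + σ a = B x x) (hb : b + σ b = B y y) :
    S y b * S x a * (S y b)⁻¹ * (S x a)⁻¹ = S 0 (B x y + σ (B x y)) := by
  rw [mul_inv_eq_iff_eq_mul, H.conj ha hb, H.X_mul ha (H.tr_sigma _)]

theorem QQ (H : Heis σ B X Q S) : ∀ v ∈ Q, ∀ w ∈ Q, v * w * v⁻¹ * w⁻¹ ∈ X := by
  intro v hv w hw
  obtain ⟨y, b, hb, rfl⟩ := (H.memQ v).1 hv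
  obtain ⟨x, a, ha, rfl⟩ := (H.memQ w).1 hw
  rw [H.comm ha hb]
  exact H.mem_X (H.tr_sigma _)

theorem exists_S (H : Heis σ B X Q S) (x : N) : ∃ a, a + σ a = B x x := H.exists_tr (H.self_sigma x)

theorem ZQ (H : Heis σ B X Q S) : ∀ q ∈ Q, (∀ v ∈ Q, q * v = v * q) → q ∈ X := by
  intro q hq hc
  obtain ⟨x, a, ha, rfl⟩ := (H.memQ q).1 hq
  have hx : x = 0 := by
    apply H.eq_zero_of_tr
    intro y
    obtain ⟨b, hb⟩ := H.exists_S y
    have h1 := hc _ (H.mem_Q hb)
    have h2 : S x a * S y b * (S x a)⁻¹ * (S y b)⁻¹ = 1 := by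
      rw [h1]; group
    rw [H.comm hb ha] at h2
    exact (H.inj _ _ (H.tr0 (H.tr_sigma _)) h2).2
  subst hx
  refine H.mem_X ?_
  rw [H.zero_left, add_eq_zero_iff_eq_neg, H.neg_eq] at ha
  exact ha.symm

theorem XQQ (H : Heis σ B X Q S) (hN : ∃ x : N, x ≠ 0) : X ≤ ⁅Q, Q⁆ := by
  intro g hg
  obtain ⟨a, ha, rfl⟩ := (H.memX g).1 hg
  obtain ⟨y, hy⟩ := hN
  obtain ⟨x, hx⟩ := H.exists_one hy
  obtain ⟨c, hc⟩ := H.exists_tr ha
  obtain ⟨a1, ha1⟩ := H.exists_S (c • x)
  obtain ⟨b1, hb1⟩ := H.exists_S y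
  have h1 := H.comm ha1 hb1
  rw [H.smul_left, hx, mul_one, hc] at h1
  rw [← h1]
  exact commutator_mem_commutator (H.mem_Q hb1) (H.mem_Q ha1)

/-- The action of a homomorphism on `N = Q/X`. -/
theorem exists_nu (H : Heis σ B X Q S) {α : G → G} (hQ : ∀ q ∈ Q, α q ∈ Q) (hX : ∀ x ∈ X, α x ∈ X)
    (hm : ∀ q ∈ Q, ∀ r ∈ Q, α (q * r) = α q * α r) :
    ∃ ν : N → N, (∀ x y, ν (x + y) = ν x + ν y) ∧
      ∀ x a, a + σ a = B x x → ∃ a', a' + σ a' = B (ν x) (ν x) ∧ α (S x a) = S (ν x) a' := by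
  choose c hc using H.exists_S
  have h1 : ∀ x, ∃ y a', a' + σ a' = B y y ∧ α (S x (c x)) = S y a' := fun x =>
    (H.memQ _).1 (hQ _ (H.mem_Q (hc x)))
  choose ν d hd hν using h1
  have h2 : ∀ x a, a + σ a = B x x → ∃ a', a' + σ a' = B (ν x) (ν x) ∧ α (S x a) = S (ν x) a' := by
    intro x a ha
    have h3 : σ (a + c x) = a + c x := by
      have h4 : (a + c x) + σ (a + c x) = 0 := by
        rw [map_add]
        calc a + c x + (σ a + σ (c x)) = (a + σ a) + (c x + σ (c x)) := by ring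
          _ = 0 := by rw [ha, hc, H.two]
      rw [add_eq_zero_iff_eq_neg, H.neg_eq] at h4
      exact h4.symm
    have h5 : S x a = S x (c x) * S 0 (a + c x) := by
      rw [H.mul_X (hc x) h3]
      congr 1
      linear_combination - (c x) * H.two 1
    obtain ⟨b, hb, eb⟩ := (H.memX _).1 (hX _ (H.mem_X h3))
    refine ⟨d x + b, ?_, ?_⟩
    · rw [map_add, hb]
      calc d x + b + (σ (d x) + b) = (d x + σ (d x)) + (b + b) := by ring
        _ = B (ν x) (ν x) := by rw [hd, H.two, add_zero]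
    · rw [h5, hm _ (H.mem_Q (hc x)) _ (H.XQ (H.mem_X h3)), eb, hν, H.mul_X (hd x) hb]
  refine ⟨ν, fun x y => ?_, h2⟩
  obtain ⟨a1, ha1, e1⟩ := h2 x (c x) (hc x)
  obtain ⟨a2, ha2, e2⟩ := h2 y (c y) (hc y)
  obtain ⟨a3, ha3, e3⟩ := h2 (x + y) _ (H.tr_mul (hc x) (hc y))
  rw [← H.mul _ _ _ _ (hc x) (hc y), hm _ (H.mem_Q (hc x)) _ (H.mem_Q (hc y)), e1, e2,
    H.mul _ _ _ _ ha1 ha2] at e3
  exact (H.eq_iff (H.tr_mul ha1 ha2) ha3 e3).1.symm

end Heis

end Cfsg.Agent.OddHalf.D7.Uni.Ex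

end

-- merged: Cfsg.Agent.OddHalf.D7.Uni.HeisLin
section

/-!
# The Heisenberg group of a point: invariant maps (helper575)

* `Heis.E2` : an additive map `Q/X → X`, `P`-invariant up to inner ones, is inner;
* `Heis.lin` : a 2-element commuting with `P` on `Q/X` is trivial on `Q/X`.
-/

set_option autoImplicit false

namespace Cfsg.Agent.OddHalf.D7.Uni.Ex

open Subgroup

variable {G : Type*} [Group G] {F : Type*} [Field F] {N : Type*} [AddCommGroup N] [Module F N]

/-- `P` contains the transvections. -/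
def HasTr (σ : F →+* F) (B : N → N → F) (P : Subgroup G) (S : N → F → G) : Prop :=
  ∀ e, B e e = 0 → ∃ p ∈ P, ∀ x a, a + σ a = B x x → p * S x a * p⁻¹ = S (x + B x e • e) a

/-- independent vectors -/
def Ind (F : Type*) [Field F] {N : Type*} [AddCommGroup N] [Module F N] (e f : N) : Prop :=
  ∀ c d : F, c • e + d • f = 0 → c = 0 ∧ d = 0

/-- a basis of isotropic vectors, any two orthogonal to a third isotropic vector -/
structure Geo {ι : Type*} (B : N → N → F) (b : Module.Basis ι F N) : Prop where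
  iso : ∀ i, B (b i) (b i) = 0
  com : ∀ i j, ∃ e, B e e = 0 ∧ B (b i) e = 0 ∧ B (b j) e = 0 ∧ Ind F (b i) e ∧ Ind F (b j) e

theorem Ind.ne_left {e f : N} (h : Ind F e f) : e ≠ 0 := by
  rintro rfl
  have := (h 1 0 (by rw [smul_zero, zero_smul, add_zero])).1
  exact one_ne_zero this

theorem Ind.ne_right {e f : N} (h : Ind F e f) : f ≠ 0 := by
  rintro rfl
  have := (h 0 1 (by rw [smul_zero, zero_smul, add_zero])).2
  exact one_ne_zero this

theorem Form.isometry_tr {σ : F →+* F} {B : N → N → F} (H : Form σ B) {e : N} (he : B e e = 0) (x y : N) :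
    B (x + B x e • e) (y + B y e • e) = B x y := by
  rw [H.add_left, H.add_right, H.add_right, H.smul_left, H.smul_left, H.smul_right, H.smul_right, he, mul_zero,
    mul_zero, add_zero, H.symm y e]
  linear_combination (B x e * σ (B y e)) * H.two 1

namespace Heis

variable {σ : F →+* F} {B : N → N → F} {X Q P : Subgroup G} {S : N → F → G}

/-- **E2**: an additive map `Q/X → X`, `P`-invariant up to inner ones, is inner. -/
theorem E2 [Finite N] (H : Heis σ B X Q S) (T : HasTr σ B P S) {ι : Type*} [Fintype ι] {b : Module.Basis ι F N}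
    (hb : ∀ i, B (b i) (b i) = 0) {f : G → G} (hfX : ∀ v ∈ Q, f v ∈ X)
    (hfm : ∀ v ∈ Q, ∀ w ∈ Q, f (v * w) = f v * f w) (hf1 : ∀ x ∈ X, f x = 1)
    (hfP : ∀ p ∈ P, ∃ q ∈ Q, ∀ v ∈ Q, f (p * v * p⁻¹) = f v * (q * v * q⁻¹ * v⁻¹)) :
    ∃ q ∈ Q, ∀ v ∈ Q, f v = q * v * q⁻¹ * v⁻¹ := by
  choose c hc using H.exists_S
  have h1 : ∀ x, ∃ a, σ a = a ∧ f (S x (c x)) = S 0 a := fun x => (H.memX _).1 (hfX _ (H.mem_Q (hc x)))
  choose φ hφ hfφ using h1
  have h2 : ∀ x a, a + σ a = B x x → f (S x a) = S 0 (φ x) := by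
    intro x a ha
    have h3 : σ (a + c x) = a + c x := by
      have h4 : (a + c x) + σ (a + c x) = 0 := by
        rw [map_add]
        calc a + c x + (σ a + σ (c x)) = (a + σ a) + (c x + σ (c x)) := by ring
          _ = 0 := by rw [ha, hc, H.two]
      rw [add_eq_zero_iff_eq_neg, H.neg_eq] at h4
      exact h4.symm
    have h5 : S x a = S x (c x) * S 0 (a + c x) := by
      rw [H.mul_X (hc x) h3]
      congr 1
      linear_combination - (c x) * H.two 1
    rw [h5, hfm _ (H.mem_Q (hc x)) _ (H.XQ (H.mem_X h3)), hf1 _ (H.mem_X h3), mul_one, hfφ]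
  have hadd : ∀ x y, φ (x + y) = φ x + φ y := by
    intro x y
    have h3 := h2 _ _ (H.tr_mul (hc x) (hc y))
    rw [← H.mul _ _ _ _ (hc x) (hc y), hfm _ (H.mem_Q (hc x)) _ (H.mem_Q (hc y)), hfφ, hfφ,
      H.mul_X (H.tr0 (hφ x)) (hφ y)] at h3
    have h4 : σ (φ x + φ y) = φ x + φ y := by rw [map_add, hφ, hφ]
    exact (H.eq_iff (H.tr0 h4) (H.tr0 (hφ _)) h3).2.symm
  -- `φ` is a trace on each isotropic line
  have hline : ∀ e, B e e = 0 → e ≠ 0 → ∃ k : F, ∀ l : F, φ (l • e) = l * k + σ (l * k) := by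
    intro e he he0
    obtain ⟨p, hp, hpS⟩ := T e he
    obtain ⟨q, hq, hqf⟩ := hfP p hp
    obtain ⟨y, d, hd, rfl⟩ := (H.memQ q).1 hq
    obtain ⟨x0, hx0⟩ := H.exists_one he0
    refine ⟨B x0 y, fun l => ?_⟩
    have h3 := hqf _ (H.mem_Q (hc (l • x0)))
    have h4 : c (l • x0) + σ (c (l • x0)) =
        B (l • x0 + B (l • x0) e • e) (l • x0 + B (l • x0) e • e) := by
      rw [H.isometry_tr he]; exact hc _
    have hs := H.tr_sigma (B (l • x0) y)
    rw [hpS _ _ (hc _), h2 _ _ h4, H.comm (hc _) hd, hfφ, H.mul_X (H.tr0 (hφ _)) hs] at h3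
    have h5 : σ (φ (l • x0) + (B (l • x0) y + σ (B (l • x0) y))) =
        φ (l • x0) + (B (l • x0) y + σ (B (l • x0) y)) := by rw [map_add, hφ, hs]
    have h6 := (H.eq_iff (H.tr0 (hφ _)) (H.tr0 h5) h3).2
    rw [hadd, H.smul_left, hx0, mul_one, H.smul_left] at h6
    exact add_left_cancel h6
  have hb0 : ∀ i, b i ≠ 0 := fun i => b.ne_zero i
  choose k hk using fun i => hline (b i) (hb i) (hb0 i)
  -- a vector with prescribed products
  obtain ⟨y, hy⟩ : ∃ y : N, ∀ i, B (b i) y = k i := by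
    have hinj : Function.Injective (fun y : N => fun i => B (b i) y) := by
      intro y y' hyy
      have h3 : ∀ x, B x (y - y') = 0 := by
        intro x
        have hsum : ∀ (s : Finset ι) (g : ι → F) (z : N),
            B (∑ i ∈ s, g i • b i) z = ∑ i ∈ s, g i * B (b i) z := by
          intro s g z
          classical
          induction s using Finset.induction_on with
          | empty => simp [H.zero_left]
          | insert a s ha ih => rw [Finset.sum_insert ha, Finset.sum_insert ha, H.add_left, H.smul_left, ih]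
        rw [← b.sum_repr x, hsum]
        apply Finset.sum_eq_zero
        intro i _
        have h4 : B (b i) y = B (b i) y' := congrFun hyy i
        rw [sub_eq_add_neg, H.neg_eq', H.add_right, h4, H.two, mul_zero]
      exact sub_eq_zero.1 (H.nondeg _ h3)
    have hsur := (Finite.injective_iff_surjective_of_equiv b.equivFun.toEquiv).1 hinj
    obtain ⟨y, hy⟩ := hsur k
    exact ⟨y, fun i => congrFun hy i⟩
  obtain ⟨d, hd⟩ := H.exists_S y
  refine ⟨S y d, H.mem_Q hd, fun v hv => ?_⟩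
  obtain ⟨x, a, ha, rfl⟩ := (H.memQ v).1 hv
  rw [h2 _ _ ha, H.comm ha hd]
  congr 1
  have hsum : ∀ (s : Finset ι) (g : ι → F),
      φ (∑ i ∈ s, g i • b i) = B (∑ i ∈ s, g i • b i) y + σ (B (∑ i ∈ s, g i • b i) y) := by
    intro s g
    classical
    induction s using Finset.induction_on with
    | empty =>
      have h0 : φ 0 = 0 := by
        have := hadd 0 0
        rw [add_zero] at this
        exact (add_eq_left.1 this.symm)
      simp [H.zero_left, h0]
    | insert i s hi ih =>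
      rw [Finset.sum_insert hi, hadd, ih, hk, H.add_left, H.smul_left, hy, map_add]
      ring
  rw [← b.sum_repr x]
  exact hsum _ _

/-- conjugation by an element commuting with `P` modulo `Q` commutes with the transvections of `N` -/
theorem nu_tr (H : Heis σ B X Q S) {α : G → G} {ν : N → N} (hν : ∀ x y, ν (x + y) = ν x + ν y)
    (hα : ∀ x a, a + σ a = B x x → ∃ a', a' + σ a' = B (ν x) (ν x) ∧ α (S x a) = S (ν x) a')
    {e : N} (he : B e e = 0) {p q : G} (hq : q ∈ Q) (hp : ∀ x a, a + σ a = B x x → p * S x a * p⁻¹ = S (x + B x e • e) a)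
    (hαp : ∀ v ∈ Q, α (p * v * p⁻¹) = q * (p * α v * p⁻¹) * q⁻¹) (x : N) : ν (B x e • e) = B (ν x) e • e := by
  obtain ⟨a, ha⟩ := H.exists_S x
  obtain ⟨a', ha', e1⟩ := hα x a ha
  have h1 : a + σ a = B (x + B x e • e) (x + B x e • e) := by rw [H.isometry_tr he]; exact ha
  obtain ⟨a'', ha'', e2⟩ := hα _ a h1
  obtain ⟨y, b, hb, rfl⟩ := (H.memQ q).1 hq
  have h2 : a' + σ a' = B (ν x + B (ν x) e • e) (ν x + B (ν x) e • e) := by rw [H.isometry_tr he]; exact ha'
  have h3 := hαp _ (H.mem_Q ha)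
  rw [hp _ _ ha, e2, e1, hp _ _ ha', H.conj h2 hb] at h3
  have h4 : (a' + (B (ν x + B (ν x) e • e) y + σ (B (ν x + B (ν x) e • e) y))) +
      σ (a' + (B (ν x + B (ν x) e • e) y + σ (B (ν x + B (ν x) e • e) y))) =
      B (ν x + B (ν x) e • e) (ν x + B (ν x) e • e) := by
    rw [map_add, H.tr_sigma, ← h2]
    linear_combination (B (ν x + B (ν x) e • e) y + σ (B (ν x + B (ν x) e • e) y)) * H.two 1
  have h5 := (H.eq_iff ha'' h4 h3).1
  rw [hν] at h5
  exact add_left_cancel h5

/-- **Schur**: an additive map commuting with the transvections is a scalar. -/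
theorem _root_.Cfsg.Agent.OddHalf.D7.Uni.Ex.Form.schur (H : Form σ B) {ν : N → N}
    (hν : ∀ x y, ν (x + y) = ν x + ν y)
    (hc : ∀ e, B e e = 0 → ∀ x, ν (B x e • e) = B (ν x) e • e) {ι : Type*} [Fintype ι] [Nonempty ι]
    {b : Module.Basis ι F N} (g : Geo B b) : ∃ k : F, ∀ x, ν x = k • x := by
  -- the action on an isotropic line
  have h1 : ∀ e, B e e = 0 → e ≠ 0 → ∃ m : F → F, ∀ l, ν (l • e) = m l • e := by
    intro e he he0
    obtain ⟨x0, hx0⟩ := H.exists_one he0
    refine ⟨fun l => B (ν (l • x0)) e, fun l => ?_⟩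
    have := hc e he (l • x0)
    rwa [H.smul_left, hx0, mul_one] at this
  choose! m hm using h1
  -- two orthogonal independent vectors
  have h2 : ∀ e f, B e e = 0 → B f f = 0 → B e f = 0 → Ind F e f → ∀ l μ, m f (μ * l) = l * m e μ := by
    intro e f he hf hef hi l μ
    have h3 : B (e + l • f) (e + l • f) = 0 := by
      rw [H.add_left, H.add_right, H.add_right, H.smul_left, H.smul_left, H.smul_right, H.smul_right, he, hf, hef,
        H.swap hef]
      simp
    have h4 : e + l • f ≠ 0 := by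
      intro h
      have := (hi 1 l (by rw [one_smul]; exact h)).1
      exact one_ne_zero this
    have h5 := hm _ h3 h4 μ
    have h6 : ν (μ • (e + l • f)) = m e μ • e + m f (μ * l) • f := by
      rw [smul_add, hν, hm e he hi.ne_left, smul_smul, hm f hf hi.ne_right]
    rw [h6, smul_add, smul_smul] at h5
    have h7 := hi (m e μ - m (e + l • f) μ) (m f (μ * l) - m (e + l • f) μ * l) (by
      rw [sub_smul, sub_smul]
      have : m e μ • e + m f (μ * l) • f - (m (e + l • f) μ • e + (m (e + l • f) μ * l) • f) = 0 := by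
        rw [h5, sub_self]
      rw [← this]; abel)
    rw [sub_eq_zero.1 h7.2, ← sub_eq_zero.1 h7.1, mul_comm]
  have h3 : ∀ e f, B e e = 0 → B f f = 0 → B e f = 0 → Ind F e f → ∀ l, m e l = l * m e 1 ∧ m f l = l * m e 1 := by
    intro e f he hf hef hi l
    have h4 := h2 e f he hf hef hi l 1
    rw [one_mul] at h4
    have h5 := h2 e f he hf hef hi 1 l
    rw [mul_one, one_mul] at h5
    exact ⟨by rw [← h5, h4], h4⟩
  obtain ⟨i0⟩ := ‹Nonempty ι›
  refine ⟨m (b i0) 1, fun x => ?_⟩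
  have h4 : ∀ i l, m (b i) l = l * m (b i0) 1 := by
    intro i l
    obtain ⟨e, he, he1, he2, hi1, hi2⟩ := g.com i0 i
    have h5 := h3 (b i0) e (g.iso i0) he he1 hi1
    have h6 := h3 (b i) e (g.iso i) he he2 hi2
    rw [(h6 l).1]
    have h7 : m (b i) 1 = m (b i0) 1 := by
      have h8 := (h5 1).2
      have h9 := (h6 1).2
      rw [one_mul] at h8 h9
      rw [← h8, ← h9]
    rw [h7]
  have hsum : ∀ (s : Finset ι) (g : ι → F), ν (∑ i ∈ s, g i • b i) = m (b i0) 1 • ∑ i ∈ s, g i • b i := by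
    intro s c
    classical
    induction s using Finset.induction_on with
    | empty =>
      have h0 : ν 0 = 0 := by
        have := hν 0 0
        rw [add_zero] at this
        exact (add_eq_left.1 this.symm)
      simp [h0]
    | insert i s hi ih =>
      rw [Finset.sum_insert hi, hν, ih, hm _ (g.iso i) (b.ne_zero i), h4, smul_add, smul_smul, mul_comm]
  rw [← b.sum_repr x]
  exact hsum _ _

/-- **lin**: a 2-element commuting with `P` on `Q/X` is trivial on `Q/X`. -/
theorem lin (H : Heis σ B X Q S) (T : HasTr σ B P S) {ι : Type*} [Fintype ι] [Nonempty ι]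
    {b : Module.Basis ι F N} (g : Geo B b) {n : G} (hn : IsPGroup 2 (zpowers n)) (hnQ : ∀ q ∈ Q, n * q * n⁻¹ ∈ Q)
    (hnX : ∀ x ∈ X, n * x * n⁻¹ ∈ X) (hnP : ∀ p ∈ P, n * p * n⁻¹ * p⁻¹ ∈ Q) :
    ∀ q ∈ Q, n * q * n⁻¹ * q⁻¹ ∈ X := by
  obtain ⟨ν, hν, hα⟩ := H.exists_nu (α := fun q => n * q * n⁻¹) hnQ hnX (fun q _ r _ => by group)
  obtain ⟨k, hk⟩ := H.schur hν (fun e he x => by
    obtain ⟨p, hp, hpS⟩ := T e he
    refine H.nu_tr (α := fun q => n * q * n⁻¹) hν hα he (hnP p hp) hpS (fun v _ => ?_) x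
    group) g
  -- powers of `n`
  have hpow : ∀ j : ℕ, ∀ x a, a + σ a = B x x →
      ∃ a', a' + σ a' = B (k ^ j • x) (k ^ j • x) ∧ n ^ j * S x a * (n ^ j)⁻¹ = S (k ^ j • x) a' := by
    intro j
    induction j with
    | zero =>
      intro x a ha
      exact ⟨a, by rw [pow_zero, one_smul]; exact ha, by rw [pow_zero, pow_zero, one_smul]; group⟩
    | succ j ih =>
      intro x a ha
      obtain ⟨a1, ha1, e1⟩ := ih x a ha
      obtain ⟨a2, ha2, e2⟩ := hα _ a1 ha1
      rw [hk, smul_smul, ← pow_succ'] at ha2 e2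
      refine ⟨a2, ha2, ?_⟩
      rw [← e2, ← e1, pow_succ']
      group
  obtain ⟨r, hr⟩ := hn ⟨n, mem_zpowers n⟩
  have hr' : n ^ 2 ^ r = 1 := congrArg Subtype.val hr
  obtain ⟨i0⟩ := ‹Nonempty ι›
  have hkr : k ^ 2 ^ r = 1 := by
    obtain ⟨a, ha⟩ := H.exists_S (b i0)
    obtain ⟨a', ha', e⟩ := hpow (2 ^ r) _ a ha
    rw [hr', one_mul, inv_one, mul_one] at e
    have h1 := (H.eq_iff ha ha' e).1
    have h2 : (k ^ 2 ^ r - 1) • b i0 = 0 := by rw [sub_smul, ← h1, one_smul, sub_self]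
    rcases smul_eq_zero.1 h2 with h3 | h3
    · exact sub_eq_zero.1 h3
    · exact absurd h3 (b.ne_zero i0)
  have hk1 : k = 1 := by
    clear hr hr' hpow
    have hsq : ∀ y : F, y ^ 2 = 1 → y = 1 := by
      intro y hy
      have h1 : (y + 1) ^ 2 = 0 := by linear_combination hy + (y + 1) * H.two 1
      have h2 : y + 1 = 0 := by
        exact pow_eq_zero_iff (two_ne_zero) |>.1 h1
      rw [add_eq_zero_iff_eq_neg, H.neg_eq] at h2
      exact h2
    induction r with
    | zero => rwa [pow_zero, pow_one] at hkr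
    | succ r ih =>
      apply ih
      apply hsq
      rw [← pow_mul, ← pow_succ]
      exact hkr
  subst hk1
  intro q hq
  obtain ⟨x, a, ha, rfl⟩ := (H.memQ q).1 hq
  obtain ⟨a', ha', e⟩ := hα x a ha
  rw [hk, one_smul] at ha' e
  rw [show n * S x a * n⁻¹ = S x a' from e]
  have h1 : σ (a' + a) = a' + a := by
    have h4 : (a' + a) + σ (a' + a) = 0 := by
      rw [map_add]
      calc a' + a + (σ a' + σ a) = (a' + σ a') + (a + σ a) := by ring
        _ = 0 := by rw [ha, ha', H.two]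
    rw [add_eq_zero_iff_eq_neg, H.neg_eq] at h4
    exact h4.symm
  have h2 : S x a' = S 0 (a' + a) * S x a := by
    rw [H.X_mul ha h1]
    congr 1
    linear_combination - a * H.two 1
  rw [h2, mul_inv_cancel_right]
  exact H.mem_X h1

end Heis

end Cfsg.Agent.OddHalf.D7.Uni.Ex

end

-- merged: Cfsg.Agent.OddHalf.D7.Uni.HeisSemi
section

/-!
# The Heisenberg group of a point: maps normalising `P` are semilinear (helper575)

* `Form.semi` : an additive bijection of `N` normalising a group of linear isometries that contains the transvections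
  is semilinear;
* `Heis.semi` : the same for a map of `G` normalising `P`;
* `Heis.form` : it preserves the form up to the field automorphism, if it is trivial on `X` and `|X| = 2`.
-/

set_option autoImplicit false

namespace Cfsg.Agent.OddHalf.D7.Uni.Ex

open Subgroup

variable {G : Type*} [Group G] {F : Type*} [Field F] {N : Type*} [AddCommGroup N] [Module F N]

/-- a linear isometry -/
structure Iso' (B : N → N → F) (g : N → N) : Prop where
  add : ∀ x y, g (x + y) = g x + g y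
  smul : ∀ (c : F) x, g (c • x) = c • g x
  iso : ∀ x y, B (g x) (g y) = B x y

/-- an additive bijection `ν` (inverse `μ`) such that `ν T_e μ` is a linear isometry for every transvection `T_e`, is
semilinear -/
theorem Form.semi {σ : F →+* F} {B : N → N → F} [Finite F] (H : Form σ B) {ν μ : N → N}
    (hν : ∀ x y, ν (x + y) = ν x + ν y) (hμν : ∀ x, μ (ν x) = x) (hνμ : ∀ x, ν (μ x) = x)
    (hc : ∀ e, B e e = 0 → Iso' B (fun x => ν (μ x + B (μ x) e • e))) {ι : Type*} [Fintype ι] [Nonempty ι]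
    {b : Module.Basis ι F N} (g : Geo B b) :
    ∃ τ : F →+* F, ∀ (l : F) x, ν (l • x) = τ l • ν x := by
  have hμ : ∀ x y, μ (x + y) = μ x + μ y := by
    intro x y
    rw [← hμν (μ x + μ y), hν, hνμ, hνμ]
  have hν0 : ν 0 = 0 := by
    have := hν 0 0
    rw [add_zero] at this
    exact (add_eq_left.1 this.symm)
  have hinj : ∀ x, ν x = 0 → x = 0 := fun x h => by
    rw [← hμν x, h]
    conv_lhs => rw [← hν0]
    exact hμν 0
  -- the image of an isotropic line is a line
  have h1 : ∀ e, B e e = 0 → e ≠ 0 → (∀ c : F, ∃ l : F, c • ν e = ν (l • e)) := by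
    intro e he he0 c
    obtain ⟨x0, hx0⟩ := H.exists_one he0
    have hI := hc e he
    have h2 : ∀ x : N, ν (μ x + B (μ x) e • e) = x + ν (B (μ x) e • e) := fun x => by rw [hν, hνμ]
    have h3 := hI.smul c (ν x0)
    simp only [h2] at h3
    rw [hμν, hx0, one_smul, smul_add] at h3
    exact ⟨B (μ (c • ν x0)) e, (add_left_cancel h3).symm⟩
  have h2 : ∀ e, B e e = 0 → e ≠ 0 → ∃ m : F → F, ∀ l, ν (l • e) = m l • ν e := by
    intro e he he0
    choose l hl using h1 e he he0
    have hne : ν e ≠ 0 := fun h => he0 (hinj e h)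
    have hli : Function.Injective l := by
      intro c c' hcc
      have h3 : (c - c') • ν e = 0 := by rw [sub_smul, hl, hl, hcc, sub_self]
      rcases smul_eq_zero.1 h3 with h4 | h4
      · exact sub_eq_zero.1 h4
      · exact absurd h4 hne
    have hls := Finite.injective_iff_surjective.1 hli
    choose m hm using hls
    exact ⟨m, fun c => by rw [hl, hm]⟩
  choose! m hm using h2
  have hm1 : ∀ e, B e e = 0 → e ≠ 0 → m e 1 = 1 := by
    intro e he he0
    have h3 := hm e he he0 1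
    rw [one_smul] at h3
    have h4 : (m e 1 - 1) • ν e = 0 := by rw [sub_smul, one_smul, ← h3, sub_self]
    rcases smul_eq_zero.1 h4 with h5 | h5
    · exact sub_eq_zero.1 h5
    · exact absurd (hinj e h5) he0
  -- two orthogonal independent vectors
  have h2 : ∀ e f, B e e = 0 → B f f = 0 → B e f = 0 → Ind F e f →
      ∀ l c, m f (c * l) = m e c * m f l := by
    intro e f he hf hef hi l c
    have hiν : Ind F (ν e) (ν f) := by
      intro a d had
      obtain ⟨a', ha'⟩ := h1 e he hi.ne_left a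
      obtain ⟨d', hd'⟩ := h1 f hf hi.ne_right d
      rw [ha', hd', ← hν] at had
      obtain ⟨h5, h6⟩ := hi _ _ (hinj _ had)
      rw [h5, zero_smul, hν0] at ha'
      rw [h6, zero_smul, hν0] at hd'
      refine ⟨?_, ?_⟩
      · rcases smul_eq_zero.1 ha' with h7 | h7
        · exact h7
        · exact absurd (hinj e h7) hi.ne_left
      · rcases smul_eq_zero.1 hd' with h7 | h7
        · exact h7
        · exact absurd (hinj f h7) hi.ne_right
    have h3 : B (e + l • f) (e + l • f) = 0 := by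
      rw [H.add_left, H.add_right, H.add_right, H.smul_left, H.smul_left, H.smul_right, H.smul_right, he, hf, hef,
        H.swap hef]
      simp
    have h4 : e + l • f ≠ 0 := by
      intro h
      have := (hi 1 l (by rw [one_smul]; exact h)).1
      exact one_ne_zero this
    have h5 := hm _ h3 h4 c
    rw [smul_add, hν, hm e he hi.ne_left, smul_smul, hm f hf hi.ne_right, hν, hm f hf hi.ne_right, smul_add,
      smul_smul] at h5
    have h7 := hiν (m e c - m (e + l • f) c) (m f (c * l) - m (e + l • f) c * m f l) (by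
      rw [sub_smul, sub_smul]
      have : m e c • ν e + m f (c * l) • ν f - (m (e + l • f) c • ν e + (m (e + l • f) c * m f l) • ν f) = 0 := by
        rw [h5, sub_self]
      rw [← this]; abel)
    rw [sub_eq_zero.1 h7.2, ← sub_eq_zero.1 h7.1]
  have h3 : ∀ e f, B e e = 0 → B f f = 0 → B e f = 0 → Ind F e f → ∀ c, m f c = m e c := by
    intro e f he hf hef hi c
    have h4 := h2 e f he hf hef hi 1 c
    rwa [mul_one, hm1 f hf hi.ne_right, mul_one] at h4
  obtain ⟨i0⟩ := ‹Nonempty ι›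
  have h4 : ∀ i c, m (b i) c = m (b i0) c := by
    intro i c
    obtain ⟨e, he, he1, he2, hi1, hi2⟩ := g.com i0 i
    rw [← h3 (b i0) e (g.iso i0) he he1 hi1, ← h3 (b i) e (g.iso i) he he2 hi2]
  have hmul : ∀ c l, m (b i0) (c * l) = m (b i0) c * m (b i0) l := by
    intro c l
    obtain ⟨e, he, he1, he2, hi1, hi2⟩ := g.com i0 i0
    have h5 := h2 (b i0) e (g.iso i0) he he1 hi1 l c
    rwa [h3 (b i0) e (g.iso i0) he he1 hi1, h3 (b i0) e (g.iso i0) he he1 hi1] at h5
  have hb0 := b.ne_zero i0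
  have hadd : ∀ c l, m (b i0) (c + l) = m (b i0) c + m (b i0) l := by
    intro c l
    have h5 := hm _ (g.iso i0) hb0 (c + l)
    rw [add_smul, hν, hm _ (g.iso i0) hb0, hm _ (g.iso i0) hb0, ← add_smul] at h5
    have h6 : (m (b i0) (c + l) - (m (b i0) c + m (b i0) l)) • ν (b i0) = 0 := by
      rw [sub_smul, h5, sub_self]
    rcases smul_eq_zero.1 h6 with h7 | h7
    · exact sub_eq_zero.1 h7
    · exact absurd (hinj _ h7) hb0
  have hzero : m (b i0) 0 = 0 := by
    have := hadd 0 0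
    rw [add_zero] at this
    exact (add_eq_left.1 this.symm)
  let τ : F →+* F :=
    { toFun := m (b i0)
      map_one' := hm1 _ (g.iso i0) hb0
      map_mul' := hmul
      map_zero' := hzero
      map_add' := hadd }
  refine ⟨τ, fun l x => ?_⟩
  have hsum : ∀ (s : Finset ι) (c : ι → F), ν (l • ∑ i ∈ s, c i • b i) = τ l • ν (∑ i ∈ s, c i • b i) := by
    intro s c
    classical
    induction s using Finset.induction_on with
    | empty => simp [hν0]
    | insert i s hi ih =>
      rw [Finset.sum_insert hi, smul_add, hν, ih, hν, smul_add, smul_smul, hm _ (g.iso i) (b.ne_zero i),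
        hm _ (g.iso i) (b.ne_zero i), h4, h4 i (c i), hmul, smul_smul]
      rfl
  rw [← b.sum_repr x]
  exact hsum _ _

/-- the action of `P` on `N` is linear and isometric -/
def Lin' (σ : F →+* F) (B : N → N → F) (P : Subgroup G) (S : N → F → G) : Prop :=
  ∀ p ∈ P, ∃ g : N → N, Iso' B g ∧
    ∀ x a, a + σ a = B x x → ∃ a', a' + σ a' = B (g x) (g x) ∧ p * S x a * p⁻¹ = S (g x) a'

namespace Heis

variable {σ : F →+* F} {B : N → N → F} {X Q P : Subgroup G} {S : N → F → G}

/-- **semi**: an automorphism `α` (inverse `β`) of `Q` normalising `P` acts semilinearly on `N = Q/X`. -/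
theorem semi [Finite F] (H : Heis σ B X Q S) (T : HasTr σ B P S) (L : Lin' σ B P S) {ι : Type*} [Fintype ι]
    [Nonempty ι] {b : Module.Basis ι F N} (g : Geo B b) {α β : G → G} (hαQ : ∀ q ∈ Q, α q ∈ Q)
    (hαX : ∀ x ∈ X, α x ∈ X) (hαm : ∀ q ∈ Q, ∀ r ∈ Q, α (q * r) = α q * α r) (hβQ : ∀ q ∈ Q, β q ∈ Q)
    (hβX : ∀ x ∈ X, β x ∈ X) (hβm : ∀ q ∈ Q, ∀ r ∈ Q, β (q * r) = β q * β r)
    (hβα : ∀ q ∈ Q, β (α q) = q) (hαβ : ∀ q ∈ Q, α (β q) = q)
    (hP : ∀ p ∈ P, ∃ p' ∈ P, ∀ v ∈ Q, α (p * β v * p⁻¹) = p' * v * p'⁻¹) :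
    ∃ ν μ : N → N, ∃ τ : F →+* F, (∀ x y, ν (x + y) = ν x + ν y) ∧ (∀ x, μ (ν x) = x) ∧ (∀ x, ν (μ x) = x) ∧
      (∀ (l : F) x, ν (l • x) = τ l • ν x) ∧
      ∀ x a, a + σ a = B x x → ∃ a', a' + σ a' = B (ν x) (ν x) ∧ α (S x a) = S (ν x) a' := by
  obtain ⟨ν, hν, hα⟩ := H.exists_nu hαQ hαX hαm
  obtain ⟨μ, hμ, hβ⟩ := H.exists_nu hβQ hβX hβm
  have hμν : ∀ x, μ (ν x) = x := by
    intro x
    obtain ⟨a, ha⟩ := H.exists_S x
    obtain ⟨a1, ha1, e1⟩ := hα x a ha
    obtain ⟨a2, ha2, e2⟩ := hβ _ _ ha1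
    rw [← e1, hβα _ (H.mem_Q ha)] at e2
    exact (H.eq_iff ha ha2 e2).1.symm
  have hνμ : ∀ x, ν (μ x) = x := by
    intro x
    obtain ⟨a, ha⟩ := H.exists_S x
    obtain ⟨a1, ha1, e1⟩ := hβ x a ha
    obtain ⟨a2, ha2, e2⟩ := hα _ _ ha1
    rw [← e1, hαβ _ (H.mem_Q ha)] at e2
    exact (H.eq_iff ha ha2 e2).1.symm
  obtain ⟨τ, hτ⟩ := H.toForm.semi hν hμν hνμ (fun e he => by
    obtain ⟨p, hp, hpS⟩ := T e he
    obtain ⟨p', hp', hpp⟩ := hP p hp
    obtain ⟨r, hr, hrS⟩ := L p' hp'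
    have hfun : (fun x => ν (μ x + B (μ x) e • e)) = r := by
      funext x
      obtain ⟨a, ha⟩ := H.exists_S x
      obtain ⟨a1, ha1, e1⟩ := hβ x a ha
      have h1 : a1 + σ a1 = B (μ x + B (μ x) e • e) (μ x + B (μ x) e • e) := by
        rw [H.isometry_tr he]; exact ha1
      obtain ⟨a2, ha2, e2⟩ := hα _ a1 h1
      obtain ⟨a3, ha3, e3⟩ := hrS x a ha
      have h2 := hpp _ (H.mem_Q ha)
      rw [e1, hpS _ _ ha1, e2, e3] at h2
      exact (H.eq_iff ha2 ha3 h2).1
    rw [hfun]
    exact hr) g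
  exact ⟨ν, μ, τ, hν, hμν, hνμ, hτ, hα⟩

/-- **form**: the semilinear map preserves the form up to `τ`, if `|X| = 2`. -/
theorem form [Finite F] (H : Heis σ B X Q S) (hF0 : ∀ c : F, σ c = c → c = 0 ∨ c = 1) {α : G → G}
    (hαm : ∀ q ∈ Q, ∀ r ∈ Q, α (q * r) = α q * α r) (hαX : ∀ x ∈ X, α x = x) {ν : N → N} {τ : F →+* F}
    (hτ : ∀ (l : F) x, ν (l • x) = τ l • ν x)
    (hα : ∀ x a, a + σ a = B x x → ∃ a', a' + σ a' = B (ν x) (ν x) ∧ α (S x a) = S (ν x) a') (x y : N) :
    B (ν x) (ν y) = τ (B x y) := by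
  have htr : ∀ x y, B (ν x) (ν y) + σ (B (ν x) (ν y)) = B x y + σ (B x y) := by
    intro x y
    obtain ⟨a, ha⟩ := H.exists_S x
    obtain ⟨b, hb⟩ := H.exists_S y
    obtain ⟨a', ha', e1⟩ := hα x a ha
    obtain ⟨b', hb', e2⟩ := hα y b hb
    have h1 := H.comm ha hb
    have h2 := H.comm ha' hb'
    have hx := H.mem_Q ha
    have hy := H.mem_Q hb
    have hs := H.mem_X (H.tr_sigma (B x y))
    -- `y x = [y, x] x y`
    have h3 : S y b * S x a = S 0 (B x y + σ (B x y)) * (S x a * S y b) := by rw [← h1]; group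
    have h4 := congrArg α h3
    rw [hαm _ hy _ hx, hαm _ (H.XQ hs) _ (mul_mem hx hy), hαm _ hx _ hy, hαX _ hs, e1, e2] at h4
    have h5 : S (ν y) b' * S (ν x) a' = S 0 (B (ν x) (ν y) + σ (B (ν x) (ν y))) * (S (ν x) a' * S (ν y) b') := by
      rw [← h2]; group
    rw [h5] at h4
    exact (H.eq_iff (H.tr0 (H.tr_sigma _)) (H.tr0 (H.tr_sigma _)) (mul_right_cancel h4)).2
  -- `τ` commutes with `σ`
  have hτ1 : ∀ c, σ c = c → τ c = c := by
    intro c hc
    rcases hF0 c hc with h | h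
    · rw [h, map_zero]
    · rw [h, map_one]
  have hcomm : ∀ c, τ (σ c) = σ (τ c) := by
    intro c
    have h1 := hτ1 _ (H.tr_sigma c)
    rw [map_add] at h1
    have hfix : ∀ c : F, σ c ≠ c → σ c = c + 1 := by
      intro c hc
      rcases hF0 _ (H.tr_sigma c) with h | h
      · exfalso; apply hc
        rw [add_eq_zero_iff_eq_neg, H.neg_eq] at h
        exact h.symm
      · calc σ c = (c + σ c) + c := by linear_combination - c * H.two 1
          _ = c + 1 := by rw [h, add_comm]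
    by_cases hc : σ c = c
    · rw [hc, hτ1 c hc, hc]
    · have h2 := hfix c hc
      have h3 : σ (τ c) ≠ τ c := by
        intro h4
        have h5 : c = 0 ∨ c = 1 := by
          rcases hF0 _ h4 with h | h
          · left; exact (map_eq_zero τ).1 h
          · right; exact τ.injective (by rw [h, map_one])
        rcases h5 with h | h
        · rw [h, map_zero] at hc; exact hc rfl
        · rw [h, map_one] at hc; exact hc rfl
      rw [h2, hfix _ h3, map_add, map_one]
  have hτs : Function.Surjective τ := Finite.injective_iff_surjective.1 τ.injective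
  have key : B (ν x) (ν y) + τ (B x y) = 0 := by
    apply H.tr_nondeg
    intro l
    obtain ⟨l, rfl⟩ := hτs l
    have h1 := htr (l • x) y
    rw [hτ, H.smul_left, H.smul_left] at h1
    have h2 : τ l * τ (B x y) + σ (τ l * τ (B x y)) = l * B x y + σ (l * B x y) := by
      rw [← map_mul, ← hcomm, ← map_add]
      exact hτ1 _ (H.tr_sigma _)
    calc τ l * (B (ν x) (ν y) + τ (B x y)) + σ (τ l * (B (ν x) (ν y) + τ (B x y)))
        = (τ l * B (ν x) (ν y) + σ (τ l * B (ν x) (ν y))) + (τ l * τ (B x y) + σ (τ l * τ (B x y))) := by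
          rw [mul_add, map_add]; ring
      _ = 0 := by rw [h1, h2, H.two]
  rw [add_eq_zero_iff_eq_neg, H.neg_eq] at key
  exact key

end Heis

end Cfsg.Agent.OddHalf.D7.Uni.Ex

end
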