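import Cfsg.Agent.OddHalf.D7.Uni.Defs
import Mathlib
import Cfsg.Agent.OddHalf.D7.Uni.Evl
import Cfsg.Agent.KFacts.Unit.Cent
import Cfsg.Agent.OddHalf.D7.Uni.PlaneCore
import Cfsg.Agent.OddHalf.D7.Uni.FaceInst
import Cfsg.Agent.KFacts.Unit.GLAct

-- merged: Cfsg.Agent.OddHalf.D7.Uni.Line
section

/-!
# One totally isotropic line (helper54, text: bb ODD 9100 (3))

* `Comm`: `[W p, W r] = 1` or (only for `q = 2`) the commutator is `np 1 * nr 1`.
-/

set_option autoImplicit false
set_option linter.unusedSectionVars false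

namespace Cfsg.Agent.OddHalf.D7.Uni.Line

open Cfsg.Agent.OddHalf.D7.Uni.Defs

variable {G : Type*} [Group G] {F : Type*} [Field F] {σ : F →+* F} {t : G} {np nr m g : F → G}

section coord

variable (C : Coord σ t np nr m g)

include C

theorem eq_of_add {x y : F} (h : x + y = 0) : x = y := by
  have := C.two y
  have h2 : x + y = y + y := by rw [h, this]
  exact add_right_cancel h2

theorem np_zero : np 0 = 1 := by
  have := C.np_add 0 0 (map_zero _) (map_zero _)
  simpa using this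

theorem nr_zero : nr 0 = 1 := by
  have := C.nr_add 0 0 (map_zero _) (map_zero _)
  simpa using this

theorem m_zero : m 0 = 1 := by
  have := C.m_add 0 0
  simpa using this

theorem g_zero : g 0 = 1 := by
  have := C.g_add 0 0
  simpa using this

theorem np_sq {x : F} (hx : σ x = x) : np x * np x = 1 := by
  rw [← C.np_add x x hx hx, C.two, np_zero C]

theorem nr_sq {x : F} (hx : σ x = x) : nr x * nr x = 1 := by
  rw [← C.nr_add x x hx hx, C.two, nr_zero C]

theorem m_sq (x : F) : m x * m x = 1 := by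
  rw [← C.m_add x x, C.two, m_zero C]

theorem g_sq (x : F) : g x * g x = 1 := by
  rw [← C.g_add x x, C.two, g_zero C]

theorem g_inv (x : F) : (g x)⁻¹ = g x := inv_eq_of_mul_eq_one_left (g_sq C x)

theorem fix_add {x y : F} (hx : σ x = x) (hy : σ y = y) : σ (x + y) = x + y := by
  rw [map_add, hx, hy]

theorem fix_tr (x y : F) : σ (x * σ y + σ x * y) = x * σ y + σ x * y := by
  rw [map_add, map_mul, map_mul, C.σσ, C.σσ, add_comm]

theorem fix_norm {y : F} (l : F) (hy : σ y = y) : σ (l * σ l * y) = l * σ l * y := by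
  rw [map_mul, map_mul, C.σσ, hy, mul_comm (σ l) l]

theorem A_mul {x y x' y' : F} (μ μ' : F) (hx : σ x = x) (hy : σ y = y) (hx' : σ x' = x') (hy' : σ y' = y') :
    np x * m μ * nr y * (np x' * m μ' * nr y') = np (x + x') * m (μ + μ') * nr (y + y') := by
  rw [C.np_add _ _ hx hx', C.nr_add _ _ hy hy', C.m_add]
  have e1 : nr y * np x' = np x' * nr y := (C.np_nr x' y hx' hy).symm
  have e2 : nr y * m μ' = m μ' * nr y := (C.m_nr μ' y hy).symm
  have e3 : m μ * np x' = np x' * m μ := (C.np_m x' μ hx').symm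
  calc np x * m μ * nr y * (np x' * m μ' * nr y') = np x * m μ * (nr y * np x') * m μ' * nr y' := by
        simp only [mul_assoc]
    _ = np x * (m μ * np x') * (nr y * m μ') * nr y' := by rw [e1]; simp only [mul_assoc]
    _ = _ := by rw [e2, e3]; simp only [mul_assoc]

theorem A_inj {x y x' y' μ μ' : F} (hx : σ x = x) (hy : σ y = y) (hx' : σ x' = x') (hy' : σ y' = y')
    (h : np x * m μ * nr y = np x' * m μ' * nr y') : x = x' ∧ μ = μ' ∧ y = y' := by
  have h1 : np x * m μ * nr y * (np x' * m μ' * nr y') = 1 := by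
    rw [h, A_mul C μ' μ' hx' hy' hx' hy', C.two, C.two, C.two, np_zero C, m_zero C, nr_zero C]
    simp
  rw [A_mul C μ μ' hx hy hx' hy'] at h1
  obtain ⟨e1, e2, e3⟩ := C.inj _ _ _ (fix_add C hx hx') (fix_add C hy hy') h1
  exact ⟨eq_of_add C e1, eq_of_add C e2, eq_of_add C e3⟩

theorem A_comm {x y x' y' : F} (μ μ' : F) (hx : σ x = x) (hy : σ y = y) (hx' : σ x' = x') (hy' : σ y' = y') :
    np x * m μ * nr y * (np x' * m μ' * nr y') = np x' * m μ' * nr y' * (np x * m μ * nr y) := by
  rw [A_mul C μ μ' hx hy hx' hy', A_mul C μ' μ hx' hy' hx hy, add_comm x, add_comm μ, add_comm y]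

theorem A_sq {x y : F} (μ : F) (hx : σ x = x) (hy : σ y = y) :
    np x * m μ * nr y * (np x * m μ * nr y) = 1 := by
  rw [A_mul C μ μ hx hy hx hy, C.two, C.two, C.two, np_zero C, m_zero C, nr_zero C]
  simp

theorem A_inv {x y : F} (μ : F) (hx : σ x = x) (hy : σ y = y) :
    (np x * m μ * nr y)⁻¹ = np x * m μ * nr y := inv_eq_of_mul_eq_one_left (A_sq C μ hx hy)

theorem g_A {x y : F} (l μ : F) (hx : σ x = x) (hy : σ y = y) :
    g l * (np x * m μ * nr y) * (g l)⁻¹ =
      np (x + (l * σ μ + σ l * μ) + l * σ l * y) * m (μ + l * y) * nr y := by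
  have e : g l * (np x * m μ * nr y) * (g l)⁻¹ =
      (g l * np x * (g l)⁻¹) * (g l * m μ * (g l)⁻¹) * (g l * nr y * (g l)⁻¹) := by group
  rw [e, C.g_np l x hx, C.g_m, C.g_nr l y hy]
  have h1 := A_mul C μ (l * y) hx (map_zero σ) (fix_norm C l hy) hy
  have h2 := A_mul C 0 (μ + l * y) (fix_tr C l μ) (map_zero σ) (fix_add C hx (fix_norm C l hy)) (hy)
  rw [nr_zero C, mul_one, zero_add] at h1
  rw [m_zero C, nr_zero C, mul_one, mul_one, zero_add, zero_add] at h2
  have h3 : np x * (m μ * np (l * σ μ + σ l * μ)) * (nr y * m (l * y) * np (l * σ l * y)) =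
      np (l * σ μ + σ l * μ) * (np x * m μ * (np (l * σ l * y) * m (l * y) * nr y)) := by
    have e1 : m μ * np (l * σ μ + σ l * μ) = np (l * σ μ + σ l * μ) * m μ := (C.np_m _ _ (fix_tr C l μ)).symm
    have e2 : np x * np (l * σ μ + σ l * μ) = np (l * σ μ + σ l * μ) * np x := by
      rw [← C.np_add _ _ hx (fix_tr C l μ), add_comm, C.np_add _ _ (fix_tr C l μ) hx]
    have e3 : nr y * m (l * y) * np (l * σ l * y) = np (l * σ l * y) * m (l * y) * nr y := by
      rw [← C.m_nr _ _ hy, mul_assoc, ← C.np_nr _ _ (fix_norm C l hy) hy, ← mul_assoc, ← C.np_m _ _ (fix_norm C l hy)]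
    rw [e3, e1, ← mul_assoc (np x), e2]
    simp only [mul_assoc]
  rw [h3, h1, h2]
  congr 3
  ring

end coord

section line

variable {OE Wp Wr : Subgroup G} (L : Line σ t OE Wp Wr np nr m g)

include L

/-- `A_E` centralises `W p`. -/
theorem p_A {w : G} (hw : w ∈ Wp) {x y : F} (μ : F) (hx : σ x = x) (hy : σ y = y) :
    w * (np x * m μ * nr y) = np x * m μ * nr y * w := by
  have h1 := L.dp.cn w hw x hx
  have h2 := L.p_m w hw μ
  have h3 := L.p_nr w hw y hy
  calc w * (np x * m μ * nr y) = (w * np x) * m μ * nr y := by simp only [mul_assoc]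
    _ = np x * (w * m μ) * nr y := by rw [h1]; simp only [mul_assoc]
    _ = np x * m μ * (w * nr y) := by rw [h2]; simp only [mul_assoc]
    _ = _ := by rw [h3]; simp only [mul_assoc]

/-- `A_E` centralises `W r`. -/
theorem r_A {w : G} (hw : w ∈ Wr) {x y : F} (μ : F) (hx : σ x = x) (hy : σ y = y) :
    w * (np x * m μ * nr y) = np x * m μ * nr y * w := by
  have h1 := L.r_np w hw x hx
  have h2 := L.r_m w hw μ
  have h3 := L.dr.cn w hw y hy
  calc w * (np x * m μ * nr y) = (w * np x) * m μ * nr y := by simp only [mul_assoc]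
    _ = np x * (w * m μ) * nr y := by rw [h1]; simp only [mul_assoc]
    _ = np x * m μ * (w * nr y) := by rw [h2]; simp only [mul_assoc]
    _ = _ := by rw [h3]; simp only [mul_assoc]

theorem t_A {x y : F} (μ : F) (hx : σ x = x) (hy : σ y = y) :
    t * (np x * m μ * nr y) = np x * m μ * nr y * t := by
  have h1 := L.t_np x hx
  have h2 := L.t_m μ
  have h3 := L.t_nr y hy
  calc t * (np x * m μ * nr y) = (t * np x) * m μ * nr y := by simp only [mul_assoc]
    _ = np x * (t * m μ) * nr y := by rw [h1]; simp only [mul_assoc]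
    _ = np x * m μ * (t * nr y) := by rw [h2]; simp only [mul_assoc]
    _ = _ := by rw [h3]; simp only [mul_assoc]

end line

/-- the square of an element of a double lies in `X`. -/
theorem Double.sq {W : Subgroup G} {n : F → G} (ht : t * t = 1) (h0 : ∀ x, σ x = x → n x * n x = 1)
    (D : Double σ t n W) {w : G} (hw : w ∈ W) : ∃ x, σ x = x ∧ w * w = n x := by
  obtain ⟨x, hx, h⟩ := D.brk w hw
  refine D.cent _ (W.mul_mem hw hw) ?_
  have h1 : t * w = w * n x * t := by
    calc t * w = t * w * (t * t) := by rw [ht, mul_one]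
      _ = (t * w * t) * t := by simp only [mul_assoc]
      _ = _ := by rw [h]
  have h2 := D.cn w hw x hx
  have h3 : t * n x = n x * t := by
    have e1 : t * (t * w * t) * t = w := by
      calc t * (t * w * t) * t = (t * t) * w * (t * t) := by simp only [mul_assoc]
        _ = w := by rw [ht]; simp
    rw [h] at e1
    have e2 : w * (n x * (t * n x * t)) = w * 1 := by
      calc w * (n x * (t * n x * t)) = (w * n x) * (t * n x * t) := by simp only [mul_assoc]
        _ = (t * w * t) * (t * n x * t) := by rw [h]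
        _ = t * w * (t * t) * n x * t := by simp only [mul_assoc]
        _ = t * (w * n x) * t := by rw [ht]; simp only [mul_one, mul_assoc]
        _ = w * 1 := by rw [e1, mul_one]
    have e3 := mul_left_cancel e2
    calc t * n x = (n x * n x) * t * n x * (t * t) := by rw [h0 x hx, ht]; simp
      _ = n x * (n x * (t * n x * t)) * t := by simp only [mul_assoc]
      _ = n x * t := by rw [e3, mul_one]
  calc t * (w * w) = (t * w) * w := by rw [mul_assoc]
    _ = w * n x * (t * w) := by rw [h1]; simp only [mul_assoc, h1]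
    _ = w * n x * (w * n x * t) := by rw [h1]
    _ = w * (n x * w) * n x * t := by simp only [mul_assoc]
    _ = w * (w * n x) * n x * t := by rw [h2]
    _ = w * w * (n x * n x) * t := by simp only [mul_assoc]
    _ = w * w * t := by rw [h0 x hx, mul_one]

/-- `[a, b] = c` with `a^t = a x`, `b^t = b y`, `x, y` central: `c^t = c`. -/
theorem comm_aux {a b c x y c' : G} (h : a * b = b * a * c) (h' : a * x * (b * y) = b * y * (a * x) * c')
    (xa : x * a = a * x) (xb : x * b = b * x) (ya : y * a = a * y) (yb : y * b = b * y) (xy : x * y = y * x) :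
    c' = c := by
  have hc : c = a⁻¹ * b⁻¹ * a * b := by
    have : a⁻¹ * b⁻¹ * a * b = a⁻¹ * b⁻¹ * (a * b) := by group
    rw [this, h]
    group
  have hc' : c' = (a * x)⁻¹ * (b * y)⁻¹ * (a * x) * (b * y) := by
    have : (a * x)⁻¹ * (b * y)⁻¹ * (a * x) * (b * y) = (a * x)⁻¹ * (b * y)⁻¹ * (a * x * (b * y)) := by group
    rw [this, h']
    group
  have X : Commute x a := xa
  have X' : Commute x b := xb
  have Y : Commute y a := ya
  have Y' : Commute y b := yb
  have Z : Commute x y := xy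
  rw [hc', hc]
  rw [mul_inv_rev, mul_inv_rev]
  -- x⁻¹ a⁻¹ y⁻¹ b⁻¹ a x b y
  have e1 : y⁻¹ * b⁻¹ * (a * x) = b⁻¹ * a * x * y⁻¹ := by
    have := (((Y'.inv_right).mul_right Y).mul_right Z.symm).inv_left
    have h3 : y⁻¹ * (b⁻¹ * a * x) = b⁻¹ * a * x * y⁻¹ := this
    rw [← h3]
    simp only [mul_assoc]
  have e2 : x⁻¹ * a⁻¹ * (b⁻¹ * a) = a⁻¹ * (b⁻¹ * a) * x⁻¹ := by
    have := (((X.inv_right).mul_right (X'.inv_right)).mul_right X).inv_left
    have h3 : x⁻¹ * (a⁻¹ * b⁻¹ * a) = a⁻¹ * b⁻¹ * a * x⁻¹ := this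
    calc x⁻¹ * a⁻¹ * (b⁻¹ * a) = x⁻¹ * (a⁻¹ * b⁻¹ * a) := by simp only [mul_assoc]
      _ = a⁻¹ * b⁻¹ * a * x⁻¹ := h3
      _ = _ := by simp only [mul_assoc]
  calc x⁻¹ * a⁻¹ * (y⁻¹ * b⁻¹) * (a * x) * (b * y) = x⁻¹ * a⁻¹ * (y⁻¹ * b⁻¹ * (a * x)) * (b * y) := by
        simp only [mul_assoc]
    _ = (x⁻¹ * a⁻¹ * (b⁻¹ * a)) * x * y⁻¹ * (b * y) := by rw [e1]; simp only [mul_assoc]
    _ = a⁻¹ * (b⁻¹ * a) * (x⁻¹ * x) * (y⁻¹ * (b * y)) := by rw [e2]; simp only [mul_assoc]
    _ = a⁻¹ * (b⁻¹ * a) * b := by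
        have : y⁻¹ * (b * y) = b := by rw [← Y'.eq]; group
        rw [this]; simp
    _ = _ := by simp only [mul_assoc]

section line

variable {OE Wp Wr : Subgroup G} (L : Line σ t OE Wp Wr np nr m g)

include L

theorem np_inj {x : F} (hx : σ x = x) (h : np x = 1) : x = 0 :=
  (L.inj x 0 0 hx (map_zero _) (by rw [h, m_zero L.toCoord, nr_zero L.toCoord]; simp)).1

theorem nr_inj {x : F} (hx : σ x = x) (h : nr x = 1) : x = 0 :=
  (L.inj 0 0 x (map_zero _) hx (by rw [h, m_zero L.toCoord, np_zero L.toCoord]; simp)).2.2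

theorem psq {w : G} (hw : w ∈ Wp) : ∃ x, σ x = x ∧ w * w = np x :=
  Double.sq L.tt (fun _ hx => np_sq L.toCoord hx) L.dp hw

theorem rsq {w : G} (hw : w ∈ Wr) : ∃ x, σ x = x ∧ w * w = nr x :=
  Double.sq L.tt (fun _ hx => nr_sq L.toCoord hx) L.dr hw

theorem comm_form {h : G} (T : Tor σ t Wp Wr np nr m h) {v u : G} (hv : v ∈ Wp) (hu : u ∈ Wr) :
    ∃ a b, σ a = a ∧ σ b = b ∧ v * u = u * v * (np a * nr b) := by
  obtain ⟨x, hx, hvx⟩ := L.dp.brk v hv
  obtain ⟨y, hy, huy⟩ := L.dr.brk u hu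
  set c : G := (u * v)⁻¹ * (v * u) with hc
  have h1 : v * u = u * v * c := by rw [hc]; group
  have tt := L.tt
  have h2 : v * np x * (u * nr y) = u * nr y * (v * np x) * (t * c * t) := by
    have e1 : t * (v * u) * t = v * np x * (u * nr y) := by
      rw [← hvx, ← huy]
      calc t * (v * u) * t = t * v * 1 * u * t := by simp only [mul_assoc, one_mul]
        _ = t * v * (t * t) * u * t := by rw [tt]
        _ = _ := by simp only [mul_assoc]
    have e2 : t * (u * v * c) * t = u * nr y * (v * np x) * (t * c * t) := by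
      rw [← hvx, ← huy]
      calc t * (u * v * c) * t = t * u * 1 * v * 1 * c * t := by simp only [mul_assoc, one_mul]
        _ = t * u * (t * t) * v * (t * t) * c * t := by rw [tt]
        _ = _ := by simp only [mul_assoc]
    rw [← e1, h1, e2]
  have h3 : t * c * t = c := comm_aux h1 h2 (L.dp.cn _ hv x hx).symm (L.r_np _ hu x hx).symm
    (L.p_nr _ hv y hy).symm (L.dr.cn _ hu y hy).symm (L.np_nr x y hx hy)
  have h4 : c * t = t * c := by
    calc c * t = t * c * t * t := by rw [h3]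
      _ = t * c * (t * t) := by simp only [mul_assoc]
      _ = t * c := by rw [tt, mul_one]
  have h5 : ∀ o ∈ OE, c * o = o * c := by
    intro o ho
    have a1 : Commute o v := L.O_p o ho v hv
    have a2 : Commute o u := L.O_r o ho u hu
    have a3 : Commute o c := by
      rw [hc]
      exact ((a2.mul_right a1).inv_right).mul_right (a1.mul_right a2)
    exact a3.symm
  obtain ⟨a, μ, b, ha, hb, h6 | h6⟩ := L.K2 c h4 h5
  · refine ⟨a, b, ha, hb, ?_⟩
    have h7 : h * c = c * h := by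
      have a1 : Commute h v := T.h_p v hv
      have a2 : Commute h u := T.h_r u hu
      have a3 : Commute h c := by
        rw [hc]
        exact ((a2.mul_right a1).inv_right).mul_right (a1.mul_right a2)
      exact a3
    rw [h6] at h7
    have h8 := T.h_m a μ b ha hb h7
    rw [h1, h6, h8, m_zero L.toCoord, mul_one]
  · refine ⟨0, 0, map_zero _, map_zero _, ?_⟩
    rw [np_zero L.toCoord, nr_zero L.toCoord, mul_one, mul_one]
    have hx0 : x = 0 := by
      refine np_inj L hx ?_
      have e1 : v * c * (v * c) = v * v := by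
        have e2 : v * c = u⁻¹ * v * u := by
          calc v * c = u⁻¹ * (u * v * c) := by group
            _ = u⁻¹ * v * u := by rw [← h1]; group
        obtain ⟨s, hs, hvs⟩ := psq L hv
        calc v * c * (v * c) = u⁻¹ * (v * v) * u := by rw [e2]; group
          _ = u⁻¹ * (np s * u) := by rw [hvs, mul_assoc]
          _ = v * v := by rw [← L.r_np u hu s hs, hvs]; group
      have e3 : v * c * (v * c) = v * v * np x := by
        rw [h6]
        have f1 := p_A L hv μ ha hb
        have f2 := t_A L μ ha hb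
        have f3 := A_sq L.toCoord μ ha hb
        set A := np a * m μ * nr b
        calc v * (t * A) * (v * (t * A)) = v * t * (A * v) * t * A := by simp only [mul_assoc]
          _ = v * t * v * (A * t) * A := by rw [← f1]; simp only [mul_assoc]
          _ = v * (t * v * t) * (A * A) := by rw [← f2]; simp only [mul_assoc]
          _ = v * v * np x := by rw [f3, hvx, mul_one, mul_assoc]
      rw [e1] at e3
      have : v * v * 1 = v * v * np x := by rw [mul_one]; exact e3
      exact (mul_left_cancel this).symm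
    have e4 : t * v = v * t := by
      rw [hx0, np_zero L.toCoord, mul_one] at hvx
      calc t * v = t * v * (t * t) := by rw [tt, mul_one]
        _ = (t * v * t) * t := by simp only [mul_assoc]
        _ = v * t := by rw [hvx]
    obtain ⟨s, hs, hvs⟩ := L.dp.cent v hv e4
    rw [hvs]
    exact (L.r_np u hu s hs).symm

/-- `A_E` centralises the conjugates of `W r`. -/
theorem U_A {u : G} (hu : u ∈ Wr) (l : F) {x y : F} (μ : F) (hx : σ x = x) (hy : σ y = y) :
    g l * u * (g l)⁻¹ * (np x * m μ * nr y) = np x * m μ * nr y * (g l * u * (g l)⁻¹) := by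
  have e1 : np x * m μ * nr y = g l * ((g l)⁻¹ * (np x * m μ * nr y) * g l) * (g l)⁻¹ := by group
  have e2 : (g l)⁻¹ * (np x * m μ * nr y) * g l =
      np (x + (l * σ μ + σ l * μ) + l * σ l * y) * m (μ + l * y) * nr y := by
    have := g_A L.toCoord l μ hx hy
    rw [g_inv L.toCoord] at this
    rw [g_inv L.toCoord]
    exact this
  have e3 := r_A L hu (μ + l * y)
    (fix_add L.toCoord (fix_add L.toCoord hx (fix_tr L.toCoord l μ)) (fix_norm L.toCoord l hy)) hy
  rw [← e2] at e3
  set A := np x * m μ * nr y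
  calc g l * u * (g l)⁻¹ * A = g l * (u * ((g l)⁻¹ * A * g l)) * (g l)⁻¹ := by group
    _ = g l * ((g l)⁻¹ * A * g l * u) * (g l)⁻¹ := by rw [e3]
    _ = _ := by group

theorem g_nr' (l : F) {y : F} (hy : σ y = y) :
    g l * nr y * (g l)⁻¹ = np (l * σ l * y) * m (l * y) * nr y := by
  have := g_A L.toCoord l 0 (map_zero σ) hy
  rw [np_zero L.toCoord, m_zero L.toCoord] at this
  simpa using this

theorem tU {u : G} {y : F} (hy : σ y = y) (h : t * u * t = u * nr y) (l : F) :
    t * (g l * u * (g l)⁻¹) * t = g l * u * (g l)⁻¹ * (np (l * σ l * y) * m (l * y) * nr y) := by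
  rw [← g_nr' L l hy]
  have e1 := L.t_g l
  have e2 : (g l)⁻¹ * t = t * (g l)⁻¹ := by
    have : Commute t (g l) := e1
    exact this.symm.inv_left
  calc t * (g l * u * (g l)⁻¹) * t = (t * g l) * u * ((g l)⁻¹ * t) := by simp only [mul_assoc]
    _ = g l * (t * u * t) * (g l)⁻¹ := by rw [e1, e2]; simp only [mul_assoc]
    _ = _ := by rw [h]; group

theorem vU {v u : G} (hv : v ∈ Wp) {a b : F} (ha : σ a = a) (hb : σ b = b)
    (h : v * u = u * v * (np a * nr b)) (l : F) :
    v * (g l * u * (g l)⁻¹) * v⁻¹ = g l * u * (g l)⁻¹ * (np (a + l * σ l * b) * m (l * b) * nr b) := by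
  have e0 : np (a + l * σ l * b) * m (l * b) * nr b = g l * (np a * nr b) * (g l)⁻¹ := by
    have := g_A L.toCoord l 0 ha hb
    rw [m_zero L.toCoord, mul_one] at this
    rw [this]
    simp
  rw [e0]
  have e1 := L.g_p l v hv
  have e2 : v⁻¹ * g l = g l * v⁻¹ := by
    have : Commute (g l) v := e1
    exact this.symm.inv_left
  have e3 : v * (np a * nr b) = np a * nr b * v := by
    have := p_A L hv 0 ha hb
    rw [m_zero L.toCoord, mul_one] at this
    exact this
  have e4 : v * u * v⁻¹ = u * (np a * nr b) := by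
    rw [h]
    calc u * v * (np a * nr b) * v⁻¹ = u * (v * (np a * nr b)) * v⁻¹ := by simp only [mul_assoc]
      _ = u * (np a * nr b) := by rw [e3]; group
  calc v * (g l * u * (g l)⁻¹) * v⁻¹ = (v * g l) * u * ((g l)⁻¹ * v⁻¹) := by simp only [mul_assoc]
    _ = g l * (v * u * v⁻¹) * (g l)⁻¹ := by
        have e5 : (g l)⁻¹ * v⁻¹ = v⁻¹ * (g l)⁻¹ := by
          have : Commute (g l) v := e1
          exact this.inv_left.inv_right
        rw [← e1, e5]
        simp only [mul_assoc]
    _ = _ := by rw [e4]; group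

end line

theorem prod4 (φ : G →* G) {U1 U2 U3 U4 D1 D2 D3 D4 : G} (h1 : φ U1 = U1 * D1) (h2 : φ U2 = U2 * D2)
    (h3 : φ U3 = U3 * D3) (h4 : φ U4 = U4 * D4) (c12 : U2 * D1 = D1 * U2) (c13 : U3 * D1 = D1 * U3)
    (c14 : U4 * D1 = D1 * U4) (c23 : U3 * D2 = D2 * U3) (c24 : U4 * D2 = D2 * U4) (c34 : U4 * D3 = D3 * U4) :
    φ (U1 * U2 * U3 * U4) = U1 * U2 * U3 * U4 * (D1 * D2 * D3 * D4) := by
  rw [map_mul, map_mul, map_mul, h1, h2, h3, h4]
  calc U1 * D1 * (U2 * D2) * (U3 * D3) * (U4 * D4) = U1 * (D1 * U2) * D2 * U3 * D3 * U4 * D4 := by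
        simp only [mul_assoc]
    _ = U1 * U2 * D1 * (D2 * U3) * (D3 * U4) * D4 := by rw [← c12]; simp only [mul_assoc]
    _ = U1 * U2 * (D1 * U3) * (D2 * U4) * D3 * D4 := by rw [← c23, ← c34]; simp only [mul_assoc]
    _ = U1 * U2 * U3 * (D1 * U4) * D2 * D3 * D4 := by rw [← c13, ← c24]; simp only [mul_assoc]
    _ = _ := by rw [← c14]; simp only [mul_assoc]

section line

variable {OE Wp Wr : Subgroup G} (L : Line σ t OE Wp Wr np nr m g)

include L

/-- The sum of four. -/
theorem D_sum' (l μ : F) {a y : F} (ha : σ a = a) (hy : σ y = y) :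
    np (a + l * σ l * y) * m (l * y) * nr y * (np (a + μ * σ μ * y) * m (μ * y) * nr y) *
      (np (a + (l + μ) * σ (l + μ) * y) * m ((l + μ) * y) * nr y) * (np a * m 0 * nr y) =
      np (y * (l * σ μ + σ l * μ)) := by
  have C := L.toCoord
  have f1 := fix_add C ha (fix_norm C l hy)
  have f2 := fix_add C ha (fix_norm C μ hy)
  have f3 := fix_add C ha (fix_norm C (l + μ) hy)
  rw [A_mul C _ _ f1 hy f2 hy,
    A_mul C _ _ (fix_add C f1 f2) (fix_add C hy hy) f3 hy,
    A_mul C _ _ (fix_add C (fix_add C f1 f2) f3) (fix_add C (fix_add C hy hy) hy) ha hy]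
  have e1 : l * y + μ * y + (l + μ) * y + 0 = 0 := by
    have := C.two (l * y + μ * y)
    rw [add_zero, add_mul]
    exact this
  have e2 : y + y + y + y = 0 := by rw [C.two, zero_add, C.two]
  have e3 : a + l * σ l * y + (a + μ * σ μ * y) + (a + (l + μ) * σ (l + μ) * y) + a =
      y * (l * σ μ + σ l * μ) := by
    rw [map_add]
    have h1 := C.two (l * σ l * y)
    have h2 := C.two (μ * σ μ * y)
    have h3 := C.two (a + a)
    linear_combination h1 + h2 + h3
  rw [e1, e2, e3, m_zero C, nr_zero C, mul_one, mul_one]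

theorem D_sum (l μ : F) {y : F} (hy : σ y = y) :
    np (l * σ l * y) * m (l * y) * nr y * (np (μ * σ μ * y) * m (μ * y) * nr y) *
      (np ((l + μ) * σ (l + μ) * y) * m ((l + μ) * y) * nr y) * (np 0 * m 0 * nr y) =
      np (y * (l * σ μ + σ l * μ)) := by
  have := D_sum' L l μ (map_zero σ) hy
  simpa only [zero_add] using this

/-- `f = U(l) U(μ) U(l + μ) u`. -/
def ff (g : F → G) (u : G) (l μ : F) : G :=
  g l * u * (g l)⁻¹ * (g μ * u * (g μ)⁻¹) * (g (l + μ) * u * (g (l + μ))⁻¹) * u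

omit L in
theorem ff_def (u : G) (l μ : F) : ff g u l μ =
    g l * u * (g l)⁻¹ * (g μ * u * (g μ)⁻¹) * (g (l + μ) * u * (g (l + μ))⁻¹) * u := rfl

theorem U_zero (u : G) : g 0 * u * (g 0)⁻¹ = u := by
  rw [g_zero L.toCoord]
  simp

theorem ff_conj (φ : G →* G) {u : G} (hu : u ∈ Wr) {a b : F} (ha : σ a = a) (hb : σ b = b)
    (h : ∀ l, φ (g l * u * (g l)⁻¹) = g l * u * (g l)⁻¹ * (np (a + l * σ l * b) * m (l * b) * nr b)) (l μ : F) :
    φ (ff g u l μ) = ff g u l μ * np (b * (l * σ μ + σ l * μ)) := by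
  have C := L.toCoord
  have h0 : φ u = u * (np a * m 0 * nr b) := by
    have := h 0
    rw [U_zero L] at this
    simpa using this
  have f1 := fix_add C ha (fix_norm C l hb)
  have f2 := fix_add C ha (fix_norm C μ hb)
  have f3 := fix_add C ha (fix_norm C (l + μ) hb)
  rw [ff_def, prod4 φ (h l) (h μ) (h (l + μ)) h0 (U_A L hu _ _ f1 hb) (U_A L hu _ _ f1 hb)
    (by have := U_A L hu 0 (l * b) f1 hb; rwa [U_zero L] at this) (U_A L hu _ _ f2 hb)
    (by have := U_A L hu 0 (μ * b) f2 hb; rwa [U_zero L] at this)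
    (by have := U_A L hu 0 ((l + μ) * b) f3 hb; rwa [U_zero L] at this), D_sum' L l μ ha hb]

theorem t_conj (w : G) : MulAut.conj t w = t * w * t := by
  rw [MulAut.conj_apply, inv_eq_of_mul_eq_one_left L.tt]

theorem ff_t {u : G} (hu : u ∈ Wr) {y : F} (hy : σ y = y) (h : t * u * t = u * nr y) (l μ : F) :
    t * ff g u l μ * t = ff g u l μ * np (y * (l * σ μ + σ l * μ)) := by
  have := ff_conj L ((MulAut.conj t).toMonoidHom) hu (map_zero σ) hy (a := 0) ?_ l μ
  · rw [MulEquiv.coe_toMonoidHom, t_conj L] at this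
    exact this
  · intro l
    rw [MulEquiv.coe_toMonoidHom, t_conj L, tU L hy h, zero_add]

theorem O_U {u : G} (hu : u ∈ Wr) (l : F) {c : G} (hc : c ∈ OE) :
    c * (g l * u * (g l)⁻¹) = g l * u * (g l)⁻¹ * c := by
  have e1 := L.O_r _ (L.g_O l c hc) u hu
  calc c * (g l * u * (g l)⁻¹) = g l * ((g l)⁻¹ * c * g l * u) * (g l)⁻¹ := by group
    _ = g l * (u * ((g l)⁻¹ * c * g l)) * (g l)⁻¹ := by rw [e1]
    _ = _ := by group

theorem O_ff {u : G} (hu : u ∈ Wr) (l μ : F) {c : G} (hc : c ∈ OE) :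
    c * ff g u l μ = ff g u l μ * c := by
  have h1 : Commute c (g l * u * (g l)⁻¹) := O_U L hu l hc
  have h2 : Commute c (g μ * u * (g μ)⁻¹) := O_U L hu μ hc
  have h3 : Commute c (g (l + μ) * u * (g (l + μ))⁻¹) := O_U L hu (l + μ) hc
  have h4 : Commute c u := L.O_r c hc u hu
  exact ((h1.mul_right h2).mul_right h3).mul_right h4

theorem ff_A {u : G} (hu : u ∈ Wr) (l μ : F) {x y : F} (ν : F) (hx : σ x = x) (hy : σ y = y) :
    ff g u l μ * (np x * m ν * nr y) = np x * m ν * nr y * ff g u l μ := by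
  have h1 : Commute (np x * m ν * nr y) (g l * u * (g l)⁻¹) := (U_A L hu l ν hx hy).symm
  have h2 : Commute (np x * m ν * nr y) (g μ * u * (g μ)⁻¹) := (U_A L hu μ ν hx hy).symm
  have h3 : Commute (np x * m ν * nr y) (g (l + μ) * u * (g (l + μ))⁻¹) := (U_A L hu (l + μ) ν hx hy).symm
  have h4 : Commute (np x * m ν * nr y) u := (r_A L hu ν hx hy).symm
  exact (((h1.mul_right h2).mul_right h3).mul_right h4).symm

/-- `f` lies in `W p * A_E` or in `W p * t * A_E`. -/
theorem ff_form {u : G} (hu : u ∈ Wr) {y : F} (hy : σ y = y) (h : t * u * t = u * nr y) (l μ : F) :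
    ∃ w ∈ Wp, t * w * t = w * np (y * (l * σ μ + σ l * μ)) ∧ ∃ a ν b, σ a = a ∧ σ b = b ∧
      (ff g u l μ = w * (np a * m ν * nr b) ∨ ff g u l μ = w * (t * (np a * m ν * nr b))) := by
  have C := L.toCoord
  have hs : σ (y * (l * σ μ + σ l * μ)) = y * (l * σ μ + σ l * μ) := by
    rw [map_mul, hy, fix_tr C]
  obtain ⟨w, hw, hwt⟩ := L.dp.surj _ hs
  refine ⟨w, hw, hwt, ?_⟩
  have tt := L.tt
  have h1 := ff_t L hu hy h l μ
  set s := np (y * (l * σ μ + σ l * μ)) with hsdef
  set f := ff g u l μ with hf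
  have h2 : t * w = w * s * t := by
    calc t * w = t * w * (t * t) := by rw [tt, mul_one]
      _ = (t * w * t) * t := by simp only [mul_assoc]
      _ = _ := by rw [hwt]
  have h3 : t * f = f * s * t := by
    calc t * f = t * f * (t * t) := by rw [tt, mul_one]
      _ = (t * f * t) * t := by simp only [mul_assoc]
      _ = _ := by rw [h1]
  have hsA : s = s * m 0 * nr 0 := by rw [m_zero C, nr_zero C]; simp
  have hsf : f * s = s * f := by
    have := ff_A L hu l μ 0 hs (map_zero σ)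
    rw [m_zero C, nr_zero C, mul_one, mul_one] at this
    exact this
  have hsw : w * s = s * w := L.dp.cn w hw _ hs
  have h4 : (w⁻¹ * f) * t = t * (w⁻¹ * f) := by
    have e1 : t * w⁻¹ = (w * s)⁻¹ * t := by
      have : w * s * (t * w⁻¹) = t := by
        calc w * s * (t * w⁻¹) = (w * s * t) * w⁻¹ := by simp only [mul_assoc]
          _ = t := by rw [← h2]; group
      calc t * w⁻¹ = (w * s)⁻¹ * (w * s * (t * w⁻¹)) := by group
        _ = _ := by rw [this]
    calc (w⁻¹ * f) * t = w⁻¹ * s⁻¹ * (s * f) * t := by group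
      _ = w⁻¹ * s⁻¹ * (f * s * t) := by rw [← hsf]; simp only [mul_assoc]
      _ = (s * w)⁻¹ * (t * f) := by rw [← h3]; group
      _ = ((w * s)⁻¹ * t) * f := by rw [← hsw]; simp only [mul_assoc]
      _ = _ := by rw [← e1]; simp only [mul_assoc]
  have h5 : ∀ o ∈ OE, (w⁻¹ * f) * o = o * (w⁻¹ * f) := by
    intro o ho
    have a1 : Commute o w := L.O_p o ho w hw
    have a2 : Commute o f := O_ff L hu l μ ho
    exact (a1.inv_right.mul_right a2).symm
  obtain ⟨a, ν, b, ha, hb, h6 | h6⟩ := L.K2 _ h4 h5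
  · exact ⟨a, ν, b, ha, hb, Or.inl (by rw [← h6]; group)⟩
  · exact ⟨a, ν, b, ha, hb, Or.inr (by rw [← h6]; group)⟩

theorem tr_ne {e : F} (he : σ e ≠ e) : e + σ e ≠ 0 := fun h => he (eq_of_add L.toCoord h).symm

/-- elements of `W` with the same commutator with `t` -/
theorem same {W : Subgroup G} {n : F → G} (D : Double σ t n W) {x y : G} (hx : x ∈ W) (hy : y ∈ W) {a : F}
    (ha : σ a = a) (hxt : t * x * t = x * n a) (hyt : t * y * t = y * n a) : ∃ z, σ z = z ∧ y = x * n z := by
  have ht : t⁻¹ = t := inv_eq_of_mul_eq_one_left L.tt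
  have h5 : t * (x⁻¹ * y) = x⁻¹ * y * t := by
    have h6 : t * x⁻¹ * t = (x * n a)⁻¹ := by
      rw [← hxt]
      calc t * x⁻¹ * t = (t⁻¹ * x * t⁻¹)⁻¹ := by group
        _ = _ := by rw [ht]
    have h7 : n a * y = y * n a := (D.cn y hy a ha).symm
    have h8 : x * n a = n a * x := D.cn x hx a ha
    calc t * (x⁻¹ * y) = (t * x⁻¹ * t) * (t * y * t) * t := by
          have : (t * x⁻¹ * t) * (t * y * t) * t = t * x⁻¹ * (t * t) * y * (t * t) := by
            simp only [mul_assoc]
          rw [this, L.tt]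
          simp only [mul_one, mul_assoc]
      _ = (x * n a)⁻¹ * (y * n a) * t := by rw [h6, hyt]
      _ = (n a * x)⁻¹ * (n a * y) * t := by rw [h8, h7]
      _ = _ := by group
  obtain ⟨z, hz, h6⟩ := D.cent _ (W.mul_mem (W.inv_mem hx) hy) h5
  exact ⟨z, hz, by rw [← h6]; group⟩

theorem same_comm {W : Subgroup G} {n : F → G} (D : Double σ t n W) {x y : G} (hx : x ∈ W) (hy : y ∈ W) {a : F}
    (ha : σ a = a) (hxt : t * x * t = x * n a) (hyt : t * y * t = y * n a) : x * y = y * x := by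
  obtain ⟨z, hz, rfl⟩ := same L D hx hy ha hxt hyt
  rw [mul_assoc, ← D.cn x hx z hz]

/-- `b ∈ {0, y}`. -/
theorem b_mem {v u : G} (hv : v ∈ Wp) (hu : u ∈ Wr) {x y a b : F} (hx : σ x = x) (hy : σ y = y)
    (hvx : t * v * t = v * np x) (huy : t * u * t = u * nr y) (ha : σ a = a) (hb : σ b = b)
    (h : v * u = u * v * (np a * nr b)) {l μ : F} (hlμ : y * (l * σ μ + σ l * μ) = x) :
    b * (l * σ μ + σ l * μ) = 0 ∨ b * (l * σ μ + σ l * μ) = x := by
  have C := L.toCoord
  have hs : σ (b * (l * σ μ + σ l * μ)) = b * (l * σ μ + σ l * μ) := by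
    rw [map_mul, hb, fix_tr C]
  have h1 : v * ff g u l μ * v⁻¹ = ff g u l μ * np (b * (l * σ μ + σ l * μ)) := by
    have := ff_conj L ((MulAut.conj v).toMonoidHom) hu ha hb (fun l => by
      rw [MulEquiv.coe_toMonoidHom, MulAut.conj_apply]; exact vU L hv ha hb h l) l μ
    rw [MulEquiv.coe_toMonoidHom, MulAut.conj_apply] at this
    exact this
  obtain ⟨w, hw, hwt, a', ν, b', ha', hb', h2 | h2⟩ := ff_form L hu hy huy l μ
  · left
    rw [hlμ] at hwt
    refine np_inj L hs ?_
    have e1 : v * ff g u l μ * v⁻¹ = ff g u l μ := by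
      rw [h2]
      have a1 : Commute v w := same_comm L L.dp hv hw hx hvx hwt
      have a2 : Commute v (np a' * m ν * nr b') := p_A L hv ν ha' hb'
      rw [(a1.mul_right a2).eq]
      group
    rw [e1] at h1
    have : ff g u l μ * 1 = ff g u l μ * np (b * (l * σ μ + σ l * μ)) := by rw [mul_one]; exact h1
    exact (mul_left_cancel this).symm
  · right
    rw [hlμ] at hwt
    have e1 : v * ff g u l μ * v⁻¹ = ff g u l μ * np x := by
      rw [h2]
      have a1 := same_comm L L.dp hv hw hx hvx hwt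
      have a2 := p_A L hv ν ha' hb'
      have a3 := p_A L (L.dp.mem x hx) ν ha' hb'
      set A := np a' * m ν * nr b'
      have a4 : v * t = t * v * np x := by
        calc v * t = (t * t) * v * t := by rw [L.tt, one_mul]
          _ = t * (t * v * t) := by simp only [mul_assoc]
          _ = _ := by rw [hvx, mul_assoc]
      have a5 := L.dp.cn v hv x hx
      calc v * (w * (t * A)) * v⁻¹ = (v * w) * t * A * v⁻¹ := by simp only [mul_assoc]
        _ = w * (v * t) * A * v⁻¹ := by rw [a1]; simp only [mul_assoc]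
        _ = w * t * (v * np x) * A * v⁻¹ := by rw [a4]; simp only [mul_assoc]
        _ = w * t * np x * (v * A) * v⁻¹ := by rw [a5]; simp only [mul_assoc]
        _ = w * t * (np x * A) := by rw [a2]; group
        _ = _ := by rw [a3]; simp only [mul_assoc]
    rw [e1] at h1
    have e2 := mul_left_cancel h1
    have e3 : np x * m 0 * nr 0 = np (b * (l * σ μ + σ l * μ)) * m 0 * nr 0 := by rw [e2]
    exact ((A_inj C hx (map_zero σ) hs (map_zero σ) e3).1).symm

theorem b_mem' {v u : G} (hv : v ∈ Wp) (hu : u ∈ Wr) {x y a b : F} (hx : σ x = x) (hy : σ y = y)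
    (hvx : t * v * t = v * np x) (huy : t * u * t = u * nr y) (ha : σ a = a) (hb : σ b = b)
    (h : v * u = u * v * (np a * nr b)) (hx0 : x ≠ 0) (hy0 : y ≠ 0) : b = 0 ∨ b = y := by
  obtain ⟨e, he⟩ := L.nt
  have hE := tr_ne L he
  have hE' : σ (e + σ e) = e + σ e := by rw [map_add, L.σσ, add_comm]
  set l : F := x / (y * (e + σ e)) with hl
  have hlf : σ l = l := by rw [hl, map_div₀, map_mul, hx, hy, hE']
  have h1 : l * σ e + σ l * e = x / y := by
    rw [hlf, ← mul_add, add_comm (σ e), hl]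
    field_simp
  have h2 : y * (l * σ e + σ l * e) = x := by
    rw [h1]; field_simp
  have h3 := b_mem L hv hu hx hy hvx huy ha hb h h2
  rw [h1] at h3
  rcases h3 with h3 | h3
  · left
    rcases mul_eq_zero.1 h3 with h4 | h4
    · exact h4
    · exfalso
      rcases div_eq_zero_iff.1 h4 with h5 | h5
      · exact hx0 h5
      · exact hy0 h5
  · right
    field_simp at h3
    exact h3

/-- uniqueness of `a`, `b` -/
theorem ab_unique {v u : G} {a b a' b' : F} (ha : σ a = a) (hb : σ b = b) (ha' : σ a' = a') (hb' : σ b' = b')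
    (h : v * u = u * v * (np a * nr b)) (h' : v * u = u * v * (np a' * nr b')) : a = a' ∧ b = b' := by
  have C := L.toCoord
  rw [h] at h'
  have h1 := mul_left_cancel h'
  have h2 : np a * m 0 * nr b = np a' * m 0 * nr b' := by rw [m_zero C, mul_one, mul_one, h1]
  have h3 := A_inj C ha hb ha' hb' h2
  exact ⟨h3.1, h3.2.2⟩

/-- additivity in `u` -/
theorem comm_mul_right {v u u' : G} (hu' : u' ∈ Wr) {a b a' b' : F} (ha : σ a = a) (hb : σ b = b)
    (ha' : σ a' = a') (hb' : σ b' = b') (h : v * u = u * v * (np a * nr b)) (h' : v * u' = u' * v * (np a' * nr b')) :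
    v * (u * u') = u * u' * v * (np (a + a') * nr (b + b')) := by
  have C := L.toCoord
  have e1 : np a * nr b * u' = u' * (np a * nr b) := by
    have := r_A L hu' 0 ha hb
    rw [m_zero C, mul_one] at this
    exact this.symm
  have e2 : np a * nr b * (np a' * nr b') = np (a + a') * nr (b + b') := by
    have := A_mul C 0 0 ha hb ha' hb'
    rw [add_zero, m_zero C, mul_one, mul_one, mul_one] at this
    exact this
  have e3 : np a' * nr b' * (np a * nr b) = np a * nr b * (np a' * nr b') := by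
    have := A_comm C 0 0 ha' hb' ha hb
    simpa only [m_zero C, mul_one] using this
  calc v * (u * u') = (v * u) * u' := by rw [mul_assoc]
    _ = u * v * (np a * nr b * u') := by rw [h]; simp only [mul_assoc]
    _ = u * (v * u') * (np a * nr b) := by rw [e1]; simp only [mul_assoc]
    _ = u * u' * v * (np a' * nr b' * (np a * nr b)) := by rw [h']; simp only [mul_assoc]
    _ = _ := by rw [e3, e2]

/-- additivity in `v` -/
theorem comm_mul_left {v v' u : G} (hv' : v' ∈ Wp) {a b a' b' : F} (ha : σ a = a) (hb : σ b = b)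
    (ha' : σ a' = a') (hb' : σ b' = b') (h : v * u = u * v * (np a * nr b)) (h' : v' * u = u * v' * (np a' * nr b')) :
    v * v' * u = u * (v * v') * (np (a + a') * nr (b + b')) := by
  have C := L.toCoord
  have e1 : np a * nr b * v' = v' * (np a * nr b) := by
    have := p_A L hv' 0 ha hb
    rw [m_zero C, mul_one] at this
    exact this.symm
  have e2 : np a * nr b * (np a' * nr b') = np (a + a') * nr (b + b') := by
    have := A_mul C 0 0 ha hb ha' hb'
    rw [add_zero, m_zero C, mul_one, mul_one, mul_one] at this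
    exact this
  calc v * v' * u = v * (v' * u) := by rw [mul_assoc]
    _ = (v * u) * v' * (np a' * nr b') := by rw [h']; simp only [mul_assoc]
    _ = u * v * (np a * nr b * v') * (np a' * nr b') := by rw [h]; simp only [mul_assoc]
    _ = u * (v * v') * (np a * nr b * (np a' * nr b')) := by rw [e1]; simp only [mul_assoc]
    _ = _ := by rw [e2]

theorem brk_mul {W : Subgroup G} {n : F → G} (D : Double σ t n W) (hn : ∀ x y, σ x = x → σ y = y → n (x + y) = n x * n y)
    {v w : G} (hw : w ∈ W) {x y : F} (hx : σ x = x) (hy : σ y = y) (hvx : t * v * t = v * n x)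
    (hwy : t * w * t = w * n y) : t * (v * w) * t = v * w * n (x + y) := by
  rw [hn x y hx hy]
  calc t * (v * w) * t = t * v * 1 * w * t := by simp only [mul_assoc, one_mul]
    _ = t * v * (t * t) * w * t := by rw [L.tt]
    _ = (t * v * t) * (t * w * t) := by simp only [mul_assoc]
    _ = v * (n x * w) * n y := by rw [hvx, hwy]; simp only [mul_assoc]
    _ = _ := by rw [← D.cn w hw x hx]; simp only [mul_assoc]

/-- `q > 2`: `b = 0`. -/
theorem b_zero (S : Scale σ t Wp Wr np nr)
    (hq : ∃ k, σ k = k ∧ k ≠ 0 ∧ k ≠ 1) {v u : G} (hv : v ∈ Wp) (hu : u ∈ Wr) {a b : F}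
    (ha : σ a = a) (hb : σ b = b) (h : v * u = u * v * (np a * nr b)) : b = 0 := by
  have C := L.toCoord
  obtain ⟨x, hx, hvx⟩ := L.dp.brk v hv
  obtain ⟨y, hy, huy⟩ := L.dr.brk u hu
  obtain ⟨k, hk, hk0, hk1⟩ := hq
  have tt := L.tt
  -- the trivial cases
  by_cases hx0 : x = 0
  · rw [hx0, np_zero C, mul_one] at hvx
    have e4 : t * v = v * t := by
      calc t * v = t * v * (t * t) := by rw [tt, mul_one]
        _ = (t * v * t) * t := by simp only [mul_assoc]
        _ = v * t := by rw [hvx]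
    obtain ⟨s, hs, hvs⟩ := L.dp.cent v hv e4
    have h5 : v * u = u * v * (np 0 * nr 0) := by
      rw [np_zero C, nr_zero C, mul_one, mul_one, hvs]
      exact (L.r_np u hu s hs).symm
    exact (ab_unique L ha hb (map_zero _) (map_zero _) h h5).2
  by_cases hy0 : y = 0
  · rw [hy0, nr_zero C, mul_one] at huy
    have e4 : t * u = u * t := by
      calc t * u = t * u * (t * t) := by rw [tt, mul_one]
        _ = (t * u * t) * t := by simp only [mul_assoc]
        _ = u * t := by rw [huy]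
    obtain ⟨s, hs, hus⟩ := L.dr.cent u hu e4
    have h5 : v * u = u * v * (np 0 * nr 0) := by
      rw [np_zero C, nr_zero C, mul_one, mul_one, hus]
      exact L.p_nr v hv s hs
    exact (ab_unique L ha hb (map_zero _) (map_zero _) h h5).2
  rcases b_mem' L hv hu hx hy hvx huy ha hb h hx0 hy0 with h1 | h1
  · exact h1
  exfalso
  -- `b(v, u') = y(u')` for all `u'`
  have step : ∀ v' ∈ Wp, ∀ x', σ x' = x' → x' ≠ 0 → t * v' * t = v' * np x' →
      (∀ u₁ ∈ Wr, ∀ y₁ a₁ b₁, σ y₁ = y₁ → y₁ ≠ 0 → σ a₁ = a₁ → σ b₁ = b₁ → t * u₁ * t = u₁ * nr y₁ →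
        v' * u₁ = u₁ * v' * (np a₁ * nr b₁) → b₁ = y₁ → ∀ u₂ ∈ Wr, ∀ y₂ a₂ b₂, σ y₂ = y₂ → σ a₂ = a₂ → σ b₂ = b₂ →
        t * u₂ * t = u₂ * nr y₂ → v' * u₂ = u₂ * v' * (np a₂ * nr b₂) → y₂ ≠ 0 → y₁ ≠ y₂ → b₂ = y₂) := by
    intro v' hv' x' hx' hx'0 hvt u₁ hu₁ y₁ a₁ b₁ hy₁ hy₁0 ha₁ hb₁ hut h3 hb1 u₂ hu₂ y₂ a₂ b₂ hy₂ ha₂ hb₂ hut2 h4 hy₂0 hne
    have h5 := comm_mul_right L hu₂ ha₁ hb₁ ha₂ hb₂ h3 h4
    have h6 := brk_mul L L.dr C.nr_add hu₂ hy₁ hy₂ hut hut2
    have hne' : y₁ + y₂ ≠ 0 := fun h => hne (eq_of_add C h)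
    rcases b_mem' L hv' hu₂ hx' hy₂ hvt hut2 ha₂ hb₂ h4 hx'0 hy₂0 with h7 | h7
    · exfalso
      rcases b_mem' L hv' (Wr.mul_mem hu₁ hu₂) hx' (fix_add C hy₁ hy₂) hvt h6 (fix_add C ha₁ ha₂)
        (fix_add C hb₁ hb₂) h5 hx'0 hne' with h8 | h8
      · rw [h7, add_zero, hb1] at h8
        exact hy₁0 h8
      · rw [h7, add_zero, hb1] at h8
        apply hy₂0
        have : y₁ + 0 = y₁ + y₂ := by rw [add_zero]; exact h8
        exact (add_left_cancel this).symm
    · exact h7
  -- torus elements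
  obtain ⟨d, hdt, hdp, hdr, hdnp, hdnr⟩ := S k hk hk0
  have hk1' : 1 + k ≠ 0 := fun h => hk1 (eq_of_add C h).symm
  obtain ⟨d', hdt', hdp', hdr', hdnp', hdnr'⟩ := S (1 + k) (fix_add C (map_one σ) hk) hk1'
  have tor : ∀ (d : G) (k : F), σ k = k → k ≠ 0 → d * t = t * d → (∀ w ∈ Wp, d * w * d⁻¹ ∈ Wp) →
      (∀ w ∈ Wr, d * w * d⁻¹ ∈ Wr) → (∀ x, σ x = x → d * np x * d⁻¹ = np (k * x)) →
      (∀ y, σ y = y → d * nr y * d⁻¹ = nr y) →
      ∃ v' ∈ Wp, t * v' * t = v' * np (k * x) ∧ ∃ a', σ a' = a' ∧ ∃ u' ∈ Wr, t * u' * t = u' * nr y ∧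
        v' * u' = u' * v' * (np a' * nr y) := by
    intro d k hk hk0 hdt hdp hdr hdnp hdnr
    have hdt' : t * d = d * t := hdt.symm
    have ht : t⁻¹ = t := inv_eq_of_mul_eq_one_left tt
    refine ⟨d * v * d⁻¹, hdp v hv, ?_, k * a, by rw [map_mul, hk, ha], d * u * d⁻¹, hdr u hu, ?_, ?_⟩
    · calc t * (d * v * d⁻¹) * t = (t * d) * v * (t⁻¹ * d)⁻¹ := by group
        _ = (d * t) * v * (d * t)⁻¹ := by rw [ht, hdt']
        _ = d * (t * v * t⁻¹) * d⁻¹ := by group
        _ = d * v * np x * d⁻¹ := by rw [ht, hvx]; simp only [mul_assoc]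
        _ = d * v * d⁻¹ * (d * np x * d⁻¹) := by group
        _ = _ := by rw [hdnp x hx]
    · calc t * (d * u * d⁻¹) * t = (t * d) * u * (t⁻¹ * d)⁻¹ := by group
        _ = (d * t) * u * (d * t)⁻¹ := by rw [ht, hdt']
        _ = d * (t * u * t⁻¹) * d⁻¹ := by group
        _ = d * u * nr y * d⁻¹ := by rw [ht, huy]; simp only [mul_assoc]
        _ = d * u * d⁻¹ * (d * nr y * d⁻¹) := by group
        _ = _ := by rw [hdnr y hy]
    · calc d * v * d⁻¹ * (d * u * d⁻¹) = d * (v * u) * d⁻¹ := by group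
        _ = d * (u * v * (np a * nr y)) * d⁻¹ := by rw [h, h1]
        _ = d * u * d⁻¹ * (d * v * d⁻¹) * ((d * np a * d⁻¹) * (d * nr y * d⁻¹)) := by group
        _ = _ := by rw [hdnp a ha, hdnr y hy]
  obtain ⟨v1, hv1, hv1t, a1, ha1, u1, hu1, hu1t, e1⟩ := tor d k hk hk0 hdt hdp hdr hdnp hdnr
  obtain ⟨v2, hv2, hv2t, a2, ha2, u2, hu2, hu2t, e2⟩ :=
    tor d' (1 + k) (fix_add C (map_one σ) hk) hk1' hdt' hdp' hdr' hdnp' hdnr'
  -- replace `u1`, `u2` by `u`
  have repl : ∀ v' ∈ Wp, ∀ u' ∈ Wr, ∀ a', σ a' = a' → t * u' * t = u' * nr y → v' * u' = u' * v' * (np a' * nr y) →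
      v' * u = u * v' * (np a' * nr y) := by
    intro v' hv' u' hu' a' ha' hut e
    obtain ⟨z, hz, h3⟩ := same L L.dr hu' hu hy hut huy
    have h4 := L.p_nr v' hv' z hz
    have h5 : np a' * nr y * nr z = nr z * (np a' * nr y) := by
      have := A_comm C 0 0 ha' hy (map_zero σ) hz
      simpa only [m_zero C, np_zero C, mul_one, one_mul] using this
    rw [h3]
    calc v' * (u' * nr z) = (v' * u') * nr z := by rw [mul_assoc]
      _ = u' * v' * (np a' * nr y * nr z) := by rw [e]; simp only [mul_assoc]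
      _ = u' * (v' * nr z) * (np a' * nr y) := by rw [h5]; simp only [mul_assoc]
      _ = _ := by rw [h4]; simp only [mul_assoc]
  have f1 := repl v1 hv1 u1 hu1 a1 ha1 hu1t e1
  have f2 := repl v2 hv2 u2 hu2 a2 ha2 hu2t e2
  rw [h1] at h
  have f3 := comm_mul_left L hv1 ha hy ha1 hy h f1
  rw [C.two y] at f3
  -- `v * v1` and `v2` have the same parameter
  have hkx : σ (k * x) = k * x := by rw [map_mul, hk, hx]
  have f4 := brk_mul L L.dp C.np_add hv1 hx hkx hvx hv1t
  have e5 : x + k * x = (1 + k) * x := by ring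
  rw [e5] at f4
  have hkx' : σ ((1 + k) * x) = (1 + k) * x := by rw [← e5]; exact fix_add C hx hkx
  obtain ⟨z, hz, h6⟩ := same L L.dp (Wp.mul_mem hv hv1) hv2 hkx' f4 hv2t
  have h7 : v2 * u = u * v2 * (np (a + a1) * nr 0) := by
    have h8 := L.r_np u hu z hz
    have h9 : np (a + a1) * nr 0 * np z = np z * (np (a + a1) * nr 0) := by
      have := A_comm C 0 0 (fix_add C ha ha1) (map_zero σ) hz (map_zero σ)
      simpa only [m_zero C, nr_zero C, mul_one] using this
    rw [h6]
    calc v * v1 * np z * u = v * v1 * (u * np z) := by rw [h8]; simp only [mul_assoc]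
      _ = (v * v1 * u) * np z := by simp only [mul_assoc]
      _ = u * (v * v1) * (np (a + a1) * nr 0 * np z) := by rw [f3]; simp only [mul_assoc]
      _ = _ := by rw [h9]; simp only [mul_assoc]
  have h8 := (ab_unique L ha2 hy (fix_add C ha ha1) (map_zero σ) f2 h7).2
  exact hy0 h8

/-- `W p` is abelian. -/
theorem ab_of_comm (hpr : ∀ v ∈ Wp, ∀ u ∈ Wr, v * u = u * v) {v w : G} (hv : v ∈ Wp) (hw : w ∈ Wp) :
    v * w = w * v := by
  have C := L.toCoord
  have tt := L.tt
  obtain ⟨z, hz, hwz⟩ := L.dp.brk w hw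
  by_cases hz0 : z = 0
  · rw [hz0, np_zero C, mul_one] at hwz
    have e4 : t * w = w * t := by
      calc t * w = t * w * (t * t) := by rw [tt, mul_one]
        _ = (t * w * t) * t := by simp only [mul_assoc]
        _ = w * t := by rw [hwz]
    obtain ⟨s, hs, hvs⟩ := L.dp.cent w hw e4
    rw [hvs]
    exact L.dp.cn v hv s hs
  obtain ⟨u, hu, hut⟩ := L.dr.surj 1 (map_one σ)
  obtain ⟨e, he⟩ := L.nt
  have hE := tr_ne L he
  have hE' : σ (e + σ e) = e + σ e := by rw [map_add, L.σσ, add_comm]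
  set l : F := z / (e + σ e) with hl
  have hlf : σ l = l := by rw [hl, map_div₀, hz, hE']
  have h1 : 1 * (l * σ e + σ l * e) = z := by
    rw [hlf, ← mul_add, add_comm (σ e), hl]
    field_simp
  have hc : ∀ v ∈ Wp, v * ff g u l e = ff g u l e * v := by
    intro v hv
    have hU : ∀ k, Commute v (g k * u * (g k)⁻¹) := by
      intro k
      have e1 : Commute v (g k) := (L.g_p k v hv).symm
      have e2 : Commute v u := hpr v hv u hu
      exact (e1.mul_right e2).mul_right e1.inv_right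
    have h4 : Commute v u := hpr v hv u hu
    exact (((hU l).mul_right (hU e)).mul_right (hU (l + e))).mul_right h4
  obtain ⟨w', hw', hwt, a', ν, b', ha', hb', h2 | h2⟩ := ff_form L hu (map_one σ) hut l e
  · rw [h1] at hwt
    obtain ⟨s, hs, rfl⟩ := same L L.dp hw' hw hz hwt hwz
    have h3 := hc v hv
    rw [h2] at h3
    have h4 := p_A L hv ν ha' hb'
    set A := np a' * m ν * nr b'
    have h5 : v * w' * A = w' * v * A := by
      calc v * w' * A = v * (w' * A) := by rw [mul_assoc]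
        _ = w' * (A * v) := by rw [h3, mul_assoc]
        _ = w' * v * A := by rw [← h4, mul_assoc]
    have h6 := mul_right_cancel h5
    have h7 := L.dp.cn v hv s hs
    calc v * (w' * np s) = (v * w') * np s := by rw [mul_assoc]
      _ = w' * (v * np s) := by rw [h6, mul_assoc]
      _ = _ := by rw [h7, mul_assoc]
  · exfalso
    rw [h1] at hwt
    have h3 := hc w' hw'
    rw [h2] at h3
    have h4 := p_A L hw' ν ha' hb'
    set A := np a' * m ν * nr b'
    have h5 : w' * (w' * t) * A = w' * (t * w') * A := by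
      calc w' * (w' * t) * A = w' * (w' * (t * A)) := by simp only [mul_assoc]
        _ = w' * (t * (A * w')) := by rw [h3]; simp only [mul_assoc]
        _ = w' * (t * w') * A := by rw [← h4]; simp only [mul_assoc]
    have h6 := mul_left_cancel (mul_right_cancel h5)
    have h7 : w' * 1 = w' * np z := by
      rw [mul_one, ← hwt, ← h6, mul_assoc, tt, mul_one]
    have h8 : np z = 1 := (mul_left_cancel h7).symm
    exact hz0 (np_inj L hz h8)

end line

end Cfsg.Agent.OddHalf.D7.Uni.Line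

end

-- merged: Cfsg.Agent.OddHalf.D7.Uni.LineMod
section

/-!
# The module of a totally isotropic line (helper54, text: bb ODD 9100 (3))

`M = ⟨W s : s ∈ E⟩` written additively, when all `W s` commute. `main`: the groups `W s` are elementary abelian and
`u + γ l u + γ k u + γ (l + k) u ∈ W p` for `u ∈ W r`.
-/

set_option autoImplicit false
set_option linter.unusedSectionVars false

namespace Cfsg.Agent.OddHalf.D7.Uni.LineMod

/-- The module `M`. -/
structure LMod {M F : Type*} [AddCommGroup M] [Field F] (σ : F →+* F) (τ : M →+ M) (γ : F → M →+ M)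
    (np nr m : F → M) (P R : AddSubgroup M) : Prop where
  two : ∀ x : F, x + x = 0
  σσ : ∀ x, σ (σ x) = x
  nt : ∃ x, σ x ≠ x
  np_add : ∀ x y, σ x = x → σ y = y → np (x + y) = np x + np y
  nr_add : ∀ x y, σ x = x → σ y = y → nr (x + y) = nr x + nr y
  m_add : ∀ x y, m (x + y) = m x + m y
  inj : ∀ x μ y, σ x = x → σ y = y → np x + m μ + nr y = 0 → x = 0 ∧ μ = 0 ∧ y = 0
  t_np : ∀ x, σ x = x → τ (np x) = np x
  t_nr : ∀ x, σ x = x → τ (nr x) = nr x
  t_m : ∀ x, τ (m x) = m x
  γ_zero : ∀ w, γ 0 w = w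
  γ_add : ∀ l k w, γ (l + k) w = γ l (γ k w)
  γ_t : ∀ l w, τ (γ l w) = γ l (τ w)
  γ_P : ∀ l, ∀ w ∈ P, γ l w = w
  γ_m : ∀ l μ, γ l (m μ) = m μ + np (l * σ μ + σ l * μ)
  γ_nr : ∀ l y, σ y = y → γ l (nr y) = nr y + m (l * y) + np (l * σ l * y)
  np_P : ∀ x, σ x = x → np x ∈ P
  surj : ∀ x, σ x = x → ∃ w ∈ P, τ w = w + np x
  brkP : ∀ w ∈ P, ∃ x, σ x = x ∧ τ w = w + np x
  cent : ∀ w ∈ P, τ w = w → ∃ x, σ x = x ∧ w = np x
  brk : ∀ u ∈ R, ∃ y, σ y = y ∧ τ u = u + nr y
  sq : ∀ u ∈ R, ∃ y, σ y = y ∧ u + u = nr y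
  K2 : ∀ c, τ c = c → ∃ x μ y, σ x = x ∧ σ y = y ∧ c = np x + m μ + nr y

variable {M F : Type*} [AddCommGroup M] [Field F] {σ : F →+* F} {τ : M →+ M} {γ : F → M →+ M}
  {np nr m : F → M} {P R : AddSubgroup M} (L : LMod σ τ γ np nr m P R)

include L

theorem eq_of_add {x y : F} (h : x + y = 0) : x = y := by
  have := L.two y
  have h2 : x + y = y + y := by rw [h, this]
  exact add_right_cancel h2

theorem np_zero : np 0 = 0 := by
  have := L.np_add 0 0 (map_zero _) (map_zero _)
  simpa using this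

theorem nr_zero : nr 0 = 0 := by
  have := L.nr_add 0 0 (map_zero _) (map_zero _)
  simpa using this

theorem m_zero : m 0 = 0 := by
  have := L.m_add 0 0
  simpa using this

theorem np_two {x : F} (hx : σ x = x) : np x + np x = 0 := by
  rw [← L.np_add x x hx hx, L.two, np_zero L]

theorem nr_two {x : F} (hx : σ x = x) : nr x + nr x = 0 := by
  rw [← L.nr_add x x hx hx, L.two, nr_zero L]

theorem m_two (x : F) : m x + m x = 0 := by
  rw [← L.m_add x x, L.two, m_zero L]

theorem fix_add {x y : F} (hx : σ x = x) (hy : σ y = y) : σ (x + y) = x + y := by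
  rw [map_add, hx, hy]

theorem fix_tr (x y : F) : σ (x * σ y + σ x * y) = x * σ y + σ x * y := by
  rw [map_add, map_mul, map_mul, L.σσ, L.σσ, add_comm]

theorem fix_norm {y : F} (l : F) (hy : σ y = y) : σ (l * σ l * y) = l * σ l * y := by
  rw [map_mul, map_mul, L.σσ, hy, mul_comm (σ l) l]

theorem A_inj {x y x' y' μ μ' : F} (hx : σ x = x) (hy : σ y = y) (hx' : σ x' = x') (hy' : σ y' = y')
    (h : np x + m μ + nr y = np x' + m μ' + nr y') : x = x' ∧ μ = μ' ∧ y = y' := by
  have h1 : np (x + x') + m (μ + μ') + nr (y + y') = 0 := by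
    rw [L.np_add _ _ hx hx', L.nr_add _ _ hy hy', L.m_add]
    have : np x + np x' + (m μ + m μ') + (nr y + nr y') = (np x + m μ + nr y) + (np x' + m μ' + nr y') := by
      abel
    rw [this, h]
    have : (np x' + m μ' + nr y') + (np x' + m μ' + nr y') = (np x' + np x') + (m μ' + m μ') + (nr y' + nr y') := by
      abel
    rw [this, np_two L hx', m_two L, nr_two L hy']
    simp
  obtain ⟨e1, e2, e3⟩ := L.inj _ _ _ (fix_add L hx hx') (fix_add L hy hy') h1
  exact ⟨eq_of_add L e1, eq_of_add L e2, eq_of_add L e3⟩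

/-- the sum over four. -/
def S (γ : F → M →+ M) (u : M) (l k : F) : M := u + γ l u + γ k u + γ (l + k) u

omit L in
theorem S_def (u : M) (l k : F) : S γ u l k = u + γ l u + γ k u + γ (l + k) u := rfl

theorem S_form {u : M} (hu : u ∈ R) (l k : F) : ∃ w ∈ P, ∃ ν b, σ b = b ∧ S γ u l k = w + m ν + nr b := by
  obtain ⟨y, hy, huy⟩ := L.brk u hu
  have hs : σ (y * (l * σ k + σ l * k)) = y * (l * σ k + σ l * k) := by
    rw [map_mul, hy, fix_tr L]
  obtain ⟨w, hw, hwt⟩ := L.surj _ hs
  have h1 : ∀ j, τ (γ j u) = γ j u + (nr y + m (j * y) + np (j * σ j * y)) := by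
    intro j
    rw [L.γ_t, huy, map_add, L.γ_nr _ _ hy]
  have h2 : τ (S γ u l k) = S γ u l k + np (y * (l * σ k + σ l * k)) := by
    rw [S_def, map_add, map_add, map_add, h1, h1, h1, huy]
    have e1 : u + nr y + (γ l u + (nr y + m (l * y) + np (l * σ l * y))) +
        (γ k u + (nr y + m (k * y) + np (k * σ k * y))) +
        (γ (l + k) u + (nr y + m ((l + k) * y) + np ((l + k) * σ (l + k) * y))) =
        (u + γ l u + γ k u + γ (l + k) u) + ((nr y + nr y) + (nr y + nr y)) +
          (m (l * y) + m (k * y) + m ((l + k) * y)) +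
          (np (l * σ l * y) + np (k * σ k * y) + np ((l + k) * σ (l + k) * y)) := by abel
    rw [e1, nr_two L hy, ← L.m_add, ← L.m_add, ← add_mul, L.two, m_zero L,
      ← L.np_add _ _ (fix_norm L _ hy) (fix_norm L _ hy),
      ← L.np_add _ _ (fix_add L (fix_norm L _ hy) (fix_norm L _ hy)) (fix_norm L _ hy)]
    have e2 : l * σ l * y + k * σ k * y + (l + k) * σ (l + k) * y = y * (l * σ k + σ l * k) := by
      rw [map_add]
      have h1 := L.two (l * σ l * y)
      have h2 := L.two (k * σ k * y)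
      linear_combination h1 + h2
    rw [e2]
    simp
  have h3 : τ (S γ u l k - w) = S γ u l k - w := by
    rw [map_sub, h2, hwt]
    abel
  obtain ⟨x, ν, b, hx, hb, h4⟩ := L.K2 _ h3
  refine ⟨w + np x, P.add_mem hw (L.np_P x hx), ν, b, hb, ?_⟩
  calc S γ u l k = w + (S γ u l k - w) := by abel
    _ = _ := by rw [h4]; abel

theorem E_form {u w : M} (hw : w ∈ P) {l k ν b : F} (hb : σ b = b) (h : S γ u l k = w + m ν + nr b) :
    ∃ ρ, σ ρ = ρ ∧ w + w = np ρ ∧ ∀ j, γ j (S γ u l k) + S γ u l k =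
      np (ρ + (j * σ ν + σ j * ν) + j * σ j * b) + m (j * b) + nr 0 := by
  obtain ⟨x, hx, hwx⟩ := L.brkP w hw
  have h1 : τ (w + w) = w + w := by
    rw [map_add, hwx]
    have : w + np x + (w + np x) = w + w + (np x + np x) := by abel
    rw [this, np_two L hx, add_zero]
  obtain ⟨ρ, hρ, h2⟩ := L.cent _ (P.add_mem hw hw) h1
  refine ⟨ρ, hρ, h2, fun j => ?_⟩
  rw [h, map_add, map_add, L.γ_P j w hw, L.γ_m, L.γ_nr _ _ hb]
  rw [L.np_add _ _ (fix_add L hρ (fix_tr L j ν)) (fix_norm L j hb), L.np_add _ _ hρ (fix_tr L j ν), ← h2,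
    nr_zero L]
  have e : w + (m ν + np (j * σ ν + σ j * ν)) + (nr b + m (j * b) + np (j * σ j * b)) + (w + m ν + nr b) =
      (m ν + m ν) + (nr b + nr b) + (w + w + np (j * σ ν + σ j * ν) + np (j * σ j * b) + m (j * b)) := by abel
  rw [e, m_two L, nr_two L hb]
  abel

theorem E_symm (u : M) (l k j : F) : γ j (S γ u l k) + S γ u l k = γ l (S γ u j k) + S γ u j k := by
  rw [S_def, S_def]
  simp only [map_add, ← L.γ_add]
  rw [show j + l = l + j from add_comm _ _, show l + (j + k) = j + (l + k) by ring]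
  abel

theorem S_symm (u : M) (l k : F) : S γ u l k = S γ u k l := by
  rw [S_def, S_def, add_comm l k]
  abel

theorem tr_ne {e : F} (he : σ e ≠ e) : e + σ e ≠ 0 := fun h => he (eq_of_add L h).symm

/-- uniqueness of the coordinate. -/
theorem uniq {w w' : M} (hw : w ∈ P) (hw' : w' ∈ P) {ν ν' : F} (h : w + m ν = w' + m ν') : ν = ν' := by
  have h1 : w - w' = m ν' - m ν := by
    have : w = w' + m ν' - m ν := by rw [← h]; abel
    rw [this]
    abel
  have h2 : τ (w - w') = w - w' := by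
    rw [h1, map_sub, L.t_m, L.t_m]
  obtain ⟨x, hx, h3⟩ := L.cent _ (P.sub_mem hw hw') h2
  have h4 : np x + m ν + nr 0 = np 0 + m ν' + nr 0 := by
    rw [← h3, h1, np_zero L]
    abel
  exact (A_inj L hx (map_zero _) (map_zero _) (map_zero _) h4).2.1

/-- An `F_q`-trilinear alternating symmetric form on a plane vanishes. -/
theorem N_zero {N : F → F → F} (hsym : ∀ l k j, j * σ (N l k) + σ j * N l k = l * σ (N j k) + σ l * N j k)
    (hsym' : ∀ l k, N l k = N k l) (halt : ∀ l, N l l = 0) (l k : F) : N l k = 0 := by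
  have hne : ∀ x : F, (∀ j, j * σ x + σ j * x = 0) → x = 0 := by
    intro x hx
    obtain ⟨e, he⟩ := L.nt
    by_contra hx0
    have h1 := hx (e * x)
    have h2 : (e + σ e) * (x * σ x) = 0 := by rw [← h1, map_mul]; ring
    rcases mul_eq_zero.1 h2 with h3 | h3
    · exact tr_ne L he h3
    · rcases mul_eq_zero.1 h3 with h4 | h4
      · exact hx0 h4
      · exact hx0 ((map_eq_zero σ).1 h4)
  -- additivity in the first variable
  have hadd : ∀ a b k, N (a + b) k = N a k + N b k := by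
    intro a b k
    have : N (a + b) k + (N a k + N b k) = 0 := by
      apply hne
      intro j
      have h1 := hsym (a + b) k j
      have h2 := hsym a k j
      have h3 := hsym b k j
      have h4 := L.two (a * σ (N j k) + σ a * N j k)
      have h5 := L.two (b * σ (N j k) + σ b * N j k)
      simp only [map_add] at h1 ⊢
      linear_combination h1 + h2 + h3 + h4 + h5
    exact eq_of_add L this
  have hlin : ∀ a x k, σ a = a → N (a * x) k = a * N x k := by
    intro a x k ha
    have : N (a * x) k + a * N x k = 0 := by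
      apply hne
      intro j
      have h1 := hsym (a * x) k j
      have h2 := hsym x k j
      have h3 := L.two (a * (x * σ (N j k) + σ x * N j k))
      simp only [map_add, map_mul, ha] at h1 ⊢
      linear_combination h1 + a * h2 + h3
    exact eq_of_add L this
  -- basis
  have hN : ∀ l k, k ≠ 0 → N l k = 0 := by
    intro l k hk
    apply hne
    intro j
    obtain ⟨e, he⟩ := L.nt
    have hE := tr_ne L he
    by_cases hjk : σ (j / k) = j / k
    · -- `j` is a multiple of `k`
      have hj : j = (j / k) * k := by field_simp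
      rw [hj, hsym, hj]
      have h1 : N (j / k * k) k = 0 := by rw [hlin _ _ _ hjk, halt, mul_zero]
      have h2 : N (j / k * k / k * k) k = 0 := by
        have : j / k * k / k * k = j / k * k := by field_simp
        rw [this, h1]
      rw [h2, map_zero]
      ring
    · -- `j, k` is a basis, `l = a j + b k`
      set d := j / k with hd
      have hd' := tr_ne L hjk
      set x := l / k with hx
      have hσ : σ (d + σ d) = d + σ d := by rw [map_add, L.σσ, add_comm]
      have ha : σ ((x + σ x) / (d + σ d)) = (x + σ x) / (d + σ d) := by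
        rw [map_div₀, hσ, map_add, L.σσ, add_comm (σ x)]
      set a := (x + σ x) / (d + σ d) with hadef
      have hxa : x + σ x = a * (d + σ d) := by rw [hadef]; field_simp
      have hb : σ (x + a * d) = x + a * d := by
        rw [map_add, map_mul, ha]
        have h1 := L.two x
        have h2 := L.two (a * σ d)
        linear_combination hxa - h1 + h2
      have hl : l = a * j + (x + a * d) * k := by
        have h1 : l = x * k := by rw [hx]; field_simp
        have h2 : j = d * k := by rw [hd]; field_simp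
        have h3 := L.two (a * d * k)
        rw [h2]
        linear_combination h1 - h3
      rw [hl, hadd, hlin _ _ _ ha, hlin _ _ _ hb, halt, mul_zero, add_zero]
      have h1 : j * σ (N j k) + σ j * N j k = 0 := by
        rw [hsym' j k, hsym k j j, halt, map_zero]
        ring
      rw [map_mul, ha]
      linear_combination a * h1
  by_cases hk : k = 0
  · rw [hsym' l k]
    by_cases hl : l = 0
    · rw [hk, hl, halt]
    · exact hN k l hl
  · exact hN l k hk

/-- `W s` is elementary abelian, and the sum over four lies in `W p`. -/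
theorem main {u : M} (hu : u ∈ R) (hel : (∃ k, σ k = k ∧ k ≠ 0 ∧ k ≠ 1) ∨ u + u = 0) :
    u + u = 0 ∧ ∀ l k, S γ u l k ∈ P := by
  obtain ⟨e, he⟩ := L.nt
  have hE := tr_ne L he
  obtain ⟨y', hy', hsq⟩ := L.sq u hu
  have h0 := S_form L hu
  choose w hw ν b hb hS using h0
  have h1 := fun l k => E_form L (hw l k) (hb l k) (hS l k)
  choose ρ hρ hww hρE using h1
  -- symmetry
  have hsy : ∀ l k j, ρ l k + (j * σ (ν l k) + σ j * ν l k) + j * σ j * b l k =
      ρ j k + (l * σ (ν j k) + σ l * ν j k) + l * σ l * b j k ∧ j * b l k = l * b j k := by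
    intro l k j
    have h2 := E_symm L u l k j
    rw [hρE, hρE] at h2
    obtain ⟨h3, h4, -⟩ := A_inj L (fix_add L (fix_add L (hρ l k) (fix_tr L _ _)) (fix_norm L j (hb l k)))
      (map_zero _) (fix_add L (fix_add L (hρ j k) (fix_tr L _ _)) (fix_norm L l (hb j k))) (map_zero _) h2
    exact ⟨h3, h4⟩
  -- `b = 0`
  have hb0 : ∀ l k, b l k = 0 := by
    have h2 : ∀ k, b 1 k = 0 := by
      intro k
      have h3 := (hsy e k 1).2
      rw [one_mul] at h3
      by_contra h4
      apply he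
      have h5 : e = b e k / b 1 k := by rw [h3]; field_simp
      rw [h5, map_div₀, hb, hb]
    intro l k
    have h3 := (hsy l k 1).2
    rw [one_mul, h2, mul_zero] at h3
    exact h3
  have hSw : ∀ l k, S γ u l k = w l k + m (ν l k) := by
    intro l k
    rw [hS, hb0, nr_zero L, add_zero]
  have hνs : ∀ l k, ν l k = ν k l := by
    intro l k
    refine uniq L (hw l k) (hw k l) ?_
    rw [← hSw, ← hSw, S_symm L]
  have h3 : ∀ l k j, ρ l k + (j * σ (ν l k) + σ j * ν l k) = ρ j k + (l * σ (ν j k) + σ l * ν j k) := by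
    intro l k j
    have := (hsy l k j).1
    rw [hb0, hb0] at this
    simpa using this
  -- values at `0`
  have hγu : ∀ l, γ l (u + u) = nr y' + m (l * y') + np (l * σ l * y') := by
    intro l
    rw [hsq, L.γ_nr _ _ hy']
  have hν0 : ∀ l, ν l 0 = l * y' ∧ ρ l 0 = 0 := by
    intro l
    have h4 : S γ u l 0 = np (l * σ l * y') + m (l * y') := by
      rw [S_def, add_zero, L.γ_zero]
      have : u + γ l u + u + γ l u = (u + u) + γ l (u + u) := by rw [map_add]; abel
      rw [this, hγu, hsq]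
      have : nr y' + (nr y' + m (l * y') + np (l * σ l * y')) =
        (nr y' + nr y') + (np (l * σ l * y') + m (l * y')) := by abel
      rw [this, nr_two L hy', zero_add]
    have h5 := hSw l 0
    rw [h4] at h5
    have h6 := uniq L (L.np_P _ (fix_norm L l hy')) (hw l 0) h5
    refine ⟨h6.symm, ?_⟩
    rw [← h6] at h5
    have h7 : np (l * σ l * y') = w l 0 := add_right_cancel h5
    have h8 := hww l 0
    rw [← h7, np_two L (fix_norm L l hy')] at h8
    have h9 : np (ρ l 0) + m 0 + nr 0 = np 0 + m 0 + nr 0 := by rw [← h8, np_zero L]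
    exact (A_inj L (hρ _ _) (map_zero _) (map_zero _) (map_zero _) h9).1
  have hρ1 : ∀ l k, ρ l k = y' * (l * σ k + σ l * k) := by
    intro l k
    -- `T'(l, k, 0) = ρ l k = T'(0, k, l)`; `T'(l, 0, j) = j σ(l y') + ..`
    have h4 := h3 0 k l
    have h5 : ν 0 k = k * y' := by rw [hνs, (hν0 k).1]
    have h6 : ρ 0 k = 0 := by
      have h7 := h3 k 0 0
      rw [(hν0 k).2, (hν0 0).2] at h7
      have h8 := h3 0 k 0
      have h9 : np (ρ 0 k) = w 0 k + w 0 k := (hww 0 k).symm
      have h10 : w 0 k + m (ν 0 k) = w k 0 + m (ν k 0) := by rw [← hSw, ← hSw, S_symm L]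
      rw [hνs 0 k] at h10
      have h11 := add_right_cancel h10
      have h12 := hww k 0
      rw [(hν0 k).2] at h12
      rw [h11, h12] at h9
      have h13 : np (ρ 0 k) + m 0 + nr 0 = np 0 + m 0 + nr 0 := by rw [h9]
      exact (A_inj L (hρ _ _) (map_zero _) (map_zero _) (map_zero _) h13).1
    rw [h5, h6] at h4
    simp only [map_zero, map_mul, hy', zero_mul, add_zero, zero_add] at h4
    rw [← h4]
    ring
  -- the symmetric trilinear form
  have hT : ∀ l k j, j * σ (ν l k + y' * l + y' * k) + σ j * (ν l k + y' * l + y' * k) =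
      l * σ (ν j k + y' * j + y' * k) + σ l * (ν j k + y' * j + y' * k) := by
    intro l k j
    have h4 := h3 l k j
    rw [hρ1, hρ1] at h4
    simp only [map_add, map_mul, hy']
    have e1 := L.two (y' * (l * σ k + σ l * k))
    have e2 := L.two (y' * (j * σ k + σ j * k))
    linear_combination h4 + e2 - e1
  have hνll : ∀ l, ν l l = l * y' := by
    intro l
    have h4 : S γ u l l = np (l * σ l * y') + m (l * y') := by
      rw [S_def, L.two l, L.γ_zero]
      have : u + γ l u + γ l u + u = (u + u) + γ l (u + u) := by rw [map_add]; abel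
      rw [this, hγu, hsq]
      have : nr y' + (nr y' + m (l * y') + np (l * σ l * y')) =
        (nr y' + nr y') + (np (l * σ l * y') + m (l * y')) := by abel
      rw [this, nr_two L hy', zero_add]
    have h5 := hSw l l
    rw [h4] at h5
    exact (uniq L (L.np_P _ (fix_norm L l hy')) (hw l l) h5).symm
  have hN : ∀ l, ν l l + y' * l + y' * l = l * y' := by
    intro l
    rw [hνll, add_assoc, L.two, add_zero]
  have hy0 : y' = 0 := by
    rcases hel with ⟨a, ha, ha0, ha1⟩ | hel
    · -- `T(a e, a e, 1) = a² T(e, e, 1)`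
      have e1 := hT (a * e) (a * e) 1
      have e2 := hT e (a * e) (a * 1)
      have e3 := hT (a * e) 1 e
      have e4 := hT e e 1
      have e5 := hT (a * 1) e (a * e)
      have e6 := hT 1 e e
      -- T(l,k,j) := j σ N(l,k) + σ j N(l,k)
      have l1 : ∀ l k j c, σ c = c → (c * j) * σ (ν l k + y' * l + y' * k) + σ (c * j) * (ν l k + y' * l + y' * k) =
          c * (j * σ (ν l k + y' * l + y' * k) + σ j * (ν l k + y' * l + y' * k)) := by
        intro l k j c hc
        rw [map_mul, hc]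
        ring
      have l2 : ∀ l k j c, σ c = c → j * σ (ν (c * l) k + y' * (c * l) + y' * k) +
          σ j * (ν (c * l) k + y' * (c * l) + y' * k) =
          c * (j * σ (ν l k + y' * l + y' * k) + σ j * (ν l k + y' * l + y' * k)) := by
        intro l k j c hc
        rw [hT, l1 _ _ _ _ hc, hT j k l]
      have l3 : ∀ l k j, j * σ (ν l k + y' * l + y' * k) + σ j * (ν l k + y' * l + y' * k) =
          j * σ (ν k l + y' * k + y' * l) + σ j * (ν k l + y' * k + y' * l) := by
        intro l k j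
        rw [hνs l k, add_right_comm]
      have l4 := l2 e (a * e) 1 a ha
      rw [l3 e (a * e) 1, l2 e e 1 a ha, hN, hN] at l4
      simp only [map_mul, ha, hy', map_one, one_mul] at l4
      have l5 : (a * (a + 1)) * ((e + σ e) * y') = 0 := by
        have := L.two (a * (e * y' + σ e * y'))
        linear_combination this - l4
      rcases mul_eq_zero.1 l5 with l6 | l6
      · rcases mul_eq_zero.1 l6 with l7 | l7
        · exact absurd l7 ha0
        · exact absurd (eq_of_add L l7) ha1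
      · rcases mul_eq_zero.1 l6 with l7 | l7
        · exact absurd l7 hE
        · exact l7
    · rw [hsq] at hel
      have h13 : np 0 + m 0 + nr y' = np 0 + m 0 + nr 0 := by rw [hel, nr_zero L]
      exact (A_inj L (map_zero _) hy' (map_zero _) (map_zero _) h13).2.2
  refine ⟨by rw [hsq, hy0, nr_zero L], fun l k => ?_⟩
  have hz : ν l k = 0 := by
    refine N_zero L (N := ν) ?_ hνs ?_ l k
    · intro l k j
      have := hT l k j
      rw [hy0] at this
      simpa using this
    · intro l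
      rw [hνll, hy0, mul_zero]
  rw [hSw, hz, m_zero L, add_zero]
  exact hw l k

end Cfsg.Agent.OddHalf.D7.Uni.LineMod

end

-- merged: Cfsg.Agent.OddHalf.D7.Uni.LineGrp
section

/-!
# `LineMod.main` in the group (helper54, text: bb ODD 9100 (3))

`line_main`: if all the groups `W s`, `s ∈ E`, commute (`Comm`), then `W r` is elementary abelian (`q = 2`: given)
and `u * U l * U k * U (l + k) ∈ W p` for `u ∈ W r`, `U l = g l * u * (g l)⁻¹`.
-/

set_option autoImplicit false
set_option linter.unusedSectionVars false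

namespace Cfsg.Agent.OddHalf.D7.Uni.LineGrp

open Cfsg.Agent.OddHalf.D7.Uni.Defs Cfsg.Agent.OddHalf.D7.Uni.Line

variable {G : Type*} [Group G] {F : Type*} [Field F] {σ : F →+* F} {t : G} {np nr m g : F → G}
  {OE Wp Wr : Subgroup G}

/-- All the groups `W s`, `s ∈ E`, commute. -/
structure Comm (Wp Wr : Subgroup G) (g : F → G) : Prop where
  pp : ∀ v ∈ Wp, ∀ u ∈ Wp, v * u = u * v
  pr : ∀ v ∈ Wp, ∀ u ∈ Wr, v * u = u * v
  rr : ∀ l, ∀ u ∈ Wr, ∀ v ∈ Wr, g l * u * (g l)⁻¹ * v = v * (g l * u * (g l)⁻¹)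

/-- The generators of `⟨W s : s ∈ E⟩`. -/
def gens (Wp Wr : Subgroup G) (m g : F → G) : Set G :=
  {x | x ∈ Wp ∨ (∃ l, ∃ u ∈ Wr, x = g l * u * (g l)⁻¹) ∨ ∃ μ, x = m μ}

variable (L : Line σ t OE Wp Wr np nr m g) (H : Comm Wp Wr g)

include L H

theorem gens_comm {x y : G} (hx : x ∈ gens Wp Wr m g) (hy : y ∈ gens Wp Wr m g) : x * y = y * x := by
  have C := L.toCoord
  have hm : ∀ x μ, x ∈ gens Wp Wr m g → x * m μ = m μ * x := by
    intro x μ hx
    rcases hx with hx | ⟨l, u, hu, rfl⟩ | ⟨ν, rfl⟩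
    · exact L.p_m x hx μ
    · have := U_A L hu l μ (map_zero σ) (map_zero σ)
      rw [np_zero C, nr_zero C, one_mul, mul_one] at this
      exact this
    · rw [← C.m_add, ← C.m_add, add_comm]
  have hpU : ∀ v ∈ Wp, ∀ l, ∀ u ∈ Wr, v * (g l * u * (g l)⁻¹) = g l * u * (g l)⁻¹ * v := by
    intro v hv l u hu
    have e1 : Commute v (g l) := (L.g_p l v hv).symm
    have e2 : Commute v u := H.pr v hv u hu
    exact (e1.mul_right e2).mul_right e1.inv_right
  have hUU : ∀ l, ∀ u ∈ Wr, ∀ k, ∀ v ∈ Wr, g l * u * (g l)⁻¹ * (g k * v * (g k)⁻¹) =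
      g k * v * (g k)⁻¹ * (g l * u * (g l)⁻¹) := by
    intro l u hu k v hv
    have e1 : g l = g k * g (k + l) := by
      rw [← C.g_add, ← add_assoc, C.two, zero_add]
    have e2 := H.rr (k + l) u hu v hv
    have e3 : g l * u * (g l)⁻¹ = g k * (g (k + l) * u * (g (k + l))⁻¹) * (g k)⁻¹ := by
      rw [e1]; group
    rw [e3]
    calc g k * (g (k + l) * u * (g (k + l))⁻¹) * (g k)⁻¹ * (g k * v * (g k)⁻¹) =
        g k * (g (k + l) * u * (g (k + l))⁻¹ * v) * (g k)⁻¹ := by group
      _ = g k * (v * (g (k + l) * u * (g (k + l))⁻¹)) * (g k)⁻¹ := by rw [e2]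
      _ = _ := by group
  rcases hy with hy' | ⟨k, v, hv, rfl⟩ | ⟨ν, rfl⟩
  · rcases hx with hx' | ⟨l, u, hu, rfl⟩ | ⟨μ, rfl⟩
    · exact H.pp x hx' y hy'
    · exact (hpU y hy' l u hu).symm
    · exact (hm y μ (Or.inl hy')).symm
  · rcases hx with hx' | ⟨l, u, hu, rfl⟩ | ⟨μ, rfl⟩
    · exact hpU x hx' k v hv
    · exact hUU l u hu k v hv
    · exact (hm _ μ (Or.inr (Or.inl ⟨k, v, hv, rfl⟩))).symm
  · exact hm x ν hx

theorem FE_comm {x y : G} (hx : x ∈ Subgroup.closure (gens Wp Wr m g))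
    (hy : y ∈ Subgroup.closure (gens Wp Wr m g)) : x * y = y * x := by
  have h1 : ∀ z ∈ gens Wp Wr m g, Subgroup.closure (gens Wp Wr m g) ≤ Subgroup.centralizer {z} := by
    intro z hz
    rw [Subgroup.closure_le]
    intro w hw
    rw [SetLike.mem_coe, Subgroup.mem_centralizer_singleton_iff]
    exact gens_comm L H hw hz
  have h2 : Subgroup.closure (gens Wp Wr m g) ≤ Subgroup.centralizer {y} := by
    rw [Subgroup.closure_le]
    intro w hw
    rw [SetLike.mem_coe, Subgroup.mem_centralizer_singleton_iff]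
    have := h1 w hw hy
    rw [Subgroup.mem_centralizer_singleton_iff] at this
    exact this.symm
  have := h2 hx
  rw [Subgroup.mem_centralizer_singleton_iff] at this
  exact this

omit H in
theorem O_FE {c x : G} (hc : c ∈ OE) (hx : x ∈ Subgroup.closure (gens Wp Wr m g))
    (hm : ∀ μ, c * m μ = m μ * c) : c * x = x * c := by
  have h2 : Subgroup.closure (gens Wp Wr m g) ≤ Subgroup.centralizer {c} := by
    rw [Subgroup.closure_le]
    intro w hw
    rw [SetLike.mem_coe, Subgroup.mem_centralizer_singleton_iff]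
    rcases hw with hw | ⟨l, u, hu, rfl⟩ | ⟨ν, rfl⟩
    · exact (L.O_p c hc w hw).symm
    · exact (O_U L hu l hc).symm
    · exact (hm ν).symm
  have := h2 hx
  rw [Subgroup.mem_centralizer_singleton_iff] at this
  exact this.symm

omit H in
theorem conj_mem {a : G} (ha : ∀ x ∈ gens Wp Wr m g, a * x * a⁻¹ ∈ Subgroup.closure (gens Wp Wr m g)) {x : G}
    (hx : x ∈ Subgroup.closure (gens Wp Wr m g)) : a * x * a⁻¹ ∈ Subgroup.closure (gens Wp Wr m g) := by
  have h2 : Subgroup.closure (gens Wp Wr m g) ≤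
      (Subgroup.closure (gens Wp Wr m g)).comap (MulAut.conj a).toMonoidHom := by
    rw [Subgroup.closure_le]
    intro w hw
    exact ha w hw
  exact h2 hx

omit H in
theorem t_FE {x : G} (hx : x ∈ Subgroup.closure (gens Wp Wr m g)) :
    t * x * t⁻¹ ∈ Subgroup.closure (gens Wp Wr m g) := by
  have C := L.toCoord
  refine conj_mem L ?_ hx
  have ht : t⁻¹ = t := inv_eq_of_mul_eq_one_left L.tt
  have hp : ∀ x, σ x = x → np x ∈ Subgroup.closure (gens Wp Wr m g) :=
    fun x hx => Subgroup.subset_closure (Or.inl (L.dp.mem x hx))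
  have hr : ∀ x, σ x = x → nr x ∈ Subgroup.closure (gens Wp Wr m g) := fun x hx =>
    Subgroup.subset_closure (Or.inr (Or.inl ⟨0, nr x, L.dr.mem x hx, by rw [U_zero L]⟩))
  have hm : ∀ x, m x ∈ Subgroup.closure (gens Wp Wr m g) := fun x =>
    Subgroup.subset_closure (Or.inr (Or.inr ⟨x, rfl⟩))
  rintro x (hx | ⟨l, u, hu, rfl⟩ | ⟨μ, rfl⟩)
  · obtain ⟨y, hy, h⟩ := L.dp.brk x hx
    rw [ht, h]
    exact mul_mem (Subgroup.subset_closure (Or.inl hx)) (hp y hy)
  · obtain ⟨y, hy, h⟩ := L.dr.brk u hu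
    rw [ht, tU L hy h]
    exact mul_mem (Subgroup.subset_closure (Or.inr (Or.inl ⟨l, u, hu, rfl⟩)))
      (mul_mem (mul_mem (hp _ (fix_norm C l hy)) (hm _)) (hr y hy))
  · rw [L.t_m, mul_assoc, mul_inv_cancel, mul_one]
    exact hm μ

omit H in
theorem g_FE (k : F) {x : G} (hx : x ∈ Subgroup.closure (gens Wp Wr m g)) :
    g k * x * (g k)⁻¹ ∈ Subgroup.closure (gens Wp Wr m g) := by
  have C := L.toCoord
  refine conj_mem L ?_ hx
  rintro x (hx | ⟨l, u, hu, rfl⟩ | ⟨μ, rfl⟩)
  · rw [L.g_p k x hx, mul_assoc, mul_inv_cancel, mul_one]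
    exact Subgroup.subset_closure (Or.inl hx)
  · refine Subgroup.subset_closure (Or.inr (Or.inl ⟨k + l, u, hu, ?_⟩))
    rw [C.g_add]
    group
  · rw [C.g_m]
    exact mul_mem (Subgroup.subset_closure (Or.inr (Or.inr ⟨μ, rfl⟩)))
      (Subgroup.subset_closure (Or.inl (L.dp.mem _ (fix_tr C k μ))))

/-- Conjugation on a subgroup. -/
noncomputable def cj (A : Subgroup G) (a : G) (ha : ∀ x ∈ A, a * x * a⁻¹ ∈ A) : A →* A :=
  ((MulAut.conj a).toMonoidHom.comp A.subtype).codRestrict A (fun x => ha x x.2)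

omit L H in
theorem cj_coe (A : Subgroup G) (a : G) (ha : ∀ x ∈ A, a * x * a⁻¹ ∈ A) (x : A) :
    ((cj A a ha x : A) : G) = a * x * a⁻¹ := rfl

theorem line_main {u : G} (hu : u ∈ Wr)
    (hel : (∃ k, σ k = k ∧ k ≠ 0 ∧ k ≠ 1) ∨ u * u = 1) :
    u * u = 1 ∧ ∀ l k, u * (g l * u * (g l)⁻¹) * (g k * u * (g k)⁻¹) * (g (l + k) * u * (g (l + k))⁻¹) ∈ Wp := by
  classical
  have C := L.toCoord
  set A := Subgroup.closure (gens Wp Wr m g) with hA
  have ht : t⁻¹ = t := inv_eq_of_mul_eq_one_left L.tt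
  let _ : CommGroup A := { (inferInstance : Group A) with
    mul_comm := fun a b => Subtype.ext (FE_comm L H a.2 b.2) }
  have hWp : ∀ x ∈ Wp, x ∈ A := fun x hx => Subgroup.subset_closure (Or.inl hx)
  have hWr : ∀ x ∈ Wr, x ∈ A := fun x hx =>
    Subgroup.subset_closure (Or.inr (Or.inl ⟨0, x, hx, by rw [U_zero L]⟩))
  have hnp : ∀ x, σ x = x → np x ∈ A := fun x hx => hWp _ (L.dp.mem x hx)
  have hnr : ∀ x, σ x = x → nr x ∈ A := fun x hx => hWr _ (L.dr.mem x hx)
  have hm : ∀ x, m x ∈ A := fun x => Subgroup.subset_closure (Or.inr (Or.inr ⟨x, rfl⟩))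
  let np' : F → Additive A := fun x => if h : np x ∈ A then Additive.ofMul ⟨np x, h⟩ else 0
  let nr' : F → Additive A := fun x => if h : nr x ∈ A then Additive.ofMul ⟨nr x, h⟩ else 0
  let m' : F → Additive A := fun x => Additive.ofMul ⟨m x, hm x⟩
  let c : Additive A → G := fun x => ((Additive.toMul x : A) : G)
  have cinj : ∀ x y, c x = c y → x = y := fun x y h => Additive.toMul.injective (Subtype.ext h)
  have cadd : ∀ x y, c (x + y) = c x * c y := fun x y => rfl
  have czero : c 0 = 1 := rfl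
  have cnp : ∀ x, σ x = x → c (np' x) = np x := by
    intro x hx
    show c (if h : np x ∈ A then Additive.ofMul ⟨np x, h⟩ else 0) = np x
    rw [dif_pos (hnp x hx)]
    rfl
  have cnr : ∀ x, σ x = x → c (nr' x) = nr x := by
    intro x hx
    show c (if h : nr x ∈ A then Additive.ofMul ⟨nr x, h⟩ else 0) = nr x
    rw [dif_pos (hnr x hx)]
    rfl
  have cm : ∀ x, c (m' x) = m x := fun x => rfl
  let τ : Additive A →+ Additive A := MonoidHom.toAdditive (cj A t (fun x hx => t_FE L hx))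
  let γ : F → Additive A →+ Additive A := fun l => MonoidHom.toAdditive (cj A (g l) (fun x hx => g_FE L l hx))
  have cτ : ∀ x, c (τ x) = t * c x * t⁻¹ := fun x => rfl
  have cγ : ∀ l x, c (γ l x) = g l * c x * (g l)⁻¹ := fun l x => rfl
  let P : AddSubgroup (Additive A) := Subgroup.toAddSubgroup (Wp.subgroupOf A)
  let R : AddSubgroup (Additive A) := Subgroup.toAddSubgroup (Wr.subgroupOf A)
  have hP : ∀ x, x ∈ P ↔ c x ∈ Wp := fun x => Iff.rfl
  have hR : ∀ x, x ∈ R ↔ c x ∈ Wr := fun x => Iff.rfl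
  have lift : ∀ x ∈ A, ∃ y, c y = x := fun x hx => ⟨Additive.ofMul ⟨x, hx⟩, rfl⟩
  have hnotin : t ∉ A := by
    intro h
    obtain ⟨w, hw, hwt⟩ := L.dp.surj 1 (map_one σ)
    have h1 := FE_comm L H h (hWp w hw)
    rw [h1, mul_assoc, L.tt] at hwt
    have h2 : np 1 = 1 := (mul_left_cancel hwt).symm
    exact one_ne_zero (np_inj L (map_one σ) h2)
  have LM : LineMod.LMod σ τ γ np' nr' m' P R :=
    { two := C.two
      σσ := C.σσ
      nt := C.nt
      np_add := fun x y hx hy => cinj _ _ (by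
        rw [cadd, cnp _ (fix_add C hx hy), cnp x hx, cnp y hy, C.np_add x y hx hy])
      nr_add := fun x y hx hy => cinj _ _ (by
        rw [cadd, cnr _ (fix_add C hx hy), cnr x hx, cnr y hy, C.nr_add x y hx hy])
      m_add := fun x y => cinj _ _ (by rw [cadd, cm, cm, cm, C.m_add])
      inj := fun x μ y hx hy h => C.inj x μ y hx hy (by
        have := congrArg c h
        rwa [cadd, cadd, cnp x hx, cnr y hy, cm, czero] at this)
      t_np := fun x hx => cinj _ _ (by rw [cτ, cnp x hx, C.t_np x hx]; group)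
      t_nr := fun x hx => cinj _ _ (by rw [cτ, cnr x hx, C.t_nr x hx]; group)
      t_m := fun x => cinj _ _ (by rw [cτ, cm, C.t_m x]; group)
      γ_zero := fun w => cinj _ _ (by rw [cγ, g_zero C]; simp)
      γ_add := fun l k w => cinj _ _ (by rw [cγ, cγ, cγ, C.g_add]; group)
      γ_t := fun l w => cinj _ _ (by
        rw [cτ, cγ, cγ, cτ]
        have e1 := C.t_g l
        calc t * (g l * c w * (g l)⁻¹) * t⁻¹ = (t * g l) * c w * (t * g l)⁻¹ := by group
          _ = _ := by rw [e1]; group)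
      γ_P := fun l w hw => cinj _ _ (by
        rw [cγ, L.g_p l _ ((hP w).1 hw)]; group)
      γ_m := fun l μ => cinj _ _ (by
        rw [cγ, cadd, cm, cnp _ (fix_tr C l μ), C.g_m])
      γ_nr := fun l y hy => cinj _ _ (by
        rw [cγ, cadd, cadd, cm, cnp _ (fix_norm C l hy), cnr y hy, C.g_nr l y hy])
      np_P := fun x hx => (hP _).2 (by rw [cnp x hx]; exact L.dp.mem x hx)
      surj := fun x hx => by
        obtain ⟨w, hw, h⟩ := L.dp.surj x hx
        obtain ⟨w', rfl⟩ := lift w (hWp w hw)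
        exact ⟨w', (hP _).2 hw, cinj _ _ (by rw [cτ, cadd, cnp x hx, ht, h])⟩
      brkP := fun w hw => by
        obtain ⟨x, hx, h⟩ := L.dp.brk _ ((hP w).1 hw)
        exact ⟨x, hx, cinj _ _ (by rw [cτ, cadd, cnp x hx, ht, h])⟩
      cent := fun w hw h => by
        have h1 := congrArg c h
        rw [cτ] at h1
        have h2 : t * c w = c w * t := by
          calc t * c w = (t * c w * t⁻¹) * t := by group
            _ = _ := by rw [h1]
        obtain ⟨x, hx, h3⟩ := L.dp.cent _ ((hP w).1 hw) h2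
        exact ⟨x, hx, cinj _ _ (by rw [cnp x hx, h3])⟩
      brk := fun w hw => by
        obtain ⟨x, hx, h⟩ := L.dr.brk _ ((hR w).1 hw)
        exact ⟨x, hx, cinj _ _ (by rw [cτ, cadd, cnr x hx, ht, h])⟩
      sq := fun w hw => by
        obtain ⟨x, hx, h⟩ := rsq L ((hR w).1 hw)
        exact ⟨x, hx, cinj _ _ (by rw [cadd, cnr x hx, h])⟩
      K2 := fun x h => by
        have h1 := congrArg c h
        rw [cτ] at h1
        have h2 : c x * t = t * c x := by
          calc c x * t = (t * c x * t⁻¹) * t := by rw [h1]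
            _ = _ := by group
        have hxA : c x ∈ A := (Additive.toMul x : A).2
        obtain ⟨a, μ, b, ha, hb, h3 | h3⟩ := L.K2 (c x) h2 (fun o ho => (O_FE L ho hxA (L.O_m o ho)).symm)
        · exact ⟨a, μ, b, ha, hb, cinj _ _ (by rw [cadd, cadd, cnp a ha, cnr b hb, cm, h3])⟩
        · exfalso
          apply hnotin
          have h4 : np a * m μ * nr b ∈ A := mul_mem (mul_mem (hnp a ha) (hm μ)) (hnr b hb)
          rw [h3] at hxA
          exact (Subgroup.mul_mem_cancel_right A h4).1 hxA }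
  obtain ⟨u', rfl⟩ := lift u (hWr u hu)
  have h1 := LineMod.main LM (u := u') ((hR _).2 hu) (by
    rcases hel with h | h
    · exact Or.inl h
    · exact Or.inr (cinj _ _ (by rw [cadd, h, czero])))
  refine ⟨?_, fun l k => ?_⟩
  · have := congrArg c h1.1
    rwa [cadd, czero] at this
  · have := (hP _).1 (h1.2 l k)
    rwa [LineMod.S_def, cadd, cadd, cadd, cγ, cγ, cγ] at this

omit L H

/-- `q > 2`: `[W p, W r] = 1`. -/
theorem comm_of_large {m' g' : F → G} (L : Line σ t OE Wp Wr np nr m g) (L' : Line σ t OE Wr Wp nr np m' g')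
    {h h' : G} (T : Tor σ t Wp Wr np nr m h) (T' : Tor σ t Wr Wp nr np m' h')
    (S : Scale σ t Wp Wr np nr) (S' : Scale σ t Wr Wp nr np)
    (hq : ∃ k, σ k = k ∧ k ≠ 0 ∧ k ≠ 1) {v u : G} (hv : v ∈ Wp) (hu : u ∈ Wr) : v * u = u * v := by
  have C := L.toCoord
  obtain ⟨a, b, ha, hb, h1⟩ := comm_form L T hv hu
  obtain ⟨a', b', ha', hb', h2⟩ := comm_form L' T' hu hv
  have hb0 := b_zero L S hq hv hu ha hb h1
  have hb0' := b_zero L' S' hq hu hv ha' hb' h2
  rw [hb0, nr_zero C, mul_one] at h1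
  rw [hb0', np_zero C, mul_one] at h2
  have h3 : u * v * (nr a' * np a) = u * v := by
    rw [h1] at h2
    calc u * v * (nr a' * np a) = u * v * (np a * nr a') := by rw [C.np_nr a a' ha ha']
      _ = u * v * np a * nr a' := by simp only [mul_assoc]
      _ = u * v := h2.symm
  have h4 : np a * m 0 * nr a' = np 0 * m 0 * nr 0 := by
    have h5 : nr a' * np a = 1 := mul_left_cancel (h3.trans (mul_one _).symm)
    rw [m_zero C, np_zero C, nr_zero C, mul_one, mul_one, mul_one, C.np_nr a a' ha ha', h5]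
  have h6 := (A_inj C ha ha' (map_zero σ) (map_zero σ) h4).1
  rw [h1, h6, np_zero C, mul_one]

/-- `q = 2`: `[v, u] = 1` or `[v, u] = np 1 * nr 1`. -/
theorem comm_of_two {h s : G} (L : Line σ t OE Wp Wr np nr m g) (T : Tor σ t Wp Wr np nr m h)
    (hq : ∀ k, σ k = k → k = 0 ∨ k = 1) (st : s * t = t * s)
    (sp : ∀ w ∈ Wp, s * w * s⁻¹ ∈ Wr) (sr : ∀ w ∈ Wr, s * w * s⁻¹ ∈ Wp)
    (snp : ∀ x, σ x = x → s * np x * s⁻¹ = nr x) (snr : ∀ x, σ x = x → s * nr x * s⁻¹ = np x)
    {v u : G} (hv : v ∈ Wp) (hu : u ∈ Wr) :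
    v * u = u * v ∨ (t * v * t = v * np 1 ∧ t * u * t = u * nr 1 ∧ v * u = u * v * (np 1 * nr 1)) := by
  have C := L.toCoord
  have ht : t⁻¹ = t := inv_eq_of_mul_eq_one_left L.tt
  obtain ⟨a, b, ha, hb, h1⟩ := comm_form L T hv hu
  obtain ⟨x, hx, hvx⟩ := L.dp.brk v hv
  obtain ⟨y, hy, huy⟩ := L.dr.brk u hu
  -- trivial cases
  have hv0 : x = 0 → v * u = u * v := by
    intro h0
    rw [h0, np_zero C, mul_one] at hvx
    have e4 : t * v = v * t := by
      calc t * v = t * v * (t * t) := by rw [L.tt, mul_one]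
        _ = (t * v * t) * t := by simp only [mul_assoc]
        _ = v * t := by rw [hvx]
    obtain ⟨s, hs, hvs⟩ := L.dp.cent v hv e4
    rw [hvs]
    exact (L.r_np u hu s hs).symm
  have hu0 : y = 0 → v * u = u * v := by
    intro h0
    rw [h0, nr_zero C, mul_one] at huy
    have e4 : t * u = u * t := by
      calc t * u = t * u * (t * t) := by rw [L.tt, mul_one]
        _ = (t * u * t) * t := by simp only [mul_assoc]
        _ = u * t := by rw [huy]
    obtain ⟨s, hs, hus⟩ := L.dr.cent u hu e4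
    rw [hus]
    exact L.p_nr v hv s hs
  rcases hq x hx with h2 | h2
  · exact Or.inl (hv0 h2)
  rcases hq y hy with h3 | h3
  · exact Or.inl (hu0 h3)
  subst h2 h3
  -- the swap
  have e1 : t * s = s * t := st.symm
  have hsv : t * (s * v * s⁻¹) * t = s * v * s⁻¹ * nr 1 := by
    rw [← snp 1 (map_one σ)]
    calc t * (s * v * s⁻¹) * t = (t * s) * v * (t⁻¹ * s)⁻¹ := by group
      _ = (s * t) * v * (s * t⁻¹)⁻¹ := by rw [ht, e1]
      _ = s * (t * v * t) * s⁻¹ := by group
      _ = _ := by rw [hvx]; group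
  have hsu : t * (s * u * s⁻¹) * t = s * u * s⁻¹ * np 1 := by
    rw [← snr 1 (map_one σ)]
    calc t * (s * u * s⁻¹) * t = (t * s) * u * (t⁻¹ * s)⁻¹ := by group
      _ = (s * t) * u * (s * t⁻¹)⁻¹ := by rw [ht, e1]
      _ = s * (t * u * t) * s⁻¹ := by group
      _ = _ := by rw [huy]; group
  obtain ⟨z1, hz1, hv1⟩ := same L L.dp (sr u hu) hv (map_one σ) hsu hvx
  obtain ⟨z2, hz2, hu1⟩ := same L L.dr (sp v hv) hu (map_one σ) hsv huy
  -- conjugate `h1` by `s`
  have h4 : s * v * s⁻¹ * (s * u * s⁻¹) = s * u * s⁻¹ * (s * v * s⁻¹) * (nr a * np b) := by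
    rw [← snp a ha, ← snr b hb]
    calc s * v * s⁻¹ * (s * u * s⁻¹) = s * (v * u) * s⁻¹ := by group
      _ = s * (u * v * (np a * nr b)) * s⁻¹ := by rw [h1]
      _ = _ := by group
  set v' := s * u * s⁻¹ with hv'
  set u' := s * v * s⁻¹ with hu'
  have hv'm : v' ∈ Wp := sr u hu
  have hu'm : u' ∈ Wr := sp v hv
  -- `v * u = v' * u'` up to centre
  have h5 : v' * u' = u' * v' * (np a * nr b) := by
    have c1 : Commute (np z1) u' := (L.r_np u' hu'm z1 hz1).symm
    have c2 : Commute (nr z2) v' := (L.p_nr v' hv'm z2 hz2).symm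
    have c3 : Commute (np z1) (nr z2) := C.np_nr z1 z2 hz1 hz2
    have c4 : Commute (np z1) v' := (L.dp.cn _ hv'm z1 hz1).symm
    have c5 : Commute (nr z2) u' := (L.dr.cn _ hu'm z2 hz2).symm
    have h6 : v * u = v' * u' * (np z1 * nr z2) := by
      rw [hv1, hu1]
      calc v' * np z1 * (u' * nr z2) = v' * (np z1 * u') * nr z2 := by simp only [mul_assoc]
        _ = _ := by rw [c1.eq]; simp only [mul_assoc]
    have h7 : u * v = u' * v' * (np z1 * nr z2) := by
      rw [hv1, hu1]
      calc u' * nr z2 * (v' * np z1) = u' * (nr z2 * v') * np z1 := by simp only [mul_assoc]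
        _ = u' * v' * (nr z2 * np z1) := by rw [c2.eq]; simp only [mul_assoc]
        _ = _ := by rw [← c3.eq]
    rw [h6, h7] at h1
    have h8 : np z1 * nr z2 * (np a * nr b) = np a * nr b * (np z1 * nr z2) := by
      have := A_comm C 0 0 hz1 hz2 ha hb
      simpa only [m_zero C, mul_one] using this
    have h9 : v' * u' * (np z1 * nr z2) = u' * v' * (np a * nr b) * (np z1 * nr z2) := by
      rw [h1]
      calc u' * v' * (np z1 * nr z2) * (np a * nr b) = u' * v' * (np z1 * nr z2 * (np a * nr b)) := by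
            simp only [mul_assoc]
        _ = _ := by rw [h8]; simp only [mul_assoc]
    exact mul_right_cancel h9
  -- `u' v' = v' u' (nr a np b)`
  have h6 : u' * v' * (np a * nr b * (nr a * np b)) = u' * v' * 1 := by
    rw [mul_one]
    calc u' * v' * (np a * nr b * (nr a * np b)) = u' * v' * (np a * nr b) * (nr a * np b) := by
          simp only [mul_assoc]
      _ = v' * u' * (nr a * np b) := by rw [← h5]
      _ = u' * v' := h4.symm
  have h7 : np a * nr b * (nr a * np b) = 1 := mul_left_cancel h6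
  have h8 : np (a + b) * m 0 * nr (b + a) = np 0 * m 0 * nr 0 := by
    have e1 : nr a * np b = np b * m 0 * nr a := by
      rw [m_zero C, mul_one, C.np_nr b a hb ha]
    have e2 : np a * nr b = np a * m 0 * nr b := by rw [m_zero C, mul_one]
    rw [e1, e2, A_mul C 0 0 ha hb hb ha] at h7
    rw [add_zero] at h7
    rw [h7, m_zero C, np_zero C, nr_zero C]
    simp
  have hab : a = b := eq_of_add C (A_inj C (fix_add C ha hb) (fix_add C hb ha) (map_zero σ) (map_zero σ) h8).1
  subst hab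
  rcases hq a ha with h9 | h9
  · left
    rw [h1, h9, np_zero C, nr_zero C]
    simp
  · right
    refine ⟨hvx, huy, ?_⟩
    rw [h1, h9]

/-- `q = 2`: `W p` is abelian. -/
theorem ab_of_two (L : Line σ t OE Wp Wr np nr m g) (hq : ∀ k, σ k = k → k = 0 ∨ k = 1) {v u : G} (hv : v ∈ Wp)
    (hu : u ∈ Wp) : v * u = u * v := by
  have C := L.toCoord
  have h0 : ∀ w ∈ Wp, t * w * t = w * np 0 → ∃ x, σ x = x ∧ w = np x := by
    intro w hw h
    rw [np_zero C, mul_one] at h
    refine L.dp.cent w hw ?_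
    calc t * w = t * w * (t * t) := by rw [L.tt, mul_one]
      _ = (t * w * t) * t := by simp only [mul_assoc]
      _ = w * t := by rw [h]
  obtain ⟨x, hx, hvx⟩ := L.dp.brk v hv
  obtain ⟨y, hy, huy⟩ := L.dp.brk u hu
  rcases hq x hx with h1 | h1
  · obtain ⟨s, hs, rfl⟩ := h0 v hv (by rw [hvx, h1])
    exact (L.dp.cn u hu s hs).symm
  rcases hq y hy with h2 | h2
  · obtain ⟨s, hs, rfl⟩ := h0 u hu (by rw [huy, h2])
    exact L.dp.cn v hv s hs
  subst h1 h2
  exact same_comm L L.dp hv hu (map_one σ) hvx huy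

end Cfsg.Agent.OddHalf.D7.Uni.LineGrp

end

-- merged: Cfsg.Agent.OddHalf.D7.Uni.LineEL
section

/-!
# `E_l = ⟨W s : s ∈ l⟩` satisfies `Quad.EL` (helper54)
-/

set_option autoImplicit false
set_option linter.unusedSectionVars false

namespace Cfsg.Agent.OddHalf.D7.Uni.LineEL

open Cfsg.Agent.OddHalf.D7.Uni.Defs Cfsg.Agent.OddHalf.D7.Uni.Line Cfsg.Agent.OddHalf.D7.Uni.LineGrp

variable {G : Type*} [Group G] {F : Type*} [Field F] {σ : F →+* F} {t : G} {np nr m g : F → G}
  {OE Wp Wr Q : Subgroup G}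

/-- `E_l` -/
def EE (Wp Wr : Subgroup G) (m g : F → G) : Subgroup G := Subgroup.closure (gens Wp Wr m g)

variable (L : Line σ t OE Wp Wr np nr m g)

include L

theorem p_le : Wp ≤ EE Wp Wr m g := fun _ hx => Subgroup.subset_closure (Or.inl hx)

theorem r_le : Wr ≤ EE Wp Wr m g := fun x hx =>
  Subgroup.subset_closure (Or.inr (Or.inl ⟨0, x, hx, by rw [U_zero L]⟩))

theorem m_mem (x : F) : m x ∈ EE Wp Wr m g := Subgroup.subset_closure (Or.inr (Or.inr ⟨x, rfl⟩))

theorem np_mem {x : F} (hx : σ x = x) : np x ∈ EE Wp Wr m g := p_le L (L.dp.mem x hx)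

theorem nr_mem {x : F} (hx : σ x = x) : nr x ∈ EE Wp Wr m g := r_le L (L.dr.mem x hx)

theorem A_mem {x y : F} (μ : F) (hx : σ x = x) (hy : σ y = y) : np x * m μ * nr y ∈ EE Wp Wr m g :=
  mul_mem (mul_mem (np_mem L hx) (m_mem L μ)) (nr_mem L hy)

variable (H : Comm Wp Wr g)

include H

theorem not_mem : t ∉ EE Wp Wr m g := by
  intro h
  obtain ⟨w, hw, hwt⟩ := L.dp.surj 1 (map_one σ)
  have h1 := FE_comm L H h (p_le L hw)
  rw [h1, mul_assoc, L.tt] at hwt
  have h2 : np 1 = 1 := (mul_left_cancel hwt).symm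
  exact one_ne_zero (np_inj L (map_one σ) h2)

theorem sq (hp : ∀ w ∈ Wp, w * w = 1) (hr : ∀ w ∈ Wr, w * w = 1) {x : G} (hx : x ∈ EE Wp Wr m g) : x * x = 1 := by
  have hx' : x ∈ Subgroup.closure (gens Wp Wr m g) := hx
  clear hx
  induction hx' using Subgroup.closure_induction with
  | mem x hx =>
    rcases hx with hx | ⟨l, u, hu, rfl⟩ | ⟨ν, rfl⟩
    · exact hp x hx
    · calc g l * u * (g l)⁻¹ * (g l * u * (g l)⁻¹) = g l * (u * u) * (g l)⁻¹ := by group
        _ = 1 := by rw [hr u hu]; group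
    · exact m_sq L.toCoord ν
  | one => rw [mul_one]
  | mul x y hx hy ihx ihy =>
    have e := FE_comm L H hx hy
    calc x * y * (x * y) = x * (y * x) * y := by group
      _ = (x * x) * (y * y) := by rw [← e]; group
      _ = 1 := by rw [ihx, ihy, mul_one]
  | inv x hx ih =>
    calc x⁻¹ * x⁻¹ = (x * x)⁻¹ := by group
      _ = 1 := by rw [ih, inv_one]

theorem brk {x : G} (hx : x ∈ EE Wp Wr m g) :
    ∃ a μ b, σ a = a ∧ σ b = b ∧ t * x * t = x * (np a * m μ * nr b) := by
  have C := L.toCoord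
  have hx' : x ∈ Subgroup.closure (gens Wp Wr m g) := hx
  clear hx
  induction hx' using Subgroup.closure_induction with
  | mem x hx =>
    rcases hx with hx | ⟨l, u, hu, rfl⟩ | ⟨ν, rfl⟩
    · obtain ⟨a, ha, h⟩ := L.dp.brk x hx
      exact ⟨a, 0, 0, ha, map_zero σ, by rw [h, m_zero C, nr_zero C, mul_one, mul_one]⟩
    · obtain ⟨b, hb, h⟩ := L.dr.brk u hu
      exact ⟨_, _, b, fix_norm C l hb, hb, tU L hb h l⟩
    · refine ⟨0, 0, 0, map_zero σ, map_zero σ, ?_⟩
      rw [L.t_m, mul_assoc, L.tt, np_zero C, m_zero C, nr_zero C, mul_one, mul_one, mul_one, mul_one]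
  | one =>
    refine ⟨0, 0, 0, map_zero σ, map_zero σ, ?_⟩
    rw [mul_one, L.tt, np_zero C, m_zero C, nr_zero C, mul_one, mul_one, mul_one]
  | mul x y hx hy ihx ihy =>
    obtain ⟨a, μ, b, ha, hb, h1⟩ := ihx
    obtain ⟨a', μ', b', ha', hb', h2⟩ := ihy
    refine ⟨a + a', μ + μ', b + b', fix_add C ha ha', fix_add C hb hb', ?_⟩
    have e := FE_comm L H hy (A_mem L μ ha hb)
    rw [← A_mul C μ μ' ha hb ha' hb']
    calc t * (x * y) * t = t * x * 1 * y * t := by group
      _ = t * x * (t * t) * y * t := by rw [L.tt]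
      _ = (t * x * t) * (t * y * t) := by group
      _ = x * (np a * m μ * nr b) * (y * (np a' * m μ' * nr b')) := by rw [h1, h2]
      _ = x * ((np a * m μ * nr b) * y) * (np a' * m μ' * nr b') := by group
      _ = _ := by rw [← e]; group
  | inv x hx ih =>
    obtain ⟨a, μ, b, ha, hb, h1⟩ := ih
    refine ⟨a, μ, b, ha, hb, ?_⟩
    have e := FE_comm L H (inv_mem hx) (A_mem L μ ha hb)
    have ht : t⁻¹ = t := inv_eq_of_mul_eq_one_left L.tt
    calc t * x⁻¹ * t = (t⁻¹ * x * t⁻¹)⁻¹ := by group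
      _ = (x * (np a * m μ * nr b))⁻¹ := by rw [ht, h1]
      _ = (np a * m μ * nr b)⁻¹ * x⁻¹ := by rw [mul_inv_rev]
      _ = (np a * m μ * nr b) * x⁻¹ := by rw [A_inv C μ ha hb]
      _ = _ := e.symm

theorem surj {x y : F} (μ : F) (hx : σ x = x) (hy : σ y = y) :
    ∃ e ∈ EE Wp Wr m g, t * e * t = e * (np x * m μ * nr y) := by
  have C := L.toCoord
  have ht : t⁻¹ = t := inv_eq_of_mul_eq_one_left L.tt
  obtain ⟨u, hu, hut⟩ := L.dr.surj 1 (map_one σ)
  have hN : σ (μ * σ μ) = μ * σ μ := by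
    have := fix_norm C μ (map_one σ)
    rwa [mul_one] at this
  have hf : σ (x + μ * σ μ) = x + μ * σ μ := fix_add C hx hN
  obtain ⟨v, hv, hvt⟩ := L.dp.surj _ hf
  obtain ⟨w, hw, hwt⟩ := L.dr.surj y hy
  have tm : ∀ a b : G, t * (a * b) * t = (t * a * t) * (t * b * t) := by
    intro a b
    calc t * (a * b) * t = t * a * 1 * b * t := by group
      _ = t * a * (t * t) * b * t := by rw [L.tt]
      _ = _ := by group
  have hU := tU L (map_one σ) hut μ
  rw [mul_one, mul_one] at hU
  set U := g μ * u * (g μ)⁻¹ with hUdef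
  have hUm : U ∈ EE Wp Wr m g := Subgroup.subset_closure (Or.inr (Or.inl ⟨μ, u, hu, rfl⟩))
  refine ⟨v * (u * U) * w, mul_mem (mul_mem (p_le L hv) (mul_mem (r_le L hu) hUm)) (r_le L hw), ?_⟩
  have h1 : np (x + μ * σ μ) ∈ EE Wp Wr m g := np_mem L hf
  have h2 : nr 1 ∈ EE Wp Wr m g := nr_mem L (map_one σ)
  have h3 : np (μ * σ μ) * m μ * nr 1 ∈ EE Wp Wr m g := A_mem L _ hN (map_one σ)
  have c1 : Commute (np (x + μ * σ μ)) (u * U) := FE_comm L H h1 (mul_mem (r_le L hu) hUm)
  have c2 : Commute (nr 1) U := FE_comm L H h2 hUm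
  have c3 : Commute (np (x + μ * σ μ)) w := FE_comm L H h1 (r_le L hw)
  have c4 : Commute (nr 1 * (np (μ * σ μ) * m μ * nr 1)) w := FE_comm L H (mul_mem h2 h3) (r_le L hw)
  rw [tm, tm, tm, hvt, hut, hU, hwt]
  have e1 : np (x + μ * σ μ) * (nr 1 * (np (μ * σ μ) * m μ * nr 1)) * nr y = np x * m μ * nr y := by
    have f4 := A_mul C 0 μ (map_zero σ) (map_one σ) hN (map_one σ)
    rw [np_zero C, m_zero C, one_mul, one_mul, zero_add, zero_add, C.two 1, nr_zero C, mul_one] at f4
    have f5 := A_mul C 0 μ hf (map_zero σ) hN (map_zero σ)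
    rw [m_zero C, zero_add, zero_add, nr_zero C, mul_one, mul_one, mul_one, mul_one] at f5
    rw [f4, f5, add_assoc, C.two, add_zero]
  rw [← e1]
  calc v * np (x + μ * σ μ) * (u * nr 1 * (U * (np (μ * σ μ) * m μ * nr 1))) * (w * nr y) =
      v * np (x + μ * σ μ) * (u * (nr 1 * U) * (np (μ * σ μ) * m μ * nr 1)) * (w * nr y) := by
        group
    _ = v * (np (x + μ * σ μ) * (u * U)) * (nr 1 * (np (μ * σ μ) * m μ * nr 1) * w) * nr y := by
        rw [c2.eq]; group
    _ = v * (u * U) * (np (x + μ * σ μ) * w) * (nr 1 * (np (μ * σ μ) * m μ * nr 1)) * nr y := by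
        rw [c1.eq, c4.eq]; group
    _ = _ := by rw [c3.eq]; group

theorem cent {x : G} (hx : x ∈ EE Wp Wr m g) (h : t * x = x * t) :
    ∃ a μ b, σ a = a ∧ σ b = b ∧ x = np a * m μ * nr b := by
  obtain ⟨a, μ, b, ha, hb, h3 | h3⟩ := L.K2 x h.symm (fun o ho => (O_FE L ho hx (L.O_m o ho)).symm)
  · exact ⟨a, μ, b, ha, hb, h3⟩
  · exfalso
    apply not_mem L H
    rw [h3] at hx
    exact (Subgroup.mul_mem_cancel_right _ (A_mem L μ ha hb)).1 hx

/-- `E_l` in the form of `Quad.EL`. -/
theorem el (hp : ∀ w ∈ Wp, w * w = 1) (hr : ∀ w ∈ Wr, w * w = 1) (gQ : ∀ l, g l ∈ Q)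
    (npQ : ∀ x, σ x = x → np x ∈ Q) (mQ : ∀ x, m x ∈ Q)
    (Q_E : ∀ q ∈ Q, ∃ l, ∀ e ∈ EE Wp Wr m g, q * e * q⁻¹ = g l * e * (g l)⁻¹) :
    Quad.EL σ t (EE Wp Wr m g) Wp Q np nr m g where
  toCoord := L.toCoord
  ab := fun _ ha _ hb => FE_comm L H ha hb
  sq := fun _ ha => sq L H hp hr ha
  WE := p_le L
  np_E := fun _ hx => np_mem L hx
  m_E := m_mem L
  nr_E := fun _ hx => nr_mem L hx
  brk := fun _ he => brk L H he
  surj := fun _ μ _ hx hy => surj L H μ hx hy
  cent := fun _ he h => cent L H he h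
  dW := L.dp
  g_E := fun k _ he => g_FE L k he
  g_W := L.g_p
  gQ := gQ
  npQ := npQ
  mQ := mQ
  Q_E := Q_E

end Cfsg.Agent.OddHalf.D7.Uni.LineEL

end

-- merged: Cfsg.Agent.KFacts.UniTwo.Elts
section

/-!
# One totally isotropic line of a unitary space in characteristic two

`tS e x : v ↦ v + x (v,e) e` (`x` fixed by `σ`), `mS e f μ : v ↦ v + σμ (v,e) f + μ (v,f) e`; the coordinates of the
unipotent radical of the pointwise stabiliser of the line `E = ⟨e, f⟩` and of its centre.
-/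

set_option autoImplicit false

namespace Cfsg.Agent.KFacts.UniTwo

open Cfsg Cfsg.Agent.LieClassical.HermBasic Cfsg.Agent.LieClassical.HermSiegel
  Cfsg.Agent.LieClassical.HermGen Matrix
  Cfsg.Agent.ClassicalGeometry.PSUAutBasic Cfsg.Agent.ClassicalGeometry.PSUAutSylow

variable {F : Type*} [Field F] {q n : ℕ}

section Two

theorem neg_two (two : ∀ x : F, x + x = 0) (x : F) : -x = x := neg_eq_of_add_eq_zero_left (two x)

theorem sub_two (two : ∀ x : F, x + x = 0) (x y : F) : x - y = x + y := by rw [sub_eq_add_neg, neg_two two]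

end Two

/-- A line frame: `E = ⟨e, f⟩` totally isotropic, `E' = ⟨e', f'⟩` the dual line. -/
structure LF (q : ℕ) (e f e' f' : Fin n → F) : Prop where
  ee : hermForm n F q e e = 0
  ff : hermForm n F q f f = 0
  ef : hermForm n F q e f = 0
  e'e' : hermForm n F q e' e' = 0
  f'f' : hermForm n F q f' f' = 0
  e'f' : hermForm n F q e' f' = 0
  ee' : hermForm n F q e e' = 1
  ff' : hermForm n F q f f' = 1
  ef' : hermForm n F q e f' = 0
  fe' : hermForm n F q f e' = 0

variable [Fintype F]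

/-- The involutory automorphism of the field as a ring homomorphism. -/
def bar (hF : Fintype.card F = q ^ 2) : F →+* F := (conj hF : F ≃+* F)

theorem bar_apply (hF : Fintype.card F = q ^ 2) (x : F) : bar hF x = x ^ q := rfl

theorem bar_bar (hF : Fintype.card F = q ^ 2) (x : F) : bar hF (bar hF x) = x := by
  rw [bar_apply, bar_apply, pow_q_pow_q hF]

theorem exists_bar_ne (hF : Fintype.card F = q ^ 2) : ∃ x : F, bar hF x ≠ x := exists_not_fixed hF

open Classical in
/-- The transvection `v ↦ v + x (v,e) e`. -/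
noncomputable def tS (hF : Fintype.card F = q ^ 2) (e : Fin n → F) (x : F) : SU n F q :=
  if h : IsSiegel q e 0 x then siegel hF e 0 x h else 1

open Classical in
/-- `v ↦ v + σμ (v,e) f + μ (v,f) e`. -/
noncomputable def mS (hF : Fintype.card F = q ^ 2) (e f : Fin n → F) (μ : F) : SU n F q :=
  if h : IsSiegel q e (μ ^ q • f) 0 then siegel hF e (μ ^ q • f) 0 h else 1

omit [Fintype F] in
theorem isSiegel_t (two : ∀ x : F, x + x = 0) {e : Fin n → F} (he : hermForm n F q e e = 0) {x : F}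
    (hx : x ^ q = x) : IsSiegel q e 0 x := isSiegel_zero he (by rw [hx, two])

theorem isSiegel_m (hF : Fintype.card F = q ^ 2) {e f : Fin n → F} (he : hermForm n F q e e = 0)
    (hf : hermForm n F q f f = 0) (hef : hermForm n F q e f = 0) (μ : F) : IsSiegel q e (μ ^ q • f) 0 :=
  ⟨he, by rw [herm_smul_left, herm_eq_zero_swap hF hef, mul_zero],
    by rw [zero_pow_q hF, herm_smul_left, herm_smul_right, hf]; ring⟩

theorem tS_eq (hF : Fintype.card F = q ^ 2) {e : Fin n → F} {x : F} (h : IsSiegel q e 0 x) :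
    tS hF e x = siegel hF e 0 x h := by rw [tS, dif_pos h]

theorem mS_eq (hF : Fintype.card F = q ^ 2) {e f : Fin n → F} {μ : F} (h : IsSiegel q e (μ ^ q • f) 0) :
    mS hF e f μ = siegel hF e (μ ^ q • f) 0 h := by rw [mS, dif_pos h]

theorem act_tS (hF : Fintype.card F = q ^ 2) (two : ∀ x : F, x + x = 0) {e : Fin n → F}
    (he : hermForm n F q e e = 0) {x : F} (hx : x ^ q = x) (v : Fin n → F) :
    act (tS hF e x) v = v + (x * hermForm n F q v e) • e := by
  rw [tS_eq hF (isSiegel_t two he hx), act_siegel, herm_zero_right hF, smul_zero, add_zero, sub_zero]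

theorem act_mS (hF : Fintype.card F = q ^ 2) (two : ∀ x : F, x + x = 0) {e f : Fin n → F}
    (he : hermForm n F q e e = 0) (hf : hermForm n F q f f = 0) (hef : hermForm n F q e f = 0) (μ : F)
    (v : Fin n → F) :
    act (mS hF e f μ) v = v + (μ ^ q * hermForm n F q v e) • f + (μ * hermForm n F q v f) • e := by
  rw [mS_eq hF (isSiegel_m hF he hf hef μ), act_siegel, herm_smul_right, pow_q_pow_q hF, zero_mul, zero_sub,
    neg_two two, smul_smul, mul_comm (hermForm n F q v e)]

variable {e f e' f' : Fin n → F}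

namespace LF

/-- The other products. -/
theorem fe (H : LF q e f e' f') (hF : Fintype.card F = q ^ 2) : hermForm n F q f e = 0 := herm_eq_zero_swap hF H.ef
theorem f'e' (H : LF q e f e' f') (hF : Fintype.card F = q ^ 2) : hermForm n F q f' e' = 0 :=
  herm_eq_zero_swap hF H.e'f'
theorem e'e (H : LF q e f e' f') (hF : Fintype.card F = q ^ 2) : hermForm n F q e' e = 1 := by
  rw [herm_swap hF e e', H.ee', one_pow]
theorem f'f (H : LF q e f e' f') (hF : Fintype.card F = q ^ 2) : hermForm n F q f' f = 1 := by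
  rw [herm_swap hF f f', H.ff', one_pow]
theorem f'e (H : LF q e f e' f') (hF : Fintype.card F = q ^ 2) : hermForm n F q f' e = 0 :=
  herm_eq_zero_swap hF H.ef'
theorem e'f (H : LF q e f e' f') (hF : Fintype.card F = q ^ 2) : hermForm n F q e' f = 0 :=
  herm_eq_zero_swap hF H.fe'

/-- The frame with the roles of the two points interchanged. -/
theorem swap (H : LF q e f e' f') (hF : Fintype.card F = q ^ 2) : LF q f e f' e' :=
  ⟨H.ff, H.ee, H.fe hF, H.f'f', H.e'e', H.f'e' hF, H.ff', H.ee', H.fe', H.ef'⟩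

theorem act_te (H : LF q e f e' f') (hF : Fintype.card F = q ^ 2) (two : ∀ x : F, x + x = 0) {x : F} (hx : x ^ q = x)
    (v : Fin n → F) : act (tS hF e x) v = v + (x * hermForm n F q v e) • e := act_tS hF two H.ee hx v

theorem act_tf (H : LF q e f e' f') (hF : Fintype.card F = q ^ 2) (two : ∀ x : F, x + x = 0) {x : F} (hx : x ^ q = x)
    (v : Fin n → F) : act (tS hF f x) v = v + (x * hermForm n F q v f) • f := act_tS hF two H.ff hx v

theorem act_m (H : LF q e f e' f') (hF : Fintype.card F = q ^ 2) (two : ∀ x : F, x + x = 0) (μ : F)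
    (v : Fin n → F) :
    act (mS hF e f μ) v = v + (μ ^ q * hermForm n F q v e) • f + (μ * hermForm n F q v f) • e :=
  act_mS hF two H.ee H.ff H.ef μ v

theorem act_g (H : LF q e f e' f') (hF : Fintype.card F = q ^ 2) (two : ∀ x : F, x + x = 0) (l : F)
    (v : Fin n → F) :
    act (mS hF e f' l) v = v + (l ^ q * hermForm n F q v e) • f' + (l * hermForm n F q v f') • e :=
  act_mS hF two H.ee H.f'f' H.ef' l v

theorem act_g_e (H : LF q e f e' f') (hF : Fintype.card F = q ^ 2) (two : ∀ x : F, x + x = 0) (l : F) :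
    act (mS hF e f' l) e = e := by
  rw [H.act_g hF two, H.ee, H.ef']; simp

theorem act_g_f (H : LF q e f e' f') (hF : Fintype.card F = q ^ 2) (two : ∀ x : F, x + x = 0) (l : F) :
    act (mS hF e f' l) f = f + l • e := by
  rw [H.act_g hF two, H.fe hF, H.ff']; simp

theorem tS_add (hF : Fintype.card F = q ^ 2) (two : ∀ x : F, x + x = 0) (he : hermForm n F q e e = 0)
    {x y : F} (hx : x ^ q = x) (hy : y ^ q = y) : tS hF e (x + y) = tS hF e x * tS hF e y := by
  apply ext_act
  intro v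
  rw [act_mul, act_tS hF two he hx, act_tS hF two he hy, act_tS hF two he (by rw [add_pow_q hF, hx, hy]),
    herm_add_left, herm_smul_left, he]
  module

theorem mS_add (hF : Fintype.card F = q ^ 2) (two : ∀ x : F, x + x = 0) (he : hermForm n F q e e = 0)
    (hf : hermForm n F q f f = 0) (hef : hermForm n F q e f = 0) (x y : F) :
    mS hF e f (x + y) = mS hF e f x * mS hF e f y := by
  have hfe := herm_eq_zero_swap hF hef
  apply ext_act
  intro v
  rw [act_mul, act_mS hF two he hf hef, act_mS hF two he hf hef, act_mS hF two he hf hef, add_pow_q hF]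
  simp only [herm_add_left, herm_smul_left, he, hf, hef, hfe]
  module

theorem t_m (H : LF q e f e' f') (hF : Fintype.card F = q ^ 2) (two : ∀ x : F, x + x = 0) {x : F} (hx : x ^ q = x)
    (μ : F) : tS hF e x * mS hF e f μ = mS hF e f μ * tS hF e x := by
  apply ext_act
  intro v
  rw [act_mul, act_mul, H.act_te hF two hx, H.act_te hF two hx, H.act_m hF two, H.act_m hF two]
  simp only [herm_add_left, herm_smul_left, H.ee, H.ff, H.ef, H.fe hF]
  module

theorem t_t (H : LF q e f e' f') (hF : Fintype.card F = q ^ 2) (two : ∀ x : F, x + x = 0) {x y : F} (hx : x ^ q = x)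
    (hy : y ^ q = y) : tS hF e x * tS hF f y = tS hF f y * tS hF e x := by
  apply ext_act
  intro v
  rw [act_mul, act_mul, H.act_te hF two hx, H.act_te hF two hx, H.act_tf hF two hy, H.act_tf hF two hy]
  simp only [herm_add_left, herm_smul_left, H.ee, H.ff, H.ef, H.fe hF]
  module

theorem m_t (H : LF q e f e' f') (hF : Fintype.card F = q ^ 2) (two : ∀ x : F, x + x = 0) {y : F} (μ : F)
    (hy : y ^ q = y) : mS hF e f μ * tS hF f y = tS hF f y * mS hF e f μ := by
  apply ext_act
  intro v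
  rw [act_mul, act_mul, H.act_m hF two, H.act_m hF two, H.act_tf hF two hy, H.act_tf hF two hy]
  simp only [herm_add_left, herm_smul_left, H.ee, H.ff, H.ef, H.fe hF]
  module

theorem g_t (H : LF q e f e' f') (hF : Fintype.card F = q ^ 2) (two : ∀ x : F, x + x = 0) {x : F} (l : F)
    (hx : x ^ q = x) : mS hF e f' l * tS hF e x * (mS hF e f' l)⁻¹ = tS hF e x := by
  rw [mul_inv_eq_iff_eq_mul]
  apply ext_act
  intro v
  rw [act_mul, act_mul, H.act_g hF two, H.act_g hF two, H.act_te hF two hx, H.act_te hF two hx]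
  simp only [herm_add_left, herm_smul_left, H.ee, H.ef', H.f'e hF]
  module

theorem g_m (H : LF q e f e' f') (hF : Fintype.card F = q ^ 2) (two : ∀ x : F, x + x = 0) (l μ : F) :
    mS hF e f' l * mS hF e f μ * (mS hF e f' l)⁻¹ = mS hF e f μ * tS hF e (l * μ ^ q + l ^ q * μ) := by
  have hx : (l * μ ^ q + l ^ q * μ) ^ q = l * μ ^ q + l ^ q * μ := by
    rw [add_pow_q hF, mul_pow, mul_pow, pow_q_pow_q hF, pow_q_pow_q hF]; ring
  rw [mS_eq hF (isSiegel_m hF H.ee H.ff H.ef μ), conj_siegel, ← mS_eq hF (isSiegel_m hF H.ee H.ff H.ef μ)]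
  apply ext_act
  intro v
  rw [act_siegel, act_mul, H.act_te hF two hx, H.act_m hF two, act_smul, H.act_g_e hF two, H.act_g_f hF two,
    zero_mul, zero_sub, neg_two two]
  simp only [herm_add_left, herm_smul_left, herm_add_right hF, herm_smul_right, H.ee, H.ef, mul_pow, pow_q_pow_q hF]
  module

theorem g_tf (H : LF q e f e' f') (hF : Fintype.card F = q ^ 2) (two : ∀ x : F, x + x = 0) {y : F} (l : F)
    (hy : y ^ q = y) : mS hF e f' l * tS hF f y * (mS hF e f' l)⁻¹ =
      tS hF f y * mS hF e f (l * y) * tS hF e (l * l ^ q * y) := by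
  have hx : (l * l ^ q * y) ^ q = l * l ^ q * y := by
    rw [mul_pow, norm_pow_q hF, hy]
  rw [tS_eq hF (isSiegel_t two H.ff hy), conj_siegel, ← tS_eq hF (isSiegel_t two H.ff hy)]
  apply ext_act
  intro v
  rw [act_siegel, act_mul, act_mul, H.act_te hF two hx, H.act_m hF two, H.act_tf hF two hy, act_zero,
    H.act_g_f hF two, herm_zero_right hF, smul_zero, add_zero, sub_zero]
  simp only [herm_add_left, herm_smul_left, herm_add_right hF, herm_smul_right, H.ee, H.ef, H.ff, H.fe hF, mul_pow,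
    hy]
  module

/-- The action of `A_E` on the dual line. -/
theorem act_A_e' (H : LF q e f e' f') (hF : Fintype.card F = q ^ 2) (two : ∀ x : F, x + x = 0) {x y : F} (μ : F)
    (hx : x ^ q = x) (hy : y ^ q = y) :
    act (tS hF e x * mS hF e f μ * tS hF f y) e' = e' + x • e + μ ^ q • f := by
  rw [act_mul, act_mul, H.act_tf hF two hy, H.act_m hF two, H.act_te hF two hx]
  simp only [herm_add_left, herm_smul_left, H.ee, H.ef, H.ff, H.fe hF, H.e'e hF, H.e'f hF]
  module

theorem act_A_f' (H : LF q e f e' f') (hF : Fintype.card F = q ^ 2) (two : ∀ x : F, x + x = 0) {x y : F} (μ : F)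
    (hx : x ^ q = x) (hy : y ^ q = y) :
    act (tS hF e x * mS hF e f μ * tS hF f y) f' = f' + μ • e + y • f := by
  rw [act_mul, act_mul, H.act_tf hF two hy, H.act_m hF two, H.act_te hF two hx]
  simp only [herm_add_left, herm_smul_left, H.ee, H.ef, H.ff, H.fe hF, H.f'e hF, H.f'f hF]
  module

theorem act_A_perp (H : LF q e f e' f') (hF : Fintype.card F = q ^ 2) (two : ∀ x : F, x + x = 0) {x y : F} (μ : F)
    (hx : x ^ q = x) (hy : y ^ q = y) {v : Fin n → F} (h1 : hermForm n F q v e = 0) (h2 : hermForm n F q v f = 0) :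
    act (tS hF e x * mS hF e f μ * tS hF f y) v = v := by
  rw [act_mul, act_mul, H.act_tf hF two hy, h2, mul_zero, zero_smul, add_zero, H.act_m hF two, h1, h2, mul_zero,
    zero_smul, add_zero, mul_zero, zero_smul, add_zero, H.act_te hF two hx, h1, mul_zero, zero_smul, add_zero]

/-- Injectivity of the coordinates in `PSU`. -/
theorem inj (H : LF q e f e' f') (hF : Fintype.card F = q ^ 2) (two : ∀ x : F, x + x = 0) (hn : 3 ≤ n) {x μ y : F}
    (hx : x ^ q = x) (hy : y ^ q = y)
    (h : pr n F q (tS hF e x * mS hF e f μ * tS hF f y) = 1) : x = 0 ∧ μ = 0 ∧ y = 0 := by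
  obtain ⟨c, -, -, hc⟩ := exists_scalar_of_mem_center hF hn (pr_eq_one_iff.1 h)
  have h1 := hc e'
  have h2 := hc f'
  rw [H.act_A_e' hF two μ hx hy] at h1
  rw [H.act_A_f' hF two μ hx hy] at h2
  have k1 := congrArg (fun v => hermForm n F q v e') h1
  have k2 := congrArg (fun v => hermForm n F q v e') h2
  have k3 := congrArg (fun v => hermForm n F q v f') h2
  simp only [herm_add_left, herm_smul_left, H.e'e', H.ee', H.fe', H.f'e' hF, H.f'f', H.ef', H.ff', mul_zero, mul_one,
    add_zero, zero_add] at k1 k2 k3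
  exact ⟨k1, k2, k3⟩

/-- `(E^⊥)^⊥ = E`. -/
theorem perp_perp (H : LF q e f e' f') (hF : Fintype.card F = q ^ 2) {u : Fin n → F}
    (hu : ∀ v, hermForm n F q v e = 0 → hermForm n F q v f = 0 → hermForm n F q u v = 0) :
    u = hermForm n F q u e' • e + hermForm n F q u f' • f := by
  have hfe := H.fe hF
  have h1 : ∀ v, hermForm n F q (u - hermForm n F q u e' • e - hermForm n F q u f' • f) v = 0 := by
    intro v
    have hv : v = (v - hermForm n F q v e • e' - hermForm n F q v f • f') +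
        (hermForm n F q v e • e' + hermForm n F q v f • f') := by abel
    have p1 : hermForm n F q (v - hermForm n F q v e • e' - hermForm n F q v f • f') e = 0 := by
      rw [herm_sub_left, herm_sub_left, herm_smul_left, herm_smul_left, H.e'e hF, H.f'e hF]; ring
    have p2 : hermForm n F q (v - hermForm n F q v e • e' - hermForm n F q v f • f') f = 0 := by
      rw [herm_sub_left, herm_sub_left, herm_smul_left, herm_smul_left, H.e'f hF, H.f'f hF]; ring
    have p3 := hu _ p1 p2
    have p4 := herm_eq_zero_swap hF p1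
    have p5 := herm_eq_zero_swap hF p2
    rw [hv, herm_add_right hF, herm_sub_left, herm_sub_left, herm_smul_left, herm_smul_left, p3, p4, p5]
    simp only [herm_sub_left, herm_smul_left, herm_add_right hF, herm_smul_right, H.ee', H.ef', H.fe', H.ff']
    ring
  have h2 := herm_nondeg hF h1
  rw [sub_sub, sub_eq_zero] at h2
  exact h2

/-- **An element trivial on `E^⊥` is in `A_E`.** -/
theorem exists_coord (H : LF q e f e' f') (hF : Fintype.card F = q ^ 2) (two : ∀ x : F, x + x = 0) {g : SU n F q}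
    (hg : ∀ v, hermForm n F q v e = 0 → hermForm n F q v f = 0 → act g v = v) :
    ∃ x μ y : F, x ^ q = x ∧ y ^ q = y ∧ g = tS hF e x * mS hF e f μ * tS hF f y := by
  have hge : act g e = e := hg e H.ee H.ef
  have hgf : act g f = f := hg f (H.fe hF) H.ff
  -- `g u - u` lies in `E`
  have key : ∀ u, act g u - u = hermForm n F q (act g u - u) e' • e + hermForm n F q (act g u - u) f' • f := by
    intro u
    apply H.perp_perp hF
    intro v h1 h2
    rw [herm_sub_left]
    have h3 := herm_act g u v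
    rw [hg v h1 h2] at h3
    rw [h3, sub_self]
  obtain ⟨a, ha⟩ : ∃ a, hermForm n F q (act g e' - e') e' = a := ⟨_, rfl⟩
  obtain ⟨b, hb⟩ : ∃ b, hermForm n F q (act g e' - e') f' = b := ⟨_, rfl⟩
  obtain ⟨c, hc⟩ : ∃ c, hermForm n F q (act g f' - f') e' = c := ⟨_, rfl⟩
  obtain ⟨d, hd⟩ : ∃ d, hermForm n F q (act g f' - f') f' = d := ⟨_, rfl⟩
  have h1 : act g e' = e' + a • e + b • f := by
    have := key e'
    rw [ha, hb, sub_eq_iff_eq_add] at this
    rw [this]; abel
  have h2 : act g f' = f' + c • e + d • f := by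
    have := key f'
    rw [hc, hd, sub_eq_iff_eq_add] at this
    rw [this]; abel
  have k1 := herm_act g e' e'
  have k2 := herm_act g f' f'
  have k3 := herm_act g e' f'
  rw [h1] at k1
  rw [h2] at k2
  rw [h1, h2] at k3
  simp only [herm_add_left, herm_smul_left, herm_add_right hF, herm_smul_right, H.ee, H.ef, H.ff, H.fe hF, H.ee', H.ef',
    H.fe', H.ff', H.e'e hF, H.e'f hF, H.f'e hF, H.f'f hF, H.e'e', H.e'f', H.f'f', mul_zero, add_zero, zero_add,
    mul_one] at k1 k2 k3
  have ha' : a ^ q = a := by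
    have := eq_neg_of_add_eq_zero_left k1
    rw [neg_two two] at this
    exact this.symm
  have hd' : d ^ q = d := by
    have := eq_neg_of_add_eq_zero_left k2
    rw [neg_two two] at this
    exact this.symm
  have hb' : b = c ^ q := by
    have h4 : b + c ^ q = 0 := by linear_combination k3
    have := eq_neg_of_add_eq_zero_left h4
    rw [neg_two two] at this
    exact this
  refine ⟨a, c, d, ha', hd', ?_⟩
  apply ext_act
  intro v
  have hv : v = (v - hermForm n F q v e • e' - hermForm n F q v f • f') +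
      (hermForm n F q v e • e' + hermForm n F q v f • f') := by abel
  have p1 : hermForm n F q (v - hermForm n F q v e • e' - hermForm n F q v f • f') e = 0 := by
    rw [herm_sub_left, herm_sub_left, herm_smul_left, herm_smul_left, H.e'e hF, H.f'e hF]; ring
  have p2 : hermForm n F q (v - hermForm n F q v e • e' - hermForm n F q v f • f') f = 0 := by
    rw [herm_sub_left, herm_sub_left, herm_smul_left, herm_smul_left, H.e'f hF, H.f'f hF]; ring
  rw [hv, act_add, act_add, act_smul, act_smul, hg _ p1 p2, h1, h2]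
  rw [act_add _ (v - hermForm n F q v e • e' - hermForm n F q v f • f'), act_add, act_smul, act_smul,
    H.act_A_perp hF two c ha' hd' p1 p2, H.act_A_e' hF two c ha' hd', H.act_A_f' hF two c ha' hd', hb']

end LF

end Cfsg.Agent.KFacts.UniTwo

end

-- merged: Cfsg.Agent.KFacts.UniTwo.Line
section

/-!
# The structures `Coord`, `Line` and `Tor` for `PSU n F q` in the centralizer of an involution

`Emb t ι`: the image of `ι : P →* G` is normal in `C(t)` with centralizer `⟨t⟩`. `Dbl hF t ι e W`: `W` is a double of the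
transvection group of the isotropic vector `e` which is centralised by the stabiliser of `e` and normalised by the
stabiliser of the point `F e`.
-/

set_option autoImplicit false

namespace Cfsg.Agent.KFacts.UniTwo

open Cfsg Cfsg.Agent.LieClassical.HermBasic Cfsg.Agent.LieClassical.HermSiegel
  Cfsg.Agent.LieClassical.HermGen Matrix
  Cfsg.Agent.ClassicalGeometry.PSUAutBasic Cfsg.Agent.ClassicalGeometry.PSUAutSylow
  Cfsg.Agent.ClassicalGeometry.PSUAutTorus Cfsg.Agent.OddHalf.D7.Uni.Defs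

/-- The image of `ι` is normal in `C(t)` and its centralizer in `C(t)` is `⟨t⟩`. -/
structure Emb {P G : Type*} [Group P] [Group G] (t : G) (ι : P →* G) : Prop where
  inj : Function.Injective ι
  tt : t * t = 1
  comm : ∀ k, ι k * t = t * ι k
  nrm : ∀ c, c * t = t * c → ∀ a, ∃ b, c * ι a * c⁻¹ = ι b
  cen : ∀ c, c * t = t * c → (∀ a, c * ι a = ι a * c) → c = 1 ∨ c = t

namespace Emb

variable {P G : Type*} [Group P] [Group G] {t : G} {ι : P →* G}

/-- An element of `C(t)` induces an automorphism. -/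
theorem exists_aut (E : Emb t ι) {c : G} (hc : c * t = t * c) : ∃ α : MulAut P, ∀ a, ι (α a) = c * ι a * c⁻¹ := by
  have hc' : c⁻¹ * t = t * c⁻¹ := by
    rw [inv_mul_eq_iff_eq_mul, ← mul_assoc, hc, mul_inv_cancel_right]
  choose φ hφ using E.nrm c hc
  choose ψ hψ using E.nrm c⁻¹ hc'
  refine ⟨{ toFun := φ, invFun := ψ, left_inv := ?_, right_inv := ?_, map_mul' := ?_ }, fun a => (hφ a).symm⟩
  · intro a
    apply E.inj
    rw [← hψ, ← hφ]; group
  · intro a
    apply E.inj
    rw [← hφ, ← hψ]; group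
  · intro a b
    apply E.inj
    rw [map_mul, ← hφ, ← hφ, ← hφ, map_mul]; group

/-- An element of `C(t)` inducing an inner automorphism. -/
theorem eq_of_conj (E : Emb t ι) {c : G} (hc : c * t = t * c) {k : P} (h : ∀ a, c * ι a * c⁻¹ = ι (k * a * k⁻¹)) :
    c = ι k ∨ c = t * ι k := by
  have h1 : (ι k)⁻¹ * t = t * (ι k)⁻¹ := by
    rw [inv_mul_eq_iff_eq_mul, ← mul_assoc, E.comm, mul_inv_cancel_right]
  rcases E.cen (c * (ι k)⁻¹) (by rw [mul_assoc, h1, ← mul_assoc, hc, mul_assoc]) (by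
      intro a
      have h2 := h (k⁻¹ * a * k)
      have h3 : k * (k⁻¹ * a * k) * k⁻¹ = a := by group
      rw [h3, map_mul, map_mul, map_inv] at h2
      calc c * (ι k)⁻¹ * ι a = c * ((ι k)⁻¹ * ι a * ι k) * c⁻¹ * (c * (ι k)⁻¹) := by group
        _ = ι a * (c * (ι k)⁻¹) := by rw [h2]) with h2 | h2
  · exact Or.inl (mul_inv_eq_one.mp h2)
  · exact Or.inr (by rw [← h2, inv_mul_cancel_right])

end Emb

variable {F : Type*} [Field F] [Fintype F] {q n : ℕ} {G : Type*} [Group G] {t : G} {ι : PSU n F q →* G}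

/-- `W` is a double of the transvection group of `e`, centralised by the stabiliser of the vector `e` and
normalised by the stabiliser of the point `F e`. -/
structure Dbl (hF : Fintype.card F = q ^ 2) (t : G) (ι : PSU n F q →* G) (e : Fin n → F) (W : Subgroup G) : Prop where
  dbl : Double (bar hF) t (fun x => ι (pr n F q (tS hF e x))) W
  cent : ∀ g : SU n F q, act g e = e → ∀ w ∈ W, ι (pr n F q g) * w = w * ι (pr n F q g)
  norm : ∀ (g : SU n F q) (a : F), act g e = a • e → ∀ w ∈ W, ι (pr n F q g) * w * (ι (pr n F q g))⁻¹ ∈ W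

/-- The pointwise stabiliser of `E` acting trivially on `E^⊥ / E`. -/
def OE0 (q : ℕ) {n : ℕ} (e f : Fin n → F) : Subgroup (SU n F q) where
  carrier := {g | act g e = e ∧ act g f = f ∧ ∀ v, hermForm n F q v e = 0 → hermForm n F q v f = 0 →
    ∃ a b : F, act g v = v + a • e + b • f}
  one_mem' := ⟨act_one _, act_one _, fun v _ _ => ⟨0, 0, by rw [act_one]; simp⟩⟩
  mul_mem' := by
    rintro g h ⟨h1, h2, h3⟩ ⟨k1, k2, k3⟩
    refine ⟨by rw [act_mul, k1, h1], by rw [act_mul, k2, h2], ?_⟩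
    intro v h4 h5
    obtain ⟨a, b, hab⟩ := k3 v h4 h5
    obtain ⟨c, d, hcd⟩ := h3 v h4 h5
    refine ⟨c + a, d + b, ?_⟩
    rw [act_mul, hab, act_add, act_add, act_smul, act_smul, h1, h2, hcd]
    module
  inv_mem' := by
    rintro g ⟨h1, h2, h3⟩
    have e1 : act g⁻¹ e = e := ((act_eq_iff _).1 h1).symm
    have e2 : act g⁻¹ f = f := ((act_eq_iff _).1 h2).symm
    refine ⟨e1, e2, ?_⟩
    intro v h4 h5
    have h6 : hermForm n F q (act g⁻¹ v) e = 0 := by rw [herm_act_left, inv_inv, h1, h4]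
    have h7 : hermForm n F q (act g⁻¹ v) f = 0 := by rw [herm_act_left, inv_inv, h2, h5]
    obtain ⟨a, b, hab⟩ := h3 _ h6 h7
    rw [act_act_inv] at hab
    refine ⟨-a, -b, ?_⟩
    calc act g⁻¹ v = (act g⁻¹ v + a • e + b • f) + (-a) • e + (-b) • f := by module
      _ = v + (-a) • e + (-b) • f := by rw [← hab]

omit [Fintype F] in
theorem mem_OE0 {e f : Fin n → F} {g : SU n F q} : g ∈ OE0 q e f ↔ act g e = e ∧ act g f = f ∧
    ∀ v, hermForm n F q v e = 0 → hermForm n F q v f = 0 → ∃ a b : F, act g v = v + a • e + b • f := Iff.rfl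

/-- The image of `OE0` in `G`. -/
def OE (ι : PSU n F q →* G) (e f : Fin n → F) : Subgroup G := ((OE0 q e f).map (pr n F q)).map ι

omit [Fintype F] in
theorem mem_OE {e f : Fin n → F} {c : G} : c ∈ OE ι e f ↔ ∃ g ∈ OE0 q e f, ι (pr n F q g) = c := by
  constructor
  · rintro ⟨_, ⟨g, hg, rfl⟩, rfl⟩
    exact ⟨g, hg, rfl⟩
  · rintro ⟨g, hg, rfl⟩
    exact ⟨_, ⟨g, hg, rfl⟩, rfl⟩

variable {e f e' f' : Fin n → F}

/-- Elements fixing `e` commute with the transvections of `e`. -/
theorem comm_tS (hF : Fintype.card F = q ^ 2) (two : ∀ x : F, x + x = 0) (he : hermForm n F q e e = 0) {x : F}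
    (hx : x ^ q = x) {g : SU n F q} (hg : act g e = e) : g * tS hF e x = tS hF e x * g := by
  rw [← mul_inv_eq_iff_eq_mul, tS_eq hF (isSiegel_t two he hx), conj_siegel]
  exact siegel_congr hF _ _ hg (act_zero g) rfl

/-- Elements fixing `e` and `f` commute with `mS e f μ`. -/
theorem comm_mS (hF : Fintype.card F = q ^ 2) (he : hermForm n F q e e = 0) (hf : hermForm n F q f f = 0)
    (hef : hermForm n F q e f = 0) (μ : F) {g : SU n F q} (hg : act g e = e) (hg' : act g f = f) :
    g * mS hF e f μ = mS hF e f μ * g := by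
  rw [← mul_inv_eq_iff_eq_mul, mS_eq hF (isSiegel_m hF he hf hef μ), conj_siegel]
  exact siegel_congr hF _ _ hg (by rw [act_smul, hg']) rfl

namespace LF

theorem tS_zero (H : LF q e f e' f') (hF : Fintype.card F = q ^ 2) (two : ∀ x : F, x + x = 0) :
    tS hF e 0 = 1 := by
  apply ext_act
  intro v
  rw [H.act_te hF two (zero_pow_q hF), act_one, zero_mul, zero_smul, add_zero]

theorem mS_zero (H : LF q e f e' f') (hF : Fintype.card F = q ^ 2) (two : ∀ x : F, x + x = 0) :
    mS hF e f 0 = 1 := by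
  apply ext_act
  intro v
  rw [H.act_m hF two, act_one, zero_mul, zero_pow_q hF, zero_mul, zero_smul, zero_smul, add_zero, add_zero]

/-- **`Coord` for a line frame.** -/
theorem coord (H : LF q e f e' f') (hF : Fintype.card F = q ^ 2) (two : ∀ x : F, x + x = 0) (hn : 3 ≤ n)
    (E : Emb t ι) :
    Coord (bar hF) t (fun x => ι (pr n F q (tS hF e x))) (fun y => ι (pr n F q (tS hF f y)))
      (fun μ => ι (pr n F q (mS hF e f μ))) (fun l => ι (pr n F q (mS hF e f' l))) where
  tt := E.tt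
  two := two
  σσ := bar_bar hF
  nt := exists_bar_ne hF
  np_add x y hx hy := by rw [tS_add hF two H.ee hx hy, map_mul, map_mul]
  nr_add x y hx hy := by rw [tS_add hF two H.ff hx hy, map_mul, map_mul]
  m_add x y := by rw [mS_add hF two H.ee H.ff H.ef x y, map_mul, map_mul]
  np_m x y hx := by rw [← map_mul, ← map_mul, H.t_m hF two hx y, map_mul, map_mul]
  np_nr x y hx hy := by rw [← map_mul, ← map_mul, H.t_t hF two hx hy, map_mul, map_mul]
  m_nr x y hy := by rw [← map_mul, ← map_mul, H.m_t hF two x hy, map_mul, map_mul]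
  inj x μ y hx hy h := by
    rw [← map_mul, ← map_mul, ← map_mul, ← map_mul] at h
    exact H.inj hF two hn hx hy (E.inj (h.trans (map_one ι).symm))
  t_np x _ := (E.comm _).symm
  t_nr x _ := (E.comm _).symm
  t_m x := (E.comm _).symm
  t_g x := (E.comm _).symm
  g_add x y := by rw [mS_add hF two H.ee H.f'f' H.ef' x y, map_mul, map_mul]
  g_np l x hx := by
    rw [← map_inv, ← map_mul, ← map_mul, ← map_inv, ← map_mul, ← map_mul, H.g_t hF two l hx]
  g_m l μ := by
    rw [← map_inv, ← map_mul, ← map_mul, ← map_inv, ← map_mul, ← map_mul, H.g_m hF two l μ, map_mul, map_mul]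
    rfl
  g_nr l y hy := by
    rw [← map_inv, ← map_mul, ← map_mul, ← map_inv, ← map_mul, ← map_mul, H.g_tf hF two l hy, map_mul, map_mul,
      map_mul, map_mul]
    rfl

/-- **(K2)**: the centralizer of `OE`. -/
theorem K2 (H : LF q e f e' f') (hF : Fintype.card F = q ^ 2) (two : ∀ x : F, x + x = 0) (hn : 4 ≤ n)
    (E : Emb t ι) {c : G} (hc : c * t = t * c) (hO : ∀ o ∈ OE ι e f, c * o = o * c) :
    ∃ x μ y : F, x ^ q = x ∧ y ^ q = y ∧ (c = ι (pr n F q (tS hF e x * mS hF e f μ * tS hF f y)) ∨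
      c = t * ι (pr n F q (tS hF e x * mS hF e f μ * tS hF f y))) := by
  obtain ⟨α, hα⟩ := E.exists_aut hc
  have hfe := H.fe hF
  -- the subspace `E`
  set W : Submodule F (Fin n → F) := Submodule.span F {e, f} with hW
  have hmem : ∀ s, s ∈ W ↔ ∃ a b : F, a • e + b • f = s := fun s => Submodule.mem_span_pair
  have heW : e ∈ W := Submodule.subset_span (by simp)
  have hfW : f ∈ W := Submodule.subset_span (by simp)
  have hperp : ∀ v, (∀ s ∈ W, hermForm n F q v s = 0) ↔ hermForm n F q v e = 0 ∧ hermForm n F q v f = 0 := by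
    intro v
    constructor
    · intro h; exact ⟨h e heW, h f hfW⟩
    · rintro ⟨h1, h2⟩ s hs
      obtain ⟨a, b, rfl⟩ := (hmem s).1 hs
      rw [herm_add_right hF, herm_smul_right, herm_smul_right, h1, h2, mul_zero, mul_zero, add_zero]
  obtain ⟨g, hg, hαg⟩ := Cfsg.Agent.KFacts.Unit.autCent_sub hF hn W (by
      intro s hs s' hs'
      obtain ⟨a, b, rfl⟩ := (hmem s).1 hs
      rw [herm_add_left, herm_smul_left, herm_smul_left, ((hperp e).2 ⟨H.ee, H.ef⟩) s' hs',
        ((hperp f).2 ⟨hfe, H.ff⟩) s' hs', mul_zero, mul_zero, add_zero]) heW hfW (by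
      intro a b hab
      have k1 := congrArg (fun v => hermForm n F q v e') hab
      have k2 := congrArg (fun v => hermForm n F q v f') hab
      simp only [herm_add_left, herm_smul_left, H.ee', H.fe', H.ef', H.ff', herm_zero_left, mul_one, mul_zero,
        add_zero, zero_add] at k1 k2
      exact ⟨k1, k2⟩) α (by
      intro s hs _ w hw μ h
      have hw' := (hperp w).1 hw
      apply E.inj
      rw [hα, mul_inv_eq_iff_eq_mul]
      apply hO
      rw [mem_OE]
      refine ⟨_, ?_, rfl⟩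
      have hs' := (hperp s).1 (fun s' hs' => by
        obtain ⟨a, b, rfl⟩ := (hmem s).1 hs
        rw [herm_add_left, herm_smul_left, herm_smul_left, ((hperp e).2 ⟨H.ee, H.ef⟩) s' hs',
          ((hperp f).2 ⟨hfe, H.ff⟩) s' hs', mul_zero, mul_zero, add_zero])
      rw [mem_OE0]
      refine ⟨?_, ?_, ?_⟩
      · exact act_siegel_of_orth hF h (herm_eq_zero_swap hF hs'.1) (herm_eq_zero_swap hF hw'.1)
      · exact act_siegel_of_orth hF h (herm_eq_zero_swap hF hs'.2) (herm_eq_zero_swap hF hw'.2)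
      · intro v h1 h2
        obtain ⟨a, b, hab⟩ := (hmem s).1 hs
        have h3 : hermForm n F q v s = 0 := by
          rw [← hab, herm_add_right hF, herm_smul_right, herm_smul_right, h1, h2, mul_zero, mul_zero, add_zero]
        refine ⟨-hermForm n F q v w * a, -hermForm n F q v w * b, ?_⟩
        rw [act_siegel, h3, ← hab]
        module)
  obtain ⟨x, μ, y, hx, hy, hgA⟩ := H.exists_coord hF two (g := g) (fun v h1 h2 => hg v ((hperp v).2 ⟨h1, h2⟩))
  refine ⟨x, μ, y, hx, hy, ?_⟩
  rw [← hgA]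
  apply E.eq_of_conj hc
  intro a
  rw [← hα, hαg, MulAut.conj_apply]

/-- **`Line` for a line frame.** -/
theorem line (H : LF q e f e' f') (hF : Fintype.card F = q ^ 2) (two : ∀ x : F, x + x = 0) (hn : 4 ≤ n)
    (E : Emb t ι) {Wp Wr : Subgroup G} (hp : Dbl hF t ι e Wp) (hr : Dbl hF t ι f Wr) :
    Line (bar hF) t (OE ι e f) Wp Wr (fun x => ι (pr n F q (tS hF e x))) (fun y => ι (pr n F q (tS hF f y)))
      (fun μ => ι (pr n F q (mS hF e f μ))) (fun l => ι (pr n F q (mS hF e f' l))) where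
  toCoord := H.coord hF two (by omega) E
  dp := hp.dbl
  dr := hr.dbl
  p_m w hw x := (hp.cent _ (by rw [H.act_m hF two, H.ee, H.ef]; simp) w hw).symm
  p_nr w hw x hx := (hp.cent _ (by rw [H.act_tf hF two hx, H.ef]; simp) w hw).symm
  r_m w hw x := (hr.cent _ (by rw [H.act_m hF two, H.fe hF, H.ff]; simp) w hw).symm
  r_np w hw x hx := (hr.cent _ (by rw [H.act_te hF two hx, H.fe hF]; simp) w hw).symm
  g_p l w hw := hp.cent _ (H.act_g_e hF two l) w hw
  O_p c hc w hw := by
    obtain ⟨g, hg, rfl⟩ := mem_OE.1 hc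
    exact hp.cent g (mem_OE0.1 hg).1 w hw
  O_r c hc w hw := by
    obtain ⟨g, hg, rfl⟩ := mem_OE.1 hc
    exact hr.cent g (mem_OE0.1 hg).2.1 w hw
  O_m c hc μ := by
    obtain ⟨g, hg, rfl⟩ := mem_OE.1 hc
    rw [← map_mul, ← map_mul, comm_mS hF H.ee H.ff H.ef μ (mem_OE0.1 hg).1 (mem_OE0.1 hg).2.1, map_mul, map_mul]
  g_O l c hc := by
    obtain ⟨g, hg, rfl⟩ := mem_OE.1 hc
    rw [← map_inv, ← map_mul, ← map_mul, ← map_inv, ← map_mul, ← map_mul]
    refine mem_OE.2 ⟨_, ?_, rfl⟩
    obtain ⟨h1, h2, h3⟩ := mem_OE0.1 hg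
    have k1 := H.act_g_e hF two l
    have k2 := H.act_g_f hF two l
    set s := mS hF e f' l with hs
    have e1 : act s⁻¹ e = e := ((act_eq_iff _).1 k1).symm
    have e2 : act s⁻¹ (f + l • e) = f := ((act_eq_iff _).1 k2).symm
    have e3 : act s⁻¹ f = f - l • e := by
      rw [act_add, act_smul, e1] at e2
      exact eq_sub_of_add_eq e2
    refine mem_OE0.2 ⟨?_, ?_, ?_⟩
    · rw [act_mul, act_mul, k1, h1, e1]
    · rw [act_mul, act_mul, k2, act_add, act_smul, h1, h2, e2]
    · intro v h4 h5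
      have h6 : hermForm n F q (act s v) e = 0 := by rw [herm_act_left, e1, h4]
      have h7 : hermForm n F q (act s v) f = 0 := by
        rw [herm_act_left, e3, herm_sub_right hF, herm_smul_right, h4, h5, mul_zero, sub_zero]
      obtain ⟨a, b, hab⟩ := h3 _ h6 h7
      refine ⟨a - b * l, b, ?_⟩
      rw [act_mul, act_mul, hab, act_add, act_add, act_smul, act_smul, act_inv_act, e1, e3]
      module
  K2 c hc hO := by
    obtain ⟨x, μ, y, hx, hy, h⟩ := H.K2 hF two hn E hc hO
    refine ⟨x, μ, y, hx, hy, ?_⟩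
    rwa [map_mul, map_mul, map_mul, map_mul] at h

end LF

end Cfsg.Agent.KFacts.UniTwo

end

-- merged: Cfsg.Agent.KFacts.UniTwo.Torus
section

/-!
# Torus elements at a line frame and the structure `Tor`
-/

set_option autoImplicit false

namespace Cfsg.Agent.KFacts.UniTwo

open Cfsg Cfsg.Agent.LieClassical.HermBasic Cfsg.Agent.LieClassical.HermSiegel
  Cfsg.Agent.LieClassical.HermGen Matrix
  Cfsg.Agent.ClassicalGeometry.PSUAutBasic Cfsg.Agent.ClassicalGeometry.PSUAutSylow
  Cfsg.Agent.ClassicalGeometry.PSUAutTorus Cfsg.Agent.OddHalf.D7.Uni.Defs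

variable {F : Type*} [Field F] [Fintype F] {q n : ℕ} {G : Type*} [Group G] {t : G} {ι : PSU n F q →* G}
  {e f e' f' : Fin n → F}

theorem exists_norm_one_ne (hF : Fintype.card F = q ^ 2) : ∃ s : F, s * s ^ q = 1 ∧ s ≠ 1 := by
  have h1 := card_norm_eq_one hF
  have h2 := two_le hF
  by_contra hcon
  push Not at hcon
  have h3 : Nat.card {x : F // x * x ^ q = 1} ≤ 1 := by
    rw [Finite.card_le_one_iff_subsingleton]
    refine ⟨fun a b => Subtype.ext ?_⟩
    rw [hcon _ a.2, hcon _ b.2]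
  omega

namespace LF

/-- `diag(a, b)` on `E`. -/
def dS (hF : Fintype.card F = q ^ 2) (H : LF q e f e' f') (a b : F) (ha : a ≠ 0) (hb : b ≠ 0)
    (hab : (a * b) ^ q = a * b) : SU n F q :=
  mkSU (hypMat q e e' a * hypMat q f f' b) (by
    rw [Matrix.det_mul, det_hypMat H.ee' (H.e'e hF), det_hypMat H.ff' (H.f'f hF)]
    have h1 : a ^ q ≠ 0 := pow_ne_zero _ ha
    have h2 : b ^ q ≠ 0 := pow_ne_zero _ hb
    field_simp
    rw [← mul_pow, hab]) (by
    intro u v
    rw [← Matrix.mulVec_mulVec, ← Matrix.mulVec_mulVec, hypMat_herm hF H.ee H.e'e' H.ee' ha,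
      hypMat_herm hF H.ff H.f'f' H.ff' hb])

theorem act_dS (hF : Fintype.card F = q ^ 2) (H : LF q e f e' f') {a b : F} (ha : a ≠ 0) (hb : b ≠ 0)
    (hab : (a * b) ^ q = a * b) (v : Fin n → F) :
    act (H.dS hF a b ha hb hab) v = v + (((b ^ q)⁻¹ - 1) * hermForm n F q v f) • f' +
      ((b - 1) * hermForm n F q v f') • f + (((a ^ q)⁻¹ - 1) * hermForm n F q v e) • e' +
      ((a - 1) * hermForm n F q v e') • e := by
  rw [act_def, dS, mat_mkSU, ← Matrix.mulVec_mulVec, hypMat_mulVec H.f'f', hypMat_mulVec H.e'e']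
  simp only [herm_add_left, herm_smul_left, H.f'e hF, H.fe hF, H.f'e' hF, H.fe', mul_zero, add_zero]

theorem dS_e (hF : Fintype.card F = q ^ 2) (H : LF q e f e' f') {a b : F} (ha : a ≠ 0) (hb : b ≠ 0)
    (hab : (a * b) ^ q = a * b) : act (H.dS hF a b ha hb hab) e = a • e := by
  rw [act_dS, H.ef, H.ef', H.ee, H.ee']
  module

theorem dS_f (hF : Fintype.card F = q ^ 2) (H : LF q e f e' f') {a b : F} (ha : a ≠ 0) (hb : b ≠ 0)
    (hab : (a * b) ^ q = a * b) : act (H.dS hF a b ha hb hab) f = b • f := by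
  rw [act_dS, H.fe hF, H.fe', H.ff, H.ff']
  module

theorem dS_e' (hF : Fintype.card F = q ^ 2) (H : LF q e f e' f') {a b : F} (ha : a ≠ 0) (hb : b ≠ 0)
    (hab : (a * b) ^ q = a * b) : act (H.dS hF a b ha hb hab) e' = (a ^ q)⁻¹ • e' := by
  rw [act_dS, H.e'f hF, H.e'f', H.e'e hF, H.e'e']
  module

theorem dS_f' (hF : Fintype.card F = q ^ 2) (H : LF q e f e' f') {a b : F} (ha : a ≠ 0) (hb : b ≠ 0)
    (hab : (a * b) ^ q = a * b) : act (H.dS hF a b ha hb hab) f' = (b ^ q)⁻¹ • f' := by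
  rw [act_dS, H.f'f hF, H.f'f', H.f'e hF, H.f'e' hF]
  module

theorem dS_perp (hF : Fintype.card F = q ^ 2) (H : LF q e f e' f') {a b : F} (ha : a ≠ 0) (hb : b ≠ 0)
    (hab : (a * b) ^ q = a * b) {v : Fin n → F} (h1 : hermForm n F q v e = 0) (h2 : hermForm n F q v f = 0)
    (h3 : hermForm n F q v e' = 0) (h4 : hermForm n F q v f' = 0) : act (H.dS hF a b ha hb hab) v = v := by
  rw [act_dS, h1, h2, h3, h4]
  module

/-- Decomposition of a vector along the frame. -/
theorem decomp (H : LF q e f e' f') (hF : Fintype.card F = q ^ 2) (v : Fin n → F) :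
    ∃ (u : Fin n → F) (a b c d : F), v = u + (a • e + b • f) + (c • e' + d • f') ∧ hermForm n F q u e = 0 ∧
      hermForm n F q u f = 0 ∧ hermForm n F q u e' = 0 ∧ hermForm n F q u f' = 0 := by
  refine ⟨v - hermForm n F q v e' • e - hermForm n F q v f' • f - hermForm n F q v e • e' - hermForm n F q v f • f',
    hermForm n F q v e', hermForm n F q v f', hermForm n F q v e, hermForm n F q v f, by abel, ?_, ?_, ?_, ?_⟩
  all_goals
    simp only [herm_sub_left, herm_smul_left, H.ee, H.ef, H.ff, H.fe hF, H.ee', H.ef', H.fe', H.ff', H.e'e hF,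
      H.e'f hF, H.f'e hF, H.f'f hF, H.e'e', H.e'f', H.f'f', H.f'e' hF]
    ring

/-- Two elements agreeing on the frame and on its orthogonal space are equal. -/
theorem ext (H : LF q e f e' f') (hF : Fintype.card F = q ^ 2) {g h : SU n F q} (h1 : act g e = act h e)
    (h2 : act g f = act h f) (h3 : act g e' = act h e') (h4 : act g f' = act h f')
    (h5 : ∀ v, hermForm n F q v e = 0 → hermForm n F q v f = 0 → hermForm n F q v e' = 0 →
      hermForm n F q v f' = 0 → act g v = act h v) : g = h := by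
  apply ext_act
  intro v
  obtain ⟨u, a, b, c, d, hv, k1, k2, k3, k4⟩ := H.decomp hF v
  rw [hv]
  simp only [act_add, act_smul, h1, h2, h3, h4, h5 u k1 k2 k3 k4]

omit [Fintype F] in
theorem act_pow {g : SU n F q} {v : Fin n → F} {c : F} (h : act g v = c • v) (k : ℕ) : act (g ^ k) v = c ^ k • v := by
  induction k with
  | zero => rw [pow_zero, pow_zero, act_one, one_smul]
  | succ k ih => rw [pow_succ, act_mul, h, act_smul, ih, smul_smul, pow_succ, mul_comm]

theorem dS_pow (hF : Fintype.card F = q ^ 2) (H : LF q e f e' f') {a b : F} (ha : a ≠ 0) (hb : b ≠ 0)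
    (hab : (a * b) ^ q = a * b) {k : ℕ} (hak : a ^ k = 1) (hbk : b ^ k = 1) : H.dS hF a b ha hb hab ^ k = 1 := by
  apply H.ext hF
  · rw [act_pow (H.dS_e hF ha hb hab), hak, one_smul, act_one]
  · rw [act_pow (H.dS_f hF ha hb hab), hbk, one_smul, act_one]
  · rw [act_pow (H.dS_e' hF ha hb hab), inv_pow, ← pow_mul, mul_comm q, pow_mul, hak, one_pow, inv_one, one_smul,
      act_one]
  · rw [act_pow (H.dS_f' hF ha hb hab), inv_pow, ← pow_mul, mul_comm q, pow_mul, hbk, one_pow, inv_one, one_smul,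
      act_one]
  · intro v h1 h2 h3 h4
    have h5 : act (H.dS hF a b ha hb hab) v = (1 : F) • v := by rw [H.dS_perp hF ha hb hab h1 h2 h3 h4, one_smul]
    rw [act_pow h5, one_pow, one_smul, act_one]

end LF

/-- Conjugation of a transvection by an element stabilising the point. -/
theorem conj_tS (hF : Fintype.card F = q ^ 2) (two : ∀ x : F, x + x = 0) (he : hermForm n F q e e = 0) {x a : F}
    (hx : x ^ q = x) {g : SU n F q} (hg : act g e = a • e) : g * tS hF e x * g⁻¹ = tS hF e (a * a ^ q * x) := by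
  rw [tS_eq hF (isSiegel_t two he hx), conj_siegel]
  apply ext_act
  intro v
  rw [act_siegel, act_tS hF two he (by rw [mul_pow, norm_pow_q hF, hx]), hg, act_zero, herm_zero_right hF,
    herm_smul_right]
  module

/-- Conjugation of `mS e f μ`. -/
theorem conj_mS (hF : Fintype.card F = q ^ 2) (two : ∀ x : F, x + x = 0) (he : hermForm n F q e e = 0)
    (hf : hermForm n F q f f = 0) (hef : hermForm n F q e f = 0) {μ a b : F} {g : SU n F q} (hg : act g e = a • e)
    (hg' : act g f = b • f) : g * mS hF e f μ * g⁻¹ = mS hF e f (a * b ^ q * μ) := by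
  rw [mS_eq hF (isSiegel_m hF he hf hef μ), conj_siegel]
  apply ext_act
  intro v
  rw [act_siegel, act_mS hF two he hf hef, act_smul, hg, hg']
  simp only [herm_smul_right, mul_pow, pow_q_pow_q hF, zero_mul, zero_sub, neg_two two]
  module

/-- **An element of odd order stabilising the point with a scalar of norm one centralises the double.** -/
theorem Dbl.comm_of_odd (hF : Fintype.card F = q ^ 2) (two : ∀ x : F, x + x = 0) (he : hermForm n F q e e = 0)
    (E : Emb t ι) {W : Subgroup G} (D : Dbl hF t ι e W) {g : SU n F q} {a : F} (hg : act g e = a • e)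
    (ha : a * a ^ q = 1) {k : ℕ} (hk : Odd k) (hgk : g ^ k = 1) :
    ∀ w ∈ W, ι (pr n F q g) * w = w * ι (pr n F q g) := by
  intro w hw
  set h := ι (pr n F q g) with hh
  have hn : ∀ x : F, x ^ q = x → h * ι (pr n F q (tS hF e x)) * h⁻¹ = ι (pr n F q (tS hF e x)) := by
    intro x hx
    rw [hh, ← map_inv, ← map_mul, ← map_mul, ← map_inv, ← map_mul, ← map_mul, conj_tS hF two he hx hg, ha, one_mul]
  have ht : h * t = t * h := E.comm _
  have ht' : h⁻¹ * t = t * h⁻¹ := by rw [inv_mul_eq_iff_eq_mul, ← mul_assoc, ht, mul_inv_cancel_right]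
  have hw' : h * w * h⁻¹ ∈ W := D.norm g a hg w hw
  obtain ⟨x, hx, hx2⟩ := D.dbl.brk w hw
  -- `w⁻¹ (h w h⁻¹)` commutes with `t`
  have h1 : t * (h * w * h⁻¹) * t = h * w * h⁻¹ * ι (pr n F q (tS hF e x)) := by
    calc t * (h * w * h⁻¹) * t = h * (t * w * t) * h⁻¹ := by
          rw [← mul_assoc, ← mul_assoc, ← ht, mul_assoc _ h⁻¹ t, ht']; group
      _ = h * w * h⁻¹ * (h * ι (pr n F q (tS hF e x)) * h⁻¹) := by rw [hx2]; group
      _ = _ := by rw [hn x hx]
  have ti : t⁻¹ = t := inv_eq_of_mul_eq_one_left E.tt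
  have h2 : t * (w⁻¹ * (h * w * h⁻¹)) * t = w⁻¹ * (h * w * h⁻¹) := by
    calc t * (w⁻¹ * (h * w * h⁻¹)) * t = (t⁻¹ * w * t⁻¹)⁻¹ * t⁻¹ * t⁻¹ * (t * (h * w * h⁻¹) * t) := by group
      _ = (t * w * t)⁻¹ * (t * (h * w * h⁻¹) * t) := by
          rw [ti, mul_assoc ((t * w * t)⁻¹) t t, E.tt, mul_one]
      _ = (w * ι (pr n F q (tS hF e x)))⁻¹ * (h * w * h⁻¹ * ι (pr n F q (tS hF e x))) := by rw [hx2, h1]
      _ = (ι (pr n F q (tS hF e x)))⁻¹ * (w⁻¹ * (h * w * h⁻¹) * ι (pr n F q (tS hF e x))) := by group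
      _ = w⁻¹ * (h * w * h⁻¹) := by
          rw [D.dbl.cn _ (mul_mem (inv_mem hw) hw') x hx, inv_mul_cancel_left]
  have h3 : t * (w⁻¹ * (h * w * h⁻¹)) = w⁻¹ * (h * w * h⁻¹) * t := by
    rw [← h2, mul_assoc (t * (w⁻¹ * (h * w * h⁻¹))) t t, E.tt, mul_one, h2]
  obtain ⟨y, hy, hy2⟩ := D.dbl.cent _ (mul_mem (inv_mem hw) hw') h3
  set z := ι (pr n F q (tS hF e y)) with hz
  have h4 : h * w * h⁻¹ = w * z := by rw [← hy2]; group
  have hzz : z * z = 1 := by
    rw [hz, ← map_mul, ← map_mul, ← LF.tS_add hF two he hy hy, two]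
    have h5 : tS hF e (0 : F) = 1 := by
      apply ext_act
      intro v
      rw [act_tS hF two he (zero_pow_q hF), act_one, zero_mul, zero_smul, add_zero]
    rw [h5, map_one, map_one]
  have h5 : ∀ k : ℕ, h ^ k * w * (h ^ k)⁻¹ = w * z ^ k := by
    intro k
    induction k with
    | zero => simp
    | succ k ih =>
      have h6 : h * z ^ k * h⁻¹ = z ^ k := by rw [← conj_pow, hn y hy]
      calc h ^ (k + 1) * w * (h ^ (k + 1))⁻¹ = h * (h ^ k * w * (h ^ k)⁻¹) * h⁻¹ := by rw [pow_succ']; group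
        _ = (h * w * h⁻¹) * (h * z ^ k * h⁻¹) := by rw [ih]; group
        _ = w * z ^ (k + 1) := by rw [h4, h6, pow_succ']; group
  have h6 := h5 k
  have h7 : h ^ k = 1 := by rw [hh, ← map_pow, ← map_pow, hgk, map_one, map_one]
  obtain ⟨j, rfl⟩ := hk
  have h8 : z ^ (2 * j + 1) = z := by rw [pow_succ, pow_mul, pow_two, hzz, one_pow, one_mul]
  rw [h7, h8, one_mul, inv_one, mul_one] at h6
  rw [← h6] at h4
  exact mul_inv_eq_iff_eq_mul.mp h4

namespace LF

/-- The torus element `diag(s, s⁻¹)`. -/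
theorem tor_aux (hF : Fintype.card F = q ^ 2) {s : F} (hs : s * s ^ q = 1) : s ≠ 0 ∧ s⁻¹ ≠ 0 ∧ (s * s⁻¹) ^ q = s * s⁻¹ := by
  have h0 : s ≠ 0 := by
    rintro rfl
    rw [zero_mul] at hs
    exact zero_ne_one hs
  refine ⟨h0, inv_ne_zero h0, ?_⟩
  rw [mul_inv_cancel₀ h0, one_pow]

theorem q_add_one_odd (hF : Fintype.card F = q ^ 2) (two : ∀ x : F, x + x = 0) : Odd (q + 1) := by
  rw [← Nat.not_even_iff_odd]
  intro h
  have h1 : Odd q := by
    rcases Nat.even_or_odd q with h2 | h2
    · exact absurd h (by rw [Nat.even_add_one]; exact fun k => k h2)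
    · exact h2
  have h2 : Odd (Fintype.card F) := by rw [hF]; exact h1.pow
  have h3 : ((Fintype.card F : ℕ) : F) = 0 := FiniteField.cast_card_eq_zero F
  obtain ⟨k, hk⟩ := h2
  rw [hk] at h3
  push_cast at h3
  have h4 : (2 : F) = 0 := by rw [← one_add_one_eq_two]; exact two 1
  rw [h4, zero_mul, zero_add] at h3
  exact one_ne_zero h3

/-- **`Tor` for a line frame.** -/
theorem tor (H : LF q e f e' f') (hF : Fintype.card F = q ^ 2) (two : ∀ x : F, x + x = 0) (hn : 3 ≤ n)
    (E : Emb t ι) {Wp Wr : Subgroup G} (hp : Dbl hF t ι e Wp) (hr : Dbl hF t ι f Wr) {s : F} (hs : s * s ^ q = 1)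
    (hs1 : s ≠ 1) :
    Tor (bar hF) t Wp Wr (fun x => ι (pr n F q (tS hF e x))) (fun y => ι (pr n F q (tS hF f y)))
      (fun μ => ι (pr n F q (mS hF e f μ)))
      (ι (pr n F q (H.dS hF s s⁻¹ (tor_aux hF hs).1 (tor_aux hF hs).2.1 (tor_aux hF hs).2.2))) := by
  obtain ⟨h0, h0', h1⟩ := tor_aux hF hs
  have hodd := q_add_one_odd hF two
  have hsq : s ^ (q + 1) = 1 := by rw [pow_succ, mul_comm]; exact hs
  have hsq' : s⁻¹ ^ (q + 1) = 1 := by rw [inv_pow, hsq, inv_one]
  have hpow := H.dS_pow hF h0 h0' h1 hsq hsq'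
  have hs' : s⁻¹ * s⁻¹ ^ q = 1 := by rw [inv_pow, ← mul_inv, hs, inv_one]
  have hsqi : s⁻¹ ^ q = s := by
    rw [inv_pow, inv_eq_iff_eq_inv]
    exact (eq_inv_of_mul_eq_one_right hs)
  have ge := H.dS_e hF h0 h0' h1
  have gf := H.dS_f hF h0 h0' h1
  refine ⟨E.comm _, hp.comm_of_odd hF two H.ee E ge hs hodd hpow,
    hr.comm_of_odd hF two H.ff E gf hs' hodd hpow, ?_⟩
  intro x μ y hx hy h2
  have C := H.coord hF two hn E
  set h := ι (pr n F q (H.dS hF s s⁻¹ h0 h0' h1)) with hh
  have h3 : h * ι (pr n F q (tS hF e x)) * h⁻¹ = ι (pr n F q (tS hF e x)) := by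
    rw [hh, ← map_inv, ← map_mul, ← map_mul, ← map_inv, ← map_mul, ← map_mul, conj_tS hF two H.ee hx ge, hs,
      one_mul]
  have h4 : h * ι (pr n F q (tS hF f y)) * h⁻¹ = ι (pr n F q (tS hF f y)) := by
    rw [hh, ← map_inv, ← map_mul, ← map_mul, ← map_inv, ← map_mul, ← map_mul, conj_tS hF two H.ff hy gf, hs',
      one_mul]
  have h5 : h * ι (pr n F q (mS hF e f μ)) * h⁻¹ = ι (pr n F q (mS hF e f (s * s * μ))) := by
    rw [hh, ← map_inv, ← map_mul, ← map_mul, ← map_inv, ← map_mul, ← map_mul,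
      conj_mS hF two H.ee H.ff H.ef ge gf, hsqi]
  have h6 : ι (pr n F q (tS hF e x)) * ι (pr n F q (mS hF e f (s * s * μ))) * ι (pr n F q (tS hF f y)) =
      ι (pr n F q (tS hF e x)) * ι (pr n F q (mS hF e f μ)) * ι (pr n F q (tS hF f y)) := by
    calc _ = (h * ι (pr n F q (tS hF e x)) * h⁻¹) * (h * ι (pr n F q (mS hF e f μ)) * h⁻¹) *
          (h * ι (pr n F q (tS hF f y)) * h⁻¹) := by rw [h3, h4, h5]
      _ = (h * (ι (pr n F q (tS hF e x)) * ι (pr n F q (mS hF e f μ)) * ι (pr n F q (tS hF f y)))) * h⁻¹ := by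
          group
      _ = _ := by rw [h2, mul_inv_cancel_right]
  have h7 := (Cfsg.Agent.OddHalf.D7.Uni.Line.A_inj C hx hy hx hy h6).2.1
  by_contra hμ
  have h8 : s * s = 1 := by
    have h9 : s * s * μ = 1 * μ := by rw [one_mul]; exact h7
    exact mul_right_cancel₀ hμ h9
  apply hs1
  have h9 : (s + 1) * (s + 1) = 0 := by
    have h10 := two s
    have h11 := two 1
    linear_combination h8 + h10 + h11
  have h10 := mul_self_eq_zero.1 h9
  have h11 := eq_neg_of_add_eq_zero_left h10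
  rwa [neg_two two] at h11

/-- `q > 2`: the scalar `a` on `E`. -/
theorem scal_aux {a : F} (ha : a ≠ 0) (haq : a ^ q = a) : (a * a) ^ q = a * a := by rw [mul_pow, haq]

end LF

end Cfsg.Agent.KFacts.UniTwo

end

-- merged: Cfsg.Agent.KFacts.UniTwo.Exist
section

/-!
# Existence of line frames
-/

set_option autoImplicit false

namespace Cfsg.Agent.KFacts.UniTwo

open Cfsg Cfsg.Agent.LieClassical.HermBasic Cfsg.Agent.LieClassical.HermSiegel
  Cfsg.Agent.LieClassical.HermGen Matrix
  Cfsg.Agent.ClassicalGeometry.PSUAutBasic Cfsg.Agent.ClassicalGeometry.PSUAutSylow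

variable {F : Type*} [Field F] [Fintype F] {q n : ℕ} {e f : Fin n → F}

/-- A vector with prescribed products with two independent vectors. -/
theorem exists_dual (hF : Fintype.card F = q ^ 2) (hind : ∀ a b : F, a • e + b • f = 0 → a = 0 ∧ b = 0) :
    ∃ v, hermForm n F q e v = 1 ∧ hermForm n F q f v = 0 := by
  have hf0 : f ≠ 0 := by
    intro h
    have := (hind 0 1 (by rw [h, smul_zero, zero_smul, add_zero])).2
    exact one_ne_zero this
  obtain ⟨v0, hv0⟩ := exists_herm_ne_zero hF hf0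
  -- normalise
  obtain ⟨v1, hv1⟩ : ∃ v1, hermForm n F q f v1 = 1 := by
    refine ⟨((hermForm n F q f v0)⁻¹) ^ q • v0, ?_⟩
    rw [herm_smul_right, pow_q_pow_q hF, inv_mul_cancel₀ hv0]
  have h1 : e - hermForm n F q e v1 • f ≠ 0 := by
    intro h
    have := (hind 1 (-hermForm n F q e v1) (by rw [one_smul, neg_smul, ← sub_eq_add_neg, h])).1
    exact one_ne_zero this
  obtain ⟨v, hv⟩ := exists_herm_ne_zero hF h1
  have h2 : hermForm n F q f (v - hermForm n F q f v ^ q • v1) = 0 := by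
    rw [herm_sub_right hF, herm_smul_right, pow_q_pow_q hF, hv1, mul_one, sub_self]
  have h3 : hermForm n F q e (v - hermForm n F q f v ^ q • v1) ≠ 0 := by
    rw [herm_sub_right hF, herm_smul_right, pow_q_pow_q hF]
    rw [herm_sub_left, herm_smul_left] at hv
    rwa [mul_comm]
  set v2 := v - hermForm n F q f v ^ q • v1 with hv2
  refine ⟨((hermForm n F q e v2)⁻¹) ^ q • v2, ?_, ?_⟩
  · rw [herm_smul_right, pow_q_pow_q hF, inv_mul_cancel₀ h3]
  · rw [herm_smul_right, h2, mul_zero]

/-- Every pair of independent orthogonal isotropic vectors belongs to a line frame. -/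
theorem exists_LF_of (hF : Fintype.card F = q ^ 2) (he : hermForm n F q e e = 0) (hf : hermForm n F q f f = 0)
    (hef : hermForm n F q e f = 0) (hind : ∀ a b : F, a • e + b • f = 0 → a = 0 ∧ b = 0) :
    ∃ e' f', LF q e f e' f' := by
  have hfe := herm_eq_zero_swap hF hef
  obtain ⟨x, hx1, hx2⟩ := exists_dual hF hind
  have hx1' : hermForm n F q x e = 1 := by rw [herm_swap hF e x, hx1, one_pow]
  have hx2' := herm_eq_zero_swap hF hx2
  obtain ⟨c, hc⟩ := exists_trace_eq hF (c := -hermForm n F q x x) (by rw [neg_pow_q hF, herm_self_pow hF])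
  obtain ⟨y, hy1, hy2⟩ := exists_dual hF (e := f) (f := e) (by
    intro a b h
    exact (hind b a (by rw [add_comm]; exact h)).symm)
  have hy1' : hermForm n F q y f = 1 := by rw [herm_swap hF f y, hy1, one_pow]
  have hy2' := herm_eq_zero_swap hF hy2
  set e' := x + c • e with he'
  have k1 : hermForm n F q e e' = 1 := by rw [he', herm_add_right hF, herm_smul_right, hx1, he, mul_zero, add_zero]
  have k1' : hermForm n F q e' e = 1 := by rw [herm_swap hF e e', k1, one_pow]
  have k2 : hermForm n F q f e' = 0 := by rw [he', herm_add_right hF, herm_smul_right, hx2, hfe, mul_zero, add_zero]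
  have k2' := herm_eq_zero_swap hF k2
  have k3 : hermForm n F q e' e' = 0 := by
    rw [he']
    simp only [herm_add_left, herm_smul_left, herm_add_right hF, herm_smul_right, hx1, hx1', he]
    linear_combination hc
  set y2 := y - hermForm n F q y e' • e with hy2d
  have m1 : hermForm n F q e' y2 = 0 := by
    rw [hy2d, herm_sub_right hF, herm_smul_right, k1', ← herm_swap hF y e', mul_one, sub_self]
  have m1' := herm_eq_zero_swap hF m1
  have m2 : hermForm n F q e y2 = 0 := by
    rw [hy2d, herm_sub_right hF, herm_smul_right, he, hy2, mul_zero, sub_zero]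
  have m3 : hermForm n F q f y2 = 1 := by
    rw [hy2d, herm_sub_right hF, herm_smul_right, hfe, hy1, mul_zero, sub_zero]
  have m3' : hermForm n F q y2 f = 1 := by rw [herm_swap hF f y2, m3, one_pow]
  obtain ⟨d, hd⟩ := exists_trace_eq hF (c := -hermForm n F q y2 y2) (by rw [neg_pow_q hF, herm_self_pow hF])
  refine ⟨e', y2 + d • f, he, hf, hef, k3, ?_, ?_, k1, ?_, ?_, k2⟩
  · simp only [herm_add_left, herm_smul_left, herm_add_right hF, herm_smul_right, m3, m3', hf]
    linear_combination hd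
  · rw [herm_add_right hF, herm_smul_right, m1, k2', mul_zero, add_zero]
  · rw [herm_add_right hF, herm_smul_right, m3, hf, mul_zero, add_zero]
  · rw [herm_add_right hF, herm_smul_right, m2, hef, mul_zero, add_zero]

/-- Every isotropic vector belongs to a line frame. -/
theorem exists_LF (hF : Fintype.card F = q ^ 2) (hn : 4 ≤ n) (he0 : e ≠ 0) (he : hermForm n F q e e = 0) :
    ∃ f e' f', LF q e f e' f' := by
  obtain ⟨w, w', hwe, hw'e, hww, hw'w', hww'⟩ := Cfsg.Agent.KFacts.Unit.exists_pair_of_iso hF hn he0 he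
  have hew' := herm_eq_zero_swap hF hw'e
  obtain ⟨e', f', H⟩ := exists_LF_of hF he hww (herm_eq_zero_swap hF hwe) (by
    intro a b hab
    have h1 := congrArg (fun v => hermForm n F q v w') hab
    simp only [herm_add_left, herm_smul_left, hew', hww', herm_zero_left, mul_zero, zero_add, mul_one] at h1
    rw [h1, zero_smul, add_zero] at hab
    exact ⟨(smul_eq_zero.1 hab).resolve_right he0, h1⟩)
  exact ⟨w, e', f', H⟩

/-- Orthogonal isotropic vectors spanning different points are independent. -/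
theorem indep_of_ne (hf0 : f ≠ 0) (h : ∀ a : F, f ≠ a • e) (he0 : e ≠ 0) :
    ∀ a b : F, a • e + b • f = 0 → a = 0 ∧ b = 0 := by
  intro a b hab
  by_cases hb : b = 0
  · rw [hb, zero_smul, add_zero] at hab
    exact ⟨(smul_eq_zero.1 hab).resolve_right he0, hb⟩
  · exfalso
    apply h (-(b⁻¹ * a))
    have h1 : b • f = -(a • e) := eq_neg_of_add_eq_zero_right hab
    calc f = b⁻¹ • (b • f) := by rw [smul_smul, inv_mul_cancel₀ hb, one_smul]
      _ = _ := by rw [h1, smul_neg, smul_smul, neg_smul]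

end Cfsg.Agent.KFacts.UniTwo

end

-- merged: Cfsg.Agent.OddHalf.D7.Uni.EvlLine
section

/-!
# `EL` from `Line` (helper371): `E_l = ⟨W_s : s ∈ l⟩ = closure (gens Wp Wr m g)`
-/

set_option autoImplicit false

namespace Cfsg.Agent.OddHalf.D7.Uni.Quad

open Defs Cfsg.Agent.OddHalf.D7.Uni.Line

variable {G : Type*} [Group G] {F : Type*} [Field F] {σ : F →+* F} {t : G}
  {OE Wp Wr Q : Subgroup G} {np nr m g : F → G}

theorem EL.of_line (L : Line σ t OE Wp Wr np nr m g) (H : LineGrp.Comm Wp Wr g)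
    (hp : ∀ w ∈ Wp, w * w = 1) (hr : ∀ w ∈ Wr, w * w = 1)
    (gQ : ∀ l, g l ∈ Q) (npQ : ∀ x, σ x = x → np x ∈ Q) (mQ : ∀ x, m x ∈ Q)
    (hQ : ∀ q ∈ Q, ∃ l, ∃ c ∈ OE, q = g l * c) :
    EL σ t (Subgroup.closure (LineGrp.gens Wp Wr m g)) Wp Q np nr m g := by
  have C := L.toCoord
  set E := Subgroup.closure (LineGrp.gens Wp Wr m g) with hE
  have ht : t⁻¹ = t := inv_eq_of_mul_eq_one_left L.tt
  have ab : ∀ a ∈ E, ∀ b ∈ E, a * b = b * a := fun a ha b hb => LineGrp.FE_comm L H ha hb
  have WE : Wp ≤ E := fun w hw => Subgroup.subset_closure (Or.inl hw)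
  have WrE : Wr ≤ E := fun w hw => Subgroup.subset_closure
    (Or.inr (Or.inl ⟨0, w, hw, by rw [Coord.g_zero C]; group⟩))
  have np_E : ∀ x, σ x = x → np x ∈ E := fun x hx => WE (L.dp.mem x hx)
  have nr_E : ∀ x, σ x = x → nr x ∈ E := fun x hx => WrE (L.dr.mem x hx)
  have m_E : ∀ x, m x ∈ E := fun x => Subgroup.subset_closure (Or.inr (Or.inr ⟨x, rfl⟩))
  have t_mul : ∀ a b : G, t * (a * b) * t = (t * a * t) * (t * b * t) := by
    intro a b
    calc t * (a * b) * t = t * a * 1 * b * t := by group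
      _ = _ := by rw [← L.tt]; group
  have g_E : ∀ l, ∀ e ∈ E, g l * e * (g l)⁻¹ ∈ E := fun l e he => LineGrp.g_FE L l he
  have all_E : ∀ x μ y, σ x = x → σ y = y → np x * m μ * nr y ∈ E := fun x μ y hx hy =>
    E.mul_mem (E.mul_mem (np_E x hx) (m_E μ)) (nr_E y hy)
  have hnp1 : np 1 ≠ 1 := fun h => by
    have := (L.inj 1 0 0 (map_one σ) (map_zero σ) (by
      rw [h, Coord.m_zero C, Coord.nr_zero C]; simp)).1
    exact one_ne_zero this
  have tE : t ∉ E := by
    intro h
    obtain ⟨w, hw, e⟩ := L.dp.surj 1 (map_one σ)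
    rw [ab t h w (WE hw), mul_assoc, L.tt, mul_one] at e
    exact hnp1 (mul_eq_left.mp e.symm)
  have brk : ∀ e ∈ E, ∃ x μ y, σ x = x ∧ σ y = y ∧ t * e * t = e * (np x * m μ * nr y) := by
    intro e he
    refine Subgroup.closure_induction
      (p := fun e _ => ∃ x μ y, σ x = x ∧ σ y = y ∧ t * e * t = e * (np x * m μ * nr y)) ?_ ?_ ?_ ?_ he
    · rintro x (hx | ⟨l, u, hu, rfl⟩ | ⟨μ, rfl⟩)
      · obtain ⟨a, ha, e⟩ := L.dp.brk x hx
        exact ⟨a, 0, 0, ha, map_zero σ, by rw [e, Coord.m_zero C, Coord.nr_zero C, mul_one, mul_one]⟩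
      · obtain ⟨y, hy, e⟩ := L.dr.brk u hu
        exact ⟨_, _, _, fix_norm C l hy, hy, tU L hy e l⟩
      · refine ⟨0, 0, 0, map_zero σ, map_zero σ, ?_⟩
        rw [L.t_m, mul_assoc, L.tt, Coord.np_zero C, Coord.m_zero C, Coord.nr_zero C]
        simp
    · refine ⟨0, 0, 0, map_zero σ, map_zero σ, ?_⟩
      rw [mul_one, L.tt, Coord.np_zero C, Coord.m_zero C, Coord.nr_zero C]
      simp
    · rintro a b ha hb ⟨x, μ, y, hx, hy, e⟩ ⟨x', μ', y', hx', hy', e'⟩
      refine ⟨x + x', μ + μ', y + y', fix_add C hx hx', fix_add C hy hy', ?_⟩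
      rw [t_mul, e, e', ← A_mul C μ μ' hx hy hx' hy']
      have h := ab _ (all_E x μ y hx hy) b hb
      calc a * (np x * m μ * nr y) * (b * (np x' * m μ' * nr y')) =
          a * ((np x * m μ * nr y) * b) * (np x' * m μ' * nr y') := by group
        _ = _ := by rw [h]; group
    · rintro a ha ⟨x, μ, y, hx, hy, e⟩
      refine ⟨x, μ, y, hx, hy, ?_⟩
      have h1 : t * a⁻¹ * t = (t * a * t)⁻¹ := by rw [mul_inv_rev, mul_inv_rev, ht, mul_assoc]
      rw [h1, e, mul_inv_rev, A_inv C μ hx hy]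
      exact ab _ (all_E x μ y hx hy) _ (E.inv_mem ha)
  -- the brackets form a group
  have surj : ∀ x μ y, σ x = x → σ y = y → ∃ e ∈ E, t * e * t = e * (np x * m μ * nr y) := by
    have mulS : ∀ a b u v : G, a ∈ E → b ∈ E → u ∈ E → v ∈ E → t * a * t = a * u → t * b * t = b * v →
        t * (a * b) * t = a * b * (u * v) := by
      intro a b u v ha hb hu hv e e'
      rw [t_mul, e, e']
      have h := ab u hu b hb
      calc a * u * (b * v) = a * (u * b) * v := by group
        _ = _ := by rw [h]; group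
    intro x μ y hx hy
    obtain ⟨u, hu, eu⟩ := L.dr.surj 1 (map_one σ)
    obtain ⟨u', hu', eu'⟩ := L.dr.surj (y + 1) (fix_add C hy (map_one σ))
    obtain ⟨w, hw, ew⟩ := L.dp.surj (x + μ * σ μ * 1) (fix_add C hx (fix_norm C μ (map_one σ)))
    have h1 := tU L (map_one σ) eu μ
    have hU : g μ * u * (g μ)⁻¹ ∈ E := g_E μ u (WrE hu)
    have e1 := all_E (μ * σ μ * 1) (μ * 1) 1 (fix_norm C μ (map_one σ)) (map_one σ)
    have e2 := nr_E (y + 1) (fix_add C hy (map_one σ))
    have e3 := np_E (x + μ * σ μ * 1) (fix_add C hx (fix_norm C μ (map_one σ)))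
    have h2 := mulS _ _ _ _ hU (WrE hu') e1 e2 h1 eu'
    have h3 := mulS _ _ _ _ (E.mul_mem hU (WrE hu')) (WE hw) (E.mul_mem e1 e2) e3 h2 ew
    refine ⟨_, E.mul_mem (E.mul_mem hU (WrE hu')) (WE hw), ?_⟩
    rw [h3]
    congr 1
    have a1 : nr (y + 1) = np 0 * m 0 * nr (y + 1) := by
      rw [Coord.np_zero C, Coord.m_zero C, one_mul, one_mul]
    have a2 : np (x + μ * σ μ * 1) = np (x + μ * σ μ * 1) * m 0 * nr 0 := by
      rw [Coord.m_zero C, Coord.nr_zero C]
      simp
    rw [a1, a2, A_mul C _ _ (fix_norm C μ (map_one σ)) (map_one σ) (map_zero σ)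
      (fix_add C hy (map_one σ)), A_mul C _ _ (fix_add C (fix_norm C μ (map_one σ)) (map_zero σ))
      (fix_add C (map_one σ) (fix_add C hy (map_one σ)))
      (fix_add C hx (fix_norm C μ (map_one σ))) (map_zero σ)]
    have b1 : μ * σ μ * 1 + 0 + (x + μ * σ μ * 1) = x := by
      have := L.two (μ * σ μ * 1)
      linear_combination this
    have b2 : μ * 1 + 0 + 0 = μ := by ring
    have b3 : 1 + (y + 1) + 0 = y := by
      have := L.two 1
      linear_combination this
    rw [b1, b2, b3]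
  have cent : ∀ e ∈ E, t * e = e * t → ∃ x μ y, σ x = x ∧ σ y = y ∧ e = np x * m μ * nr y := by
    intro e he hc
    obtain ⟨x, μ, y, hx, hy, h | h⟩ := L.K2 e hc.symm fun o ho =>
      (LineGrp.O_FE L ho he (L.O_m o ho)).symm
    · exact ⟨x, μ, y, hx, hy, h⟩
    · exfalso
      apply tE
      have : t = e * (np x * m μ * nr y)⁻¹ := by rw [h]; group
      rw [this]
      exact E.mul_mem he (E.inv_mem (all_E x μ y hx hy))
  exact
    { toCoord := C
      ab := ab
      sq := by
        intro a ha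
        refine Subgroup.closure_induction (p := fun a _ => a * a = 1) ?_ ?_ ?_ ?_ ha
        · rintro x (hx | ⟨l, u, hu, rfl⟩ | ⟨μ, rfl⟩)
          · exact hp x hx
          · calc g l * u * (g l)⁻¹ * (g l * u * (g l)⁻¹) = g l * (u * u) * (g l)⁻¹ := by group
              _ = 1 := by rw [hr u hu]; group
          · exact m_sq C μ
        · exact mul_one 1
        · intro a b ha hb h1 h2
          calc a * b * (a * b) = a * (b * a) * b := by group
            _ = (a * a) * (b * b) := by rw [ab b hb a ha]; group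
            _ = 1 := by rw [h1, h2, mul_one]
        · intro a _ h1
          rw [← mul_inv_rev, h1, inv_one]
      WE := WE
      np_E := np_E
      m_E := m_E
      nr_E := nr_E
      brk := brk
      surj := surj
      cent := cent
      dW := L.dp
      g_E := g_E
      g_W := L.g_p
      gQ := gQ
      npQ := npQ
      mQ := mQ
      Q_E := by
        intro q hq
        obtain ⟨l, c, hc, rfl⟩ := hQ q hq
        refine ⟨l, fun e he => ?_⟩
        have h := LineGrp.O_FE L hc he (L.O_m c hc)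
        calc g l * c * e * (g l * c)⁻¹ = g l * (c * e) * c⁻¹ * (g l)⁻¹ := by group
          _ = _ := by rw [h]; group }

end Cfsg.Agent.OddHalf.D7.Uni.Quad

end

-- merged: Cfsg.Agent.OddHalf.D7.Uni.Plane
section

/-!
# No `ℤ/4` phantom over a totally isotropic plane, group form (K = U_n(2), n ≥ 6; helper850, bb ODD 9603 (B))

`y v = w_⟨v⟩ t` of order 4 for the points `⟨v⟩` of a totally isotropic plane, `a H` (`H` a hermitian `3 × 3`
matrix) the elements of `A_Π`, `y v ^ 2 = a (v v*)`. If the `y v` commute: contradiction.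
-/

set_option autoImplicit false

namespace Cfsg.Agent.OddHalf.D7.Uni.Plane

open Matrix Cfsg.Agent.OddHalf.D7.Uni.PlaneCore

variable {G : Type*} [Group G] {F : Type*} [Field F] [Fintype F] [DecidableEq F] {σ : F →+* F}

theorem no_phantom (h4 : Fintype.card F = 4) (h2 : ∀ x : F, x + x = 0)
    (hσσ : ∀ x, σ (σ x) = x) (w : F) (hw : σ w ≠ w)
    (t : G) (tt : t * t = 1) (y : (Fin 3 → F) → G) (a : Matrix (Fin 3) (Fin 3) F → G)
    (hys : ∀ (c : F) v, c ≠ 0 → y (c • v) = y v)
    (a_add : ∀ H H', Herm σ H → Herm σ H' → a (H + H') = a H * a H')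
    (a_ker : ∀ H, Herm σ H → a H = 1 → H = 0)
    (y_sq : ∀ v, v ≠ 0 → y v * y v = a (rk σ v))
    (y_t : ∀ v, v ≠ 0 → t * y v * t = (y v)⁻¹)
    (a_t : ∀ H, Herm σ H → t * a H = a H * t)
    (y_y : ∀ v, v ≠ 0 → ∀ v', v' ≠ 0 → y v * y v' = y v' * y v)
    (y_a : ∀ v, v ≠ 0 → ∀ H, Herm σ H → y v * a H = a H * y v)
    (hK : ∀ M : Matrix (Fin 3) (Fin 3) F, M.det = 1 → ∃ k : G,
      (∀ v, v ≠ 0 → k * y v * k⁻¹ = y (M.mulVec v)) ∧
        ∀ H, Herm σ H → k * a H * k⁻¹ = a (M * H * st σ M))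
    (O : Set G) (O_y : ∀ o ∈ O, ∀ v, v ≠ 0 → o * y v = y v * o)
    (O_a : ∀ o ∈ O, ∀ H, Herm σ H → o * a H = a H * o)
    (K2 : ∀ c, c * t = t * c → (∀ o ∈ O, c * o = o * c) →
      ∃ H, Herm σ H ∧ (c = a H ∨ c = t * a H)) : False := by
  classical
  set X : Set G := {g | (∃ v, v ≠ 0 ∧ g = y v) ∨ ∃ H, Herm σ H ∧ g = a H} with hX
  have hXc : ∀ g ∈ X, ∀ g' ∈ X, g * g' = g' * g := by
    rintro g (⟨v, hv, rfl⟩ | ⟨H, hH, rfl⟩) g' (⟨v', hv', rfl⟩ | ⟨H', hH', rfl⟩)
    · exact y_y v hv v' hv'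
    · exact y_a v hv H' hH'
    · exact (y_a v' hv' H hH).symm
    · rw [← a_add _ _ hH hH', add_comm, a_add _ _ hH' hH]
  let _ : CommGroup (Subgroup.closure X) := Subgroup.closureCommGroupOfComm hXc
  have a_zero : a 0 = 1 := by
    have := a_add 0 0 herm_zero herm_zero
    rw [add_zero] at this
    exact left_eq_mul.mp this
  have a_sq : ∀ H, Herm σ H → a H * a H = 1 := by
    intro H hH
    rw [← a_add _ _ hH hH]
    have : H + H = 0 := by ext i j; exact h2 _
    rw [this, a_zero]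
  have a_inv : ∀ H, Herm σ H → (a H)⁻¹ = a H := fun H hH => inv_eq_of_mul_eq_one_left (a_sq H hH)
  -- `t` inverts `⟨X⟩`, `O` centralises it
  have hYc : ∀ g ∈ Subgroup.closure X, ∀ g' ∈ Subgroup.closure X, g * g' = g' * g := by
    intro g hg g' hg'
    exact congrArg Subtype.val (mul_comm (⟨g, hg⟩ : Subgroup.closure X) ⟨g', hg'⟩)
  have tinv : t⁻¹ = t := inv_eq_of_mul_eq_one_left tt
  have hYt : ∀ g ∈ Subgroup.closure X, t * g * t = g⁻¹ := by
    intro g hg
    induction hg using Subgroup.closure_induction with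
    | mem g hg =>
      rcases hg with ⟨v, hv, rfl⟩ | ⟨H, hH, rfl⟩
      · exact y_t v hv
      · rw [a_t H hH, mul_assoc, tt, mul_one, a_inv H hH]
    | one => rw [mul_one, tt, inv_one]
    | mul g g' hg hg' ih ih' =>
      have e : t * (g * g') * t = (t * g * t) * (t * g' * t) := by
        calc t * (g * g') * t = t * g * 1 * g' * t := by group
          _ = (t * g * t) * (t * g' * t) := by rw [← tt]; group
      rw [e, ih, ih', _root_.mul_inv_rev]
      exact hYc _ (inv_mem hg) _ (inv_mem hg')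
    | inv g hg ih =>
      have e : t * g⁻¹ * t = (t * g * t)⁻¹ := by
        rw [_root_.mul_inv_rev, _root_.mul_inv_rev, tinv]; group
      rw [e, ih]
  have hYO : ∀ o ∈ O, ∀ g ∈ Subgroup.closure X, o * g = g * o := by
    intro o ho g hg
    induction hg using Subgroup.closure_induction with
    | mem g hg =>
      rcases hg with ⟨v, hv, rfl⟩ | ⟨H, hH, rfl⟩
      · exact O_y o ho v hv
      · exact O_a o ho H hH
    | one => simp
    | mul g g' _ _ ih ih' => rw [← mul_assoc, ih, mul_assoc, ih', mul_assoc]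
    | inv g _ ih => exact ((show Commute o g from ih).inv_right).eq
  have ymem : ∀ v, v ≠ 0 → y v ∈ Subgroup.closure X := fun v hv =>
    Subgroup.subset_closure (Or.inl ⟨v, hv, rfl⟩)
  have amem : ∀ H, Herm σ H → a H ∈ Subgroup.closure X := fun H hH =>
    Subgroup.subset_closure (Or.inr ⟨H, hH, rfl⟩)
  -- `t ∉ ⟨X⟩`
  have v₀ : (![1, 0, 0] : Fin 3 → F) ≠ 0 := fun e => one_ne_zero (congrFun e 0)
  have tnot : t ∉ Subgroup.closure X := by
    intro ht
    have h1 := hYc _ ht _ (ymem _ v₀)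
    have h3 : a (rk σ ![1, 0, 0]) = 1 := by
      rw [← y_sq _ v₀]
      have h5 := y_t _ v₀
      rw [h1, mul_assoc, tt, mul_one] at h5
      exact eq_inv_iff_mul_eq_one.mp h5
    have h5 := a_ker _ (herm_rk hσσ _) h3
    have := congrFun (congrFun h5 0) 0
    simp [rk] at this
  -- the additive picture
  let yA : (Fin 3 → F) → Additive (Subgroup.closure X) := fun v =>
    if h : v ≠ 0 then Additive.ofMul ⟨y v, ymem v h⟩ else 0
  let αA : Matrix (Fin 3) (Fin 3) F → Additive (Subgroup.closure X) := fun H =>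
    if h : Herm σ H then Additive.ofMul ⟨a H, amem H h⟩ else 0
  have yA_pos : ∀ v (h : v ≠ 0), yA v = Additive.ofMul ⟨y v, ymem v h⟩ := fun v h => dif_pos h
  have αA_pos : ∀ H (h : Herm σ H), αA H = Additive.ofMul ⟨a H, amem H h⟩ := fun H h => dif_pos h
  have ext' : ∀ x x' : Additive (Subgroup.closure X),
      ((x.toMul : Subgroup.closure X) : G) = ((x'.toMul : Subgroup.closure X) : G) → x = x' := by
    intro x x' h
    exact Additive.toMul.injective (Subtype.ext h)
  refine core (A := Additive (Subgroup.closure X)) h4 h2 hσσ w hw yA αA ?_ ?_ ?_ ?_ ?_ ?_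
  · intro c v hc
    by_cases hv : v = 0
    · rw [hv, smul_zero]
    · have hcv : c • v ≠ 0 := smul_ne_zero hc hv
      rw [yA_pos _ hcv, yA_pos _ hv]
      apply ext'
      exact hys c v hc
  · intro H H' hH hH'
    rw [αA_pos _ hH, αA_pos _ hH', αA_pos _ (herm_add hH hH')]
    apply ext'
    exact a_add H H' hH hH'
  · intro H hH h
    rw [αA_pos _ hH] at h
    have : (⟨a H, amem H hH⟩ : Subgroup.closure X) = 1 := congrArg Additive.toMul h
    exact a_ker H hH (congrArg Subtype.val this)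
  · intro v hv
    rw [yA_pos _ hv, αA_pos _ (herm_rk hσσ _)]
    apply ext'
    exact y_sq v hv
  · intro M hM
    obtain ⟨k, hky, hka⟩ := hK M hM
    have hMinj : ∀ v, v ≠ 0 → M.mulVec v ≠ 0 := by
      intro v hv e
      apply hv
      have hu : IsUnit M.det := by rw [hM]; exact isUnit_one
      exact (Matrix.mulVec_injective_of_isUnit ((Matrix.isUnit_iff_isUnit_det M).mpr hu))
        (by rw [e, Matrix.mulVec_zero])
    have hk : ∀ g ∈ Subgroup.closure X, k * g * k⁻¹ ∈ Subgroup.closure X := by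
      intro g hg
      induction hg using Subgroup.closure_induction with
      | mem g hg =>
        rcases hg with ⟨v, hv, rfl⟩ | ⟨H, hH, rfl⟩
        · rw [hky v hv]; exact ymem _ (hMinj v hv)
        · rw [hka H hH]; exact amem _ (herm_conj hσσ M hH)
      | one => simp
      | mul g g' _ _ ih ih' =>
        have : k * (g * g') * k⁻¹ = (k * g * k⁻¹) * (k * g' * k⁻¹) := by group
        rw [this]; exact mul_mem ih ih'
      | inv g _ ih =>
        have : k * g⁻¹ * k⁻¹ = (k * g * k⁻¹)⁻¹ := by group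
        rw [this]; exact inv_mem ih
    let κ : Subgroup.closure X →* Subgroup.closure X :=
      { toFun := fun g => ⟨k * (g : G) * k⁻¹, hk _ g.2⟩
        map_one' := Subtype.ext (by simp)
        map_mul' := fun g g' => Subtype.ext (by
          show k * ((g : G) * (g' : G)) * k⁻¹ = (k * (g : G) * k⁻¹) * (k * (g' : G) * k⁻¹)
          group) }
    refine ⟨MonoidHom.toAdditive κ, fun v hv => ?_, fun H hH => ?_⟩
    · rw [yA_pos _ hv, yA_pos _ (hMinj v hv)]
      apply ext'
      exact hky v hv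
    · rw [αA_pos _ hH, αA_pos _ (herm_conj hσσ M hH)]
      apply ext'
      exact hka H hH
  · intro x hx
    obtain ⟨g, hg⟩ : ∃ g : Subgroup.closure X, g = x.toMul := ⟨_, rfl⟩
    have hgg : (g : G) * (g : G) = 1 := by
      have : g * g = 1 := by rw [hg]; exact congrArg Additive.toMul hx
      exact congrArg Subtype.val this
    have hgt : (g : G) * t = t * (g : G) := by
      have h1 := hYt _ g.2
      rw [inv_eq_of_mul_eq_one_left hgg] at h1
      calc (g : G) * t = (t * (g : G) * t) * t := by rw [h1]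
        _ = t * (g : G) := by rw [mul_assoc, tt, mul_one]
    obtain ⟨H, hH, e | e⟩ := K2 _ hgt (fun o ho => (hYO o ho _ g.2).symm)
    · refine ⟨H, hH, ?_⟩
      rw [αA_pos _ hH]
      apply ext'
      rw [← hg]
      exact e
    · exfalso
      apply tnot
      have : t = (g : G) * (a H)⁻¹ := by rw [e]; group
      rw [this]
      exact mul_mem g.2 (inv_mem (amem H hH))

end Cfsg.Agent.OddHalf.D7.Uni.Plane

end

-- merged: Cfsg.Agent.OddHalf.D7.Uni.PlaneGlue
section

/-!
# ODD D7, `K = PSU_n(2)`, `n ≥ 6`: two orthogonal doubles commute (helper850)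

`Y u` = the `K`-equivariant choice of an element of `W u` outside `X u`; `two_absurd`: the phantom
`[w_p, w_r] = z_p z_r` of `LineGrp.comm_of_two` is impossible (`Plane.no_phantom` in the totally isotropic plane
`⟨p, r, x⟩`).
-/

set_option autoImplicit false

namespace Cfsg.Agent.OddHalf.D7.Uni.PlaneGlue

open Cfsg Cfsg.Agent.LieClassical.HermBasic Cfsg.Agent.LieClassical.HermSiegel
  Cfsg.Agent.LieClassical.HermGen Cfsg.Agent.LieClassical.SUBasic Matrix
  Cfsg.Agent.ClassicalGeometry.PSUAutBasic Cfsg.Agent.ClassicalGeometry.PSUAutSylow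
  Cfsg.Agent.ClassicalGeometry.PSUAutUnip Cfsg.Agent.ClassicalGeometry.PSUAutPhi
  Cfsg.Agent.KFacts.Unit Cfsg.Agent.OddHalf.D7.Uni.Face Cfsg.Agent.OddHalf.D7.Uni.PlaneCore

variable {F : Type*} [Field F] [Fintype F] {q n : ℕ}

omit [Fintype F] in
/-- two independent columns extend to a matrix of determinant one -/
theorem exists_det_one (v v' : Fin 3 → F) (hv : v ≠ 0) (h : ∀ c : F, v' ≠ c • v) :
    ∃ M : Matrix (Fin 3) (Fin 3) F, M.det = 1 ∧ (∀ i, M i 0 = v i) ∧ ∀ i, M i 1 = v' i := by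
  have key : ∀ x : Fin 3 → F, x 0 * (v 1 * v' 2 - v 2 * v' 1) + x 1 * (v 2 * v' 0 - v 0 * v' 2) +
      x 2 * (v 0 * v' 1 - v 1 * v' 0) = 1 →
      ∃ M : Matrix (Fin 3) (Fin 3) F, M.det = 1 ∧ (∀ i, M i 0 = v i) ∧ ∀ i, M i 1 = v' i := by
    intro x hx
    refine ⟨Matrix.of fun i k => ![v i, v' i, x i] k, ?_, fun i => rfl, fun i => rfl⟩
    rw [Matrix.det_fin_three]
    simp only [Matrix.of_apply, Matrix.cons_val_zero, Matrix.cons_val_one, Matrix.cons_val]
    linear_combination hx
  by_cases h0 : v 1 * v' 2 - v 2 * v' 1 = 0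
  · by_cases h1 : v 2 * v' 0 - v 0 * v' 2 = 0
    · by_cases h2 : v 0 * v' 1 - v 1 * v' 0 = 0
      · exfalso
        obtain ⟨k, hk⟩ := Function.ne_iff.1 hv
        have hk' : v k ≠ 0 := hk
        refine h (v' k / v k) (funext fun i => ?_)
        rw [Pi.smul_apply, smul_eq_mul, div_mul_eq_mul_div, eq_div_iff hk']
        fin_cases k <;> fin_cases i <;> simp only [Fin.mk_zero, Fin.mk_one, Fin.reduceFinMk] <;>
          first
          | ring1
          | linear_combination h0
          | linear_combination -h0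
          | linear_combination h1
          | linear_combination -h1
          | linear_combination h2
          | linear_combination -h2
      · exact key ![0, 0, (v 0 * v' 1 - v 1 * v' 0)⁻¹] (by simp [inv_mul_cancel₀ h2])
    · exact key ![0, (v 2 * v' 0 - v 0 * v' 2)⁻¹, 0] (by simp [inv_mul_cancel₀ h1])
  · exact key ![(v 1 * v' 2 - v 2 * v' 1)⁻¹, 0, 0] (by simp [inv_mul_cancel₀ h0])

section

variable {G : Type*} [Group G] {t : G} {j : PSU n F q →* G} {W : (Fin n → F) → Subgroup G}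
  {hF : Fintype.card F = q ^ 2}

/-- the transvection of the point `⟨u⟩` -/
noncomputable def Z (hF : Fintype.card F = q ^ 2) (j : PSU n F q →* G) (u : Fin n → F) : G :=
  fj n F q j (Np hF u 1)

theorem cube (hF : Fintype.card F = q ^ 2) (hq : q = 2) {c : F} (hc : c ≠ 0) : c ^ 3 = 1 := by
  have := FiniteField.pow_card_sub_one_eq_one c hc
  rwa [hF, hq] at this

theorem Z_conj [CharP F 2] {u : Fin n → F} (hu : hermForm n F q u u = 0) (g : SU n F q) :
    fj n F q j g * Z hF j u * (fj n F q j g)⁻¹ = Z hF j (act g u) := by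
  rw [Z, Z, ← map_inv, ← map_mul, ← map_mul, Np, conj_Sg hF (isS_np hu (one_pow q)), act_zero, Np]

theorem Z_smul [CharP F 2] (hq : q = 2) {u : Fin n → F} (hu : hermForm n F q u u = 0) {c : F} (hc : c ≠ 0) :
    Z hF j (c • u) = Z hF j u := by
  rw [Z, Z]
  congr 1
  have hu' : hermForm n F q (c • u) (c • u) = 0 := by rw [herm_smul_left, herm_smul_right, hu, mul_zero, mul_zero]
  apply ext_act
  intro v
  rw [act_Np hF hu' (one_pow q), act_Np hF hu (one_pow q), herm_smul_right]
  have h3 := cube hF hq hc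
  funext i
  simp only [Pi.add_apply, Pi.smul_apply, smul_eq_mul]
  have : c ^ q * c = 1 := by rw [hq]; linear_combination h3
  linear_combination hermForm n F q v u * u i * this

/-- the elements of `RR u` for `q = 2` -/
theorem mem_RR_two [CharP F 2] (hq : q = 2) {u : Fin n → F} (hu : hermForm n F q u u = 0) {x : PSU n F q}
    (hx : x ∈ RR hF u hu) : j x = 1 ∨ j x = Z hF j u := by
  obtain ⟨μ, hμ, rfl⟩ := mem_RR.1 hx
  have hμ2 : μ * (1 + μ) = 0 := by
    rw [hq] at hμ
    linear_combination hμ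
  rcases mul_eq_zero.1 hμ2 with h | h
  · left
    subst h
    rw [transv_zero, map_one, map_one]
  · right
    have h1 : μ = 1 := by
      have : μ + 1 = 0 := by rw [add_comm]; exact h
      rw [CharTwo.add_eq_zero] at this
      exact this
    subst h1
    rw [Z, fj_apply, Np, Sg_eq hF (isS_np hu (one_pow q))]
    rfl

theorem Z_mem [CharP F 2] {u : Fin n → F} (hu : hermForm n F q u u = 0) :
    ∃ x ∈ RR hF u hu, j x = Z hF j u := by
  have h1 : (1 : F) + 1 ^ q = 0 := by rw [one_pow]; exact CharTwo.add_self_eq_zero 1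
  refine ⟨pr n F q (transv hF u hu 1 h1), mem_RR.2 ⟨1, h1, rfl⟩, ?_⟩
  rw [Z, fj_apply, Np, Sg_eq hF (isS_np hu (one_pow q))]
  rfl

theorem Z_sq [CharP F 2] {u : Fin n → F} (hu : hermForm n F q u u = 0) : Z hF j u * Z hF j u = 1 := by
  rw [Z, ← map_mul]
  have : Np hF u 1 * Np hF u 1 = 1 := by
    apply ext_act
    intro v
    rw [act_mul, act_Np hF hu (one_pow q), act_Np hF hu (one_pow q), act_one, herm_add_left, herm_smul_left, hu,
      mul_zero, add_zero, add_assoc, ← add_smul, CharTwo.add_self_eq_zero, zero_smul, add_zero]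
  rw [this, map_one]

variable (D : Dbl hF t j W)

include D

theorem Z_ne [CharP F 2] (hn : 3 ≤ n) {u : Fin n → F} (hu0 : u ≠ 0) (hu : hermForm n F q u u = 0) :
    Z hF j u ≠ 1 := by
  intro h
  have h1 : Np hF u 1 = 1 := D.toSit.eq_one hF hn hu0
    (by rw [act_Np hF hu (one_pow q), hu, mul_zero, zero_smul, add_zero]) h
  obtain ⟨f, -, -, hfu⟩ := exists_partner hF hu0 hu
  have h2 := congrArg (fun g => act g f) h1
  simp only [act_one] at h2
  rw [act_Np hF hu (one_pow q), hfu, mul_one, one_smul, add_eq_left] at h2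
  exact hu0 h2

/-- `Z u` commutes with `W u` -/
theorem Z_comm [CharP F 2] {u : Fin n → F} (hu0 : u ≠ 0) (hu : hermForm n F q u u = 0) {w : G} (hw : w ∈ W u) :
    w * Z hF j u = Z hF j u * w :=
  D.cent hu0 hu w hw _ (by rw [act_Np hF hu (one_pow q), hu, mul_zero, zero_smul, add_zero])

/-- `Z r` commutes with `W u` for `r ⟂ u` -/
theorem Z_comm' [CharP F 2] {u r : Fin n → F} (hu0 : u ≠ 0) (hu : hermForm n F q u u = 0)
    (hr : hermForm n F q r r = 0) (hur : hermForm n F q u r = 0) {w : G} (hw : w ∈ W u) :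
    w * Z hF j r = Z hF j r * w :=
  D.cent hu0 hu w hw _ (by rw [act_Np hF hr (one_pow q), hur, mul_zero, zero_smul, add_zero])

/-- the two elements of `W u` outside `X u` -/
theorem eq_or_of_brk [CharP F 2] (hq : q = 2) {u : Fin n → F} (hu0 : u ≠ 0) (hu : hermForm n F q u u = 0) {w w' : G}
    (hw : w ∈ W u) (hw' : w' ∈ W u) (h : t * w * t = w * Z hF j u) (h' : t * w' * t = w' * Z hF j u) :
    w' = w ∨ w' = w * Z hF j u := by
  have hz := Z_comm D hu0 hu hw
  have hz' := Z_comm D hu0 hu hw'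
  have h1 : t * (w⁻¹ * w') = (w⁻¹ * w') * t := by
    have e1 : t * w⁻¹ * t = w⁻¹ * (Z hF j u)⁻¹ := by
      have ht : t⁻¹ = t := inv_eq_of_mul_eq_one_left D.tt
      calc t * w⁻¹ * t = (t⁻¹ * w * t⁻¹)⁻¹ := by group
        _ = (w * Z hF j u)⁻¹ := by rw [ht, h]
        _ = w⁻¹ * (Z hF j u)⁻¹ := by rw [hz]; group
    calc t * (w⁻¹ * w') = t * w⁻¹ * (t * t) * w' * (t * t) := by rw [D.tt]; group
      _ = (t * w⁻¹ * t) * (t * w' * t) * t := by group
      _ = w⁻¹ * (Z hF j u)⁻¹ * (w' * Z hF j u) * t := by rw [e1, h']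
      _ = w⁻¹ * w' * t := by rw [hz']; group
  have h0 : w⁻¹ * w' ∈ (RR hF u hu).map j := D.fix hu0 hu _ ((W u).mul_mem ((W u).inv_mem hw) hw') h1
  obtain ⟨x, hx, e⟩ := h0
  rcases mem_RR_two (j := j) hq hu hx with h2 | h2
  · left
    have h3 : w⁻¹ * w' = 1 := by rw [← h2]; exact e.symm
    exact (inv_mul_eq_one.1 h3).symm
  · right
    have h3 : w⁻¹ * w' = Z hF j u := by rw [← h2]; exact e.symm
    rw [← h3]; group

/-- `K_⟨u⟩` centralises `W u` -/
theorem conj_fix [CharP F 2] (hq : q = 2) {u : Fin n → F} (hu0 : u ≠ 0) (hu : hermForm n F q u u = 0) {w : G}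
    (hw : w ∈ W u) (h : t * w * t = w * Z hF j u) (hZ1 : Z hF j u ≠ 1) {g : SU n F q} {c : F} (hc : c ≠ 0)
    (hg : act g u = c • u) : fj n F q j g * w * (fj n F q j g)⁻¹ = w := by
  obtain ⟨k, hk⟩ : ∃ k, k = fj n F q j g := ⟨_, rfl⟩
  have hkt : t * k = k * t := by rw [hk]; exact D.tj _
  have hmem : k * w * k⁻¹ ∈ W u := by
    have h1 := D.conj hu0 hu g w hw
    rw [hg, D.smul hu0 hu hc] at h1
    rw [hk]; exact h1
  have hkZ : k * Z hF j u * k⁻¹ = Z hF j u := by
    rw [hk, Z_conj hu, hg, Z_smul hq hu hc]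
  have hbrk : t * (k * w * k⁻¹) * t = (k * w * k⁻¹) * Z hF j u := by
    have hkt' : k⁻¹ * t = t * k⁻¹ := by
      calc k⁻¹ * t = k⁻¹ * (t * k) * k⁻¹ := by group
        _ = t * k⁻¹ := by rw [hkt]; group
    calc t * (k * w * k⁻¹) * t = (t * k) * w * (k⁻¹ * t) := by group
      _ = k * (t * w * t) * k⁻¹ := by rw [hkt, hkt']; group
      _ = (k * w * k⁻¹) * (k * Z hF j u * k⁻¹) := by rw [h]; group
      _ = _ := by rw [hkZ]
  rw [← hk]
  rcases eq_or_of_brk D hq hu0 hu hw hmem h hbrk with h1 | h1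
  · exact h1
  · exfalso
    -- `g³` fixes `u`
    have hg3 : act (g * g * g) u = u := by
      rw [act_mul, act_mul, hg, act_smul, hg, act_smul, act_smul, hg, smul_smul, smul_smul]
      have : c * c * c = 1 := by rw [← cube hF hq hc]; ring
      rw [this, one_smul]
    have h3 := D.cent hu0 hu w hw _ hg3
    rw [map_mul, map_mul, ← hk] at h3
    have h4 : k * w = w * Z hF j u * k := by rw [← h1]; group
    have hkZ' : k * Z hF j u = Z hF j u * k := by
      calc k * Z hF j u = (k * Z hF j u * k⁻¹) * k := by group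
        _ = _ := by rw [hkZ]
    have hzz := Z_sq (hF := hF) (j := j) hu
    obtain ⟨z, hz⟩ : ∃ z, z = Z hF j u := ⟨_, rfl⟩
    rw [← hz] at h4 hkZ' hzz
    have h5 : k * (k * w) = w * (k * k) := by
      rw [h4]
      calc k * (w * z * k) = (k * w) * z * k := by group
        _ = w * z * (k * z) * k := by rw [h4]; group
        _ = w * (z * z) * (k * k) := by rw [hkZ']; group
        _ = w * (k * k) := by rw [hzz, mul_one]
    have h6 : k * k * k * w = w * z * (k * k * k) := by
      calc k * k * k * w = k * (k * (k * w)) := by group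
        _ = (k * w) * (k * k) := by rw [h5]; group
        _ = w * z * (k * k * k) := by rw [h4]; group
    rw [h6] at h3
    have h7 : w = w * z := mul_right_cancel h3
    have h8 : z = 1 := by
      have := h7.symm
      rwa [mul_eq_left] at this
    exact absurd (hz.symm.trans h8) hZ1

/-- the equivariant choice -/
theorem exists_Y [CharP F 2] (hq : q = 2) (hn : 3 ≤ n) {p : Fin n → F} (hp0 : p ≠ 0)
    (hpp : hermForm n F q p p = 0) {v : G} (hv : v ∈ W p) (h1 : t * v * t = v * Z hF j p) :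
    ∃ Y : (Fin n → F) → G, Y p = v ∧
      (∀ u, u ≠ 0 → hermForm n F q u u = 0 → Y u ∈ W u ∧ t * Y u * t = Y u * Z hF j u) ∧
      (∀ u, u ≠ 0 → hermForm n F q u u = 0 → ∀ (g : SU n F q) (c : F) (u' : Fin n → F), c ≠ 0 → act g u = c • u' →
        fj n F q j g * Y u * (fj n F q j g)⁻¹ = Y u') := by
  classical
  have hex : ∀ u : Fin n → F, u ≠ 0 → hermForm n F q u u = 0 → ∃ g : SU n F q, act g p = u := by
    intro u hu0 hu
    obtain ⟨g, -, hg⟩ := exists_map_iso hF hn le_rfl (mem_coordSub_top p) (mem_coordSub_top u) hp0 hu0 hpp hu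
    exact ⟨g, hg⟩
  have hZp := Z_ne D hn hp0 hpp
  -- the value
  have hval : ∀ (g g' : SU n F q) (c : F), c ≠ 0 → act g p = c • act g' p →
      fj n F q j g * v * (fj n F q j g)⁻¹ = fj n F q j g' * v * (fj n F q j g')⁻¹ := by
    intro g g' c hc h
    have h4 : act (g'⁻¹ * g) p = c • p := by rw [act_mul, h, act_smul, act_inv_act]
    have h5 := conj_fix D hq hp0 hpp hv h1 hZp hc h4
    rw [map_mul, map_inv] at h5
    calc fj n F q j g * v * (fj n F q j g)⁻¹
        = fj n F q j g' * (((fj n F q j g')⁻¹ * fj n F q j g) * v * ((fj n F q j g')⁻¹ * fj n F q j g)⁻¹) *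
          (fj n F q j g')⁻¹ := by group
      _ = _ := by rw [h5]
  let Y : (Fin n → F) → G := fun u =>
    if h : ∃ g : SU n F q, act g p = u then fj n F q j h.choose * v * (fj n F q j h.choose)⁻¹ else 1
  have hY : ∀ (g : SU n F q) (c : F) (u : Fin n → F), c ≠ 0 → act g p = c • u →
      Y u = fj n F q j g * v * (fj n F q j g)⁻¹ := by
    intro g c u hc h
    have hu : u = c⁻¹ • act g p := by rw [h, smul_smul, inv_mul_cancel₀ hc, one_smul]
    have hu0 : u ≠ 0 := by
      rw [hu]
      exact smul_ne_zero (inv_ne_zero hc) (fun h0 => hp0 ((act_eq_zero g).1 h0))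
    have huu : hermForm n F q u u = 0 := by
      rw [hu, herm_smul_left, herm_smul_right, herm_act, hpp, mul_zero, mul_zero]
    have hexu := hex u hu0 huu
    have e1 : Y u = fj n F q j hexu.choose * v * (fj n F q j hexu.choose)⁻¹ := dif_pos hexu
    rw [e1]
    exact (hval g hexu.choose c hc (by rw [h, hexu.choose_spec])).symm
  refine ⟨Y, ?_, ?_, ?_⟩
  · have := hY 1 1 p one_ne_zero (by rw [act_one, one_smul])
    rw [this, map_one, one_mul, inv_one, mul_one]
  · intro u hu0 hu
    obtain ⟨g, hg⟩ := hex u hu0 hu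
    have e1 := hY g 1 u one_ne_zero (by rw [hg, one_smul])
    obtain ⟨k, hk⟩ : ∃ k, k = fj n F q j g := ⟨_, rfl⟩
    have hkt : t * k = k * t := by rw [hk]; exact D.tj _
    have hkt' : k⁻¹ * t = t * k⁻¹ := by
      calc k⁻¹ * t = k⁻¹ * (t * k) * k⁻¹ := by group
        _ = t * k⁻¹ := by rw [hkt]; group
    refine ⟨?_, ?_⟩
    · rw [e1]
      have := D.conj hp0 hpp g v hv
      rwa [hg] at this
    · rw [e1, ← hk]
      have hZ : k * Z hF j p * k⁻¹ = Z hF j u := by rw [hk, Z_conj hpp, hg]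
      calc t * (k * v * k⁻¹) * t = (t * k) * v * (k⁻¹ * t) := by group
        _ = k * (t * v * t) * k⁻¹ := by rw [hkt, hkt']; group
        _ = (k * v * k⁻¹) * (k * Z hF j p * k⁻¹) := by rw [h1]; group
        _ = _ := by rw [hZ]
  · intro u hu0 hu g c u' hc h
    obtain ⟨g₀, hg₀⟩ := hex u hu0 hu
    rw [hY g₀ 1 u one_ne_zero (by rw [hg₀, one_smul]), hY (g * g₀) c u' hc (by rw [act_mul, hg₀, h]), map_mul]
    group

/-- **The phantom is impossible.** -/
theorem two_absurd [CharP F 2] (hq : q = 2) (hn : 6 ≤ n) {p r : Fin n → F} (hp0 : p ≠ 0)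
    (hpp : hermForm n F q p p = 0) (hrr : hermForm n F q r r = 0) (hpr : hermForm n F q p r = 0)
    (hind : LinearIndependent F ![p, r]) {v u : G} (hv : v ∈ W p) (hu : u ∈ W r)
    (h1 : t * v * t = v * Z hF j p) (h2 : t * u * t = u * Z hF j r)
    (h3 : v * u = u * v * (Z hF j p * Z hF j r)) : False := by
  classical
  have hrp : hermForm n F q r p = 0 := herm_eq_zero_swap hF hpr
  have hr0 : r ≠ 0 := by
    intro h
    exact hind.ne_zero 1 h
  have ht : t⁻¹ = t := inv_eq_of_mul_eq_one_left D.tt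
  obtain ⟨Y, hYp, hYW, hYc⟩ := exists_Y D hq (by omega) hp0 hpp hv h1
  -- the base pair
  have hbase : Y p * Y r = Y r * Y p * (Z hF j p * Z hF j r) := by
    have hrW := hYW r hr0 hrr
    rw [hYp]
    rcases eq_or_of_brk D hq hr0 hrr hu hrW.1 h2 hrW.2 with e | e
    · rw [e]; exact h3
    · have c1 : v * Z hF j r = Z hF j r * v := Z_comm' D hp0 hpp hrr hpr hv
      rw [e]
      calc v * (u * Z hF j r) = (v * u) * Z hF j r := by group
        _ = u * v * (Z hF j p * Z hF j r) * Z hF j r := by rw [h3]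
        _ = u * (v * Z hF j r) * (Z hF j p * Z hF j r) := by
          have c2 : Z hF j p * Z hF j r = Z hF j r * Z hF j p := by
            obtain ⟨x, hx, ex⟩ := Z_mem (hF := hF) (j := j) hpp
            exact Z_comm' D hp0 hpp hrr hpr (by rw [← ex]; exact D.X_le hp0 hpp ⟨x, hx, rfl⟩)
          calc u * v * (Z hF j p * Z hF j r) * Z hF j r = u * v * (Z hF j r * Z hF j p) * Z hF j r := by rw [c2]
            _ = _ := by group
        _ = u * Z hF j r * v * (Z hF j p * Z hF j r) := by rw [c1]; group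
  -- the frame of the plane
  obtain ⟨f₂, E₂⟩ := exists_Frm hF hind (fun i j => by fin_cases i <;> fin_cases j <;> assumption)
  obtain ⟨x, x', hxx, hx1, hx2, hx3, hx4⟩ := exists_third hF hn E₂
  have E := Frm.snoc hF E₂ hxx hx1 hx2 hx3 hx4
  obtain ⟨e, he⟩ : ∃ e, e = (Fin.snoc (α := fun _ => Fin n → F) ![p, r] x : Fin 3 → (Fin n → F)) := ⟨_, rfl⟩
  obtain ⟨f, hf⟩ : ∃ f, f = (Fin.snoc (α := fun _ => Fin n → F) f₂ x' : Fin 3 → (Fin n → F)) := ⟨_, rfl⟩
  rw [← he, ← hf] at E
  have he0 : e 0 = p := by rw [he]; rfl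
  have he1 : e 1 = r := by rw [he]; rfl
  -- vectors of the plane
  obtain ⟨vec, hvec⟩ : ∃ vec : (Fin 3 → F) → (Fin n → F), vec = fun v => ∑ i, v i • e i := ⟨_, rfl⟩
  have vdef : ∀ v, vec v = ∑ i, v i • e i := fun v => by rw [hvec]
  have viso : ∀ v v', hermForm n F q (vec v) (vec v') = 0 := by
    intro v v'
    rw [vdef, vdef, herm_sum_right hF]
    exact Finset.sum_eq_zero fun k _ => by rw [herm_smul_right, E.herm_sum_e, mul_zero]
  have vsmul : ∀ (c : F) v, vec (c • v) = c • vec v := by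
    intro c v
    rw [vdef, vdef, Finset.smul_sum]
    exact Finset.sum_congr rfl fun k _ => by rw [Pi.smul_apply, smul_eq_mul, mul_smul]
  have vne : ∀ v, v ≠ 0 → vec v ≠ 0 := by
    intro v hv0 h
    apply hv0
    apply E.indep
    rw [← vdef, h]
    simp
  have vfix : ∀ g : SU n F q, (∀ k, act g (e k) = e k) → ∀ v, act g (vec v) = vec v := by
    intro g hg v
    rw [vdef, act_sum]
    exact Finset.sum_congr rfl fun k _ => by rw [act_smul, hg]
  have vmap : ∀ (g : SU n F q) (M : Matrix (Fin 3) (Fin 3) F), (∀ k, act g (e k) = ∑ i, M i k • e i) →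
      ∀ v, act g (vec v) = vec (M.mulVec v) := by
    intro g M hg v
    rw [vdef, vdef, act_sum]
    simp only [act_smul, hg, Finset.smul_sum, smul_smul]
    rw [Finset.sum_comm]
    refine Finset.sum_congr rfl fun i _ => ?_
    rw [← Finset.sum_smul]
    congr 1
    rw [Matrix.mulVec, dotProduct]
    exact Finset.sum_congr rfl fun k _ => mul_comm _ _
  have hskew : ∀ H, Herm (sig hF) H ↔ IsSkew q H := by
    intro H
    constructor
    · intro h i k
      have := h k i
      rw [sig_apply] at this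
      rw [this]
      exact CharTwo.add_self_eq_zero _
    · intro h i k
      have := h k i
      rw [sig_apply]
      exact (CharTwo.add_eq_zero.1 this).symm
  have hne1 : e 0 ≠ 0 := by rw [he0]; exact hp0
  have afix : ∀ (H : Matrix (Fin 3) (Fin 3) F) (hH : IsSkew q H) k, act (aEl hF E H hH) (e k) = e k := by
    intro H hH k
    rw [act_aEl]
    have : ∑ i, (∑ l, H i l * hermForm n F q (e k) (e l)) • e i = 0 :=
      Finset.sum_eq_zero fun i _ => by
        rw [Finset.sum_eq_zero fun l _ => by rw [E.ee, mul_zero], zero_smul]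
    rw [this, add_zero]
  obtain ⟨w₀, hw₀⟩ := exists_not_fixed hF
  let y : (Fin 3 → F) → G := fun v => if v = 0 then 1 else Y (vec v) * t
  have ypos : ∀ v, v ≠ 0 → y v = Y (vec v) * t := fun v hv0 => if_neg hv0
  let a : Matrix (Fin 3) (Fin 3) F → G := fun H => if h : IsSkew q H then fj n F q j (aEl hF E H h) else 1
  have apos : ∀ H (h : IsSkew q H), a H = fj n F q j (aEl hF E H h) := fun H h => dif_pos h
  have YW : ∀ v, v ≠ 0 → Y (vec v) ∈ W (vec v) := fun v hv0 => (hYW _ (vne v hv0) (viso v v)).1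
  have Yb : ∀ v, v ≠ 0 → t * Y (vec v) * t = Y (vec v) * Z hF j (vec v) :=
    fun v hv0 => (hYW _ (vne v hv0) (viso v v)).2
  have Ysq : ∀ v, v ≠ 0 → Y (vec v) * Y (vec v) = 1 := fun v hv0 => D.sq hq (vne v hv0) (viso v v) _ (YW v hv0)
  have Ysm : ∀ (c : F) v, c ≠ 0 → v ≠ 0 → Y (c • vec v) = Y (vec v) := by
    intro c v hc hv0
    have := hYc (c • vec v) (smul_ne_zero hc (vne v hv0)) (by rw [← vsmul]; exact viso _ _) 1 c (vec v) hc
      (by rw [act_one])
    rw [← this, map_one, one_mul, inv_one, mul_one]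
  refine Plane.no_phantom (σ := sig hF) (by rw [hF, hq]; norm_num) CharTwo.add_self_eq_zero (pow_q_pow_q hF) w₀ hw₀ t D.tt y a
    ?_ ?_ ?_ ?_ ?_ ?_ ?_ ?_ ?_ {o | ∃ g : SU n F q, (∀ k, act g (e k) = e k) ∧ o = fj n F q j g} ?_ ?_ ?_
  · -- hys
    intro c v hc
    by_cases hv0 : v = 0
    · rw [hv0, smul_zero]
    · rw [ypos _ (smul_ne_zero hc hv0), ypos _ hv0, vsmul, Ysm c v hc hv0]
  · -- a_add
    intro H H' hH hH'
    rw [hskew] at hH hH'
    rw [apos _ hH, apos _ hH', apos _ (hH.add hF hH'), ← map_mul, aEl_mul]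
  · -- a_ker
    intro H hH h
    rw [hskew] at hH
    rw [apos _ hH] at h
    have h5 := D.toSit.eq_one hF (by omega) hne1 (afix H hH 0) h
    have h6 : aEl hF E (0 : Matrix (Fin 3) (Fin 3) F) (IsSkew.zero (by omega)) = 1 := by
      apply ext_act
      intro v
      rw [act_aEl, act_one]
      simp
    exact aEl_inj hF E (h5.trans h6.symm)
  · -- y_sq
    intro v hv0
    have hs := (hskew _).1 (herm_rk (σ := sig hF) (pow_q_pow_q hF) v)
    rw [ypos v hv0, apos _ hs]
    have e1 : Y (vec v) * t * (Y (vec v) * t) = Z hF j (vec v) := by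
      calc Y (vec v) * t * (Y (vec v) * t) = Y (vec v) * (t * Y (vec v) * t) := by group
        _ = (Y (vec v) * Y (vec v)) * Z hF j (vec v) := by rw [Yb v hv0]; group
        _ = _ := by rw [Ysq v hv0, one_mul]
    rw [e1, Z]
    congr 1
    apply ext_act
    intro x
    rw [act_Np hF (viso v v) (one_pow q), act_aEl, one_mul, vdef, herm_sum_right hF, Finset.smul_sum]
    congr 1
    refine Finset.sum_congr rfl fun i _ => ?_
    rw [smul_smul]
    congr 1
    rw [Finset.sum_mul]
    refine Finset.sum_congr rfl fun k _ => ?_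
    rw [herm_smul_right]
    show v k ^ q * hermForm n F q x (e k) * v i = v i * (v k) ^ q * hermForm n F q x (e k)
    ring
  · -- y_t
    intro v hv0
    rw [ypos v hv0]
    calc t * (Y (vec v) * t) * t = t * Y (vec v) * (t * t) := by group
      _ = t⁻¹ * (Y (vec v) * Y (vec v)) * (Y (vec v))⁻¹ * (Y (vec v) * Y (vec v)) := by
        rw [D.tt, Ysq v hv0, ht, mul_one, mul_one, mul_one]
        congr 1
        exact eq_inv_of_mul_eq_one_left (Ysq v hv0)
      _ = (Y (vec v) * t)⁻¹ := by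
        rw [Ysq v hv0, _root_.mul_inv_rev]; group
  · -- a_t
    intro H hH
    rw [hskew] at hH
    rw [apos _ hH]
    exact D.tj _
  · -- y_y
    intro v hv0 v' hv0'
    rw [ypos v hv0, ypos v' hv0']
    by_cases hdep : ∃ c : F, v' = c • v
    · obtain ⟨c, rfl⟩ := hdep
      have hc : c ≠ 0 := by
        rintro rfl
        exact hv0' (zero_smul _ _)
      rw [vsmul, Ysm c v hc hv0]
    · push Not at hdep
      obtain ⟨M, hM, hM0, hM1⟩ := exists_det_one v v' hv0 hdep
      obtain ⟨g, hg, -⟩ := exists_SL hF E hM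
      have hgp : act g p = vec v := by
        rw [← he0, hg, vdef]
        exact Finset.sum_congr rfl fun i _ => by rw [hM0]
      have hgr : act g r = vec v' := by
        rw [← he1, hg, vdef]
        exact Finset.sum_congr rfl fun i _ => by rw [hM1]
      obtain ⟨k, hk⟩ : ∃ k, k = fj n F q j g := ⟨_, rfl⟩
      have k1 : k * Y p * k⁻¹ = Y (vec v) := by
        rw [hk]; exact hYc p hp0 hpp g 1 _ one_ne_zero (by rw [hgp, one_smul])
      have k2 : k * Y r * k⁻¹ = Y (vec v') := by
        rw [hk]; exact hYc r hr0 hrr g 1 _ one_ne_zero (by rw [hgr, one_smul])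
      have k3 : k * Z hF j p * k⁻¹ = Z hF j (vec v) := by rw [hk, Z_conj hpp, hgp]
      have k4 : k * Z hF j r * k⁻¹ = Z hF j (vec v') := by rw [hk, Z_conj hrr, hgr]
      have hpair : Y (vec v) * Y (vec v') = Y (vec v') * Y (vec v) * (Z hF j (vec v) * Z hF j (vec v')) := by
        calc Y (vec v) * Y (vec v') = (k * Y p * k⁻¹) * (k * Y r * k⁻¹) := by rw [k1, k2]
          _ = k * (Y p * Y r) * k⁻¹ := by group
          _ = (k * Y r * k⁻¹) * (k * Y p * k⁻¹) * ((k * Z hF j p * k⁻¹) * (k * Z hF j r * k⁻¹)) := by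
            rw [hbase]; group
          _ = _ := by rw [k1, k2, k3, k4]
      have zz := Z_sq (hF := hF) (j := j) (viso v' v')
      calc Y (vec v) * t * (Y (vec v') * t) = Y (vec v) * (t * Y (vec v') * t) := by group
        _ = (Y (vec v) * Y (vec v')) * Z hF j (vec v') := by rw [Yb v' hv0']; group
        _ = Y (vec v') * Y (vec v) * Z hF j (vec v) * (Z hF j (vec v') * Z hF j (vec v')) := by
          rw [hpair]; group
        _ = Y (vec v') * (t * Y (vec v) * t) := by rw [zz, Yb v hv0]; group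
        _ = _ := by group
  · -- y_a
    intro v hv0 H hH
    rw [hskew] at hH
    rw [ypos v hv0, apos _ hH]
    have c1 := D.cent (vne v hv0) (viso v v) _ (YW v hv0) (aEl hF E H hH) (vfix _ (afix H hH) v)
    have c2 : t * fj n F q j (aEl hF E H hH) = fj n F q j (aEl hF E H hH) * t := D.tj _
    rw [mul_assoc, c2, ← mul_assoc, c1, mul_assoc]
  · -- hK
    intro M hM
    obtain ⟨g, hg, -⟩ := exists_SL hF E hM
    refine ⟨fj n F q j g, fun v hv0 => ?_, fun H hH => ?_⟩
    · have hMv : M.mulVec v ≠ 0 := by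
        intro h
        apply hv0
        have hu : IsUnit M.det := by rw [hM]; exact isUnit_one
        exact (Matrix.mulVec_injective_of_isUnit ((Matrix.isUnit_iff_isUnit_det M).mpr hu))
          (by rw [h, Matrix.mulVec_zero])
      rw [ypos v hv0, ypos _ hMv]
      have c1 := hYc (vec v) (vne v hv0) (viso v v) g 1 (vec (M.mulVec v)) one_ne_zero
        (by rw [vmap g M hg, one_smul])
      have c2 : t * fj n F q j g = fj n F q j g * t := D.tj _
      rw [← c1]
      calc fj n F q j g * (Y (vec v) * t) * (fj n F q j g)⁻¹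
          = fj n F q j g * Y (vec v) * (fj n F q j g)⁻¹ * (fj n F q j g * t) * (fj n F q j g)⁻¹ := by group
        _ = _ := by rw [← c2]; group
    · have hH' := herm_conj (σ := sig hF) (pow_q_pow_q hF) M hH
      rw [hskew] at hH hH'
      rw [apos _ hH, apos _ hH', ← map_inv, ← map_mul, ← map_mul, conj_aEl hF E hH hg]
      rfl
  · -- O_y
    rintro _ ⟨g, hg, rfl⟩ v hv0
    rw [ypos v hv0]
    have c1 := D.cent (vne v hv0) (viso v v) _ (YW v hv0) g (vfix g hg v)
    have c2 : t * fj n F q j g = fj n F q j g * t := D.tj _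
    rw [mul_assoc, c2, ← mul_assoc, ← c1, mul_assoc]
  · -- O_a
    rintro _ ⟨g, hg, rfl⟩ H hH
    rw [hskew] at hH
    rw [apos _ hH, ← map_mul, ← map_mul]
    congr 1
    have h5 : ∀ k, act g (e k) = ∑ i, (1 : Matrix (Fin 3) (Fin 3) F) i k • e i := by
      intro k
      rw [hg, Finset.sum_eq_single k]
      · rw [Matrix.one_apply_eq, one_smul]
      · intro i _ hik
        rw [Matrix.one_apply_ne hik, zero_smul]
      · intro h; exact absurd (Finset.mem_univ k) h
    have h6 := conj_aEl hF E hH h5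
    have h7 : (1 : Matrix (Fin 3) (Fin 3) F) * H * (1 : Matrix (Fin 3) (Fin 3) F)ᵀ.map (· ^ q) = H := by
      have : (1 : Matrix (Fin 3) (Fin 3) F)ᵀ.map (· ^ q) = 1 := by
        rw [Matrix.transpose_one]
        exact Matrix.map_one _ (zero_pow (by omega)) (one_pow q)
      rw [this, Matrix.one_mul, Matrix.mul_one]
    rw [aEl_congr hF E _ hH h7, mul_inv_eq_iff_eq_mul] at h6
    exact h6
  · -- K2
    intro c hc hO
    obtain ⟨α, hα⟩ := D.toSit.exists_aut hc
    have h5 : ∀ g : SU n F q, (∀ k, act g (e k) = e k) → α (pr n F q g) = pr n F q g := by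
      intro g hg
      apply D.inj
      rw [← hα]
      have := hO _ ⟨g, hg, rfl⟩
      rw [fj_apply] at this
      rw [this, mul_inv_cancel_right]
    obtain ⟨H, hH, hH'⟩ := autCent_frame hF (by omega) E (by norm_num) α h5
    refine ⟨H, (hskew H).2 hH, ?_⟩
    rw [apos _ hH]
    exact D.toSit.eq_or hc (fun x => by rw [hα, hH'])

omit D in
theorem indep_of_P2 {p p' r r' : Fin n → F} (H : P2 q p p' r r') : LinearIndependent F ![p, r] := by
  rw [LinearIndependent.pair_iff]
  intro a b h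
  have h1 := congrArg (fun x => hermForm n F q x p') h
  have h2 := congrArg (fun x => hermForm n F q x r') h
  simp only [herm_add_left, herm_smul_left, H.pp', H.rp', H.pr', H.rr', herm_zero_left, mul_one, mul_zero, add_zero,
    zero_add] at h1 h2
  exact ⟨h1, h2⟩

/-- **The alternative of `LineGrp.comm_of_two` is resolved**: `[W p, W r] = 1`. -/
theorem comm [CharP F 2] (hq : q = 2) (hn : 6 ≤ n) {p p' r r' : Fin n → F} (H : P2 q p p' r r') {v u : G}
    (hv : v ∈ W p) (hu : u ∈ W r)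
    (h : v * u = u * v ∨ (t * v * t = v * fj n F q j (Np hF p 1) ∧ t * u * t = u * fj n F q j (Np hF r 1) ∧
      v * u = u * v * (fj n F q j (Np hF p 1) * fj n F q j (Np hF r 1)))) : v * u = u * v := by
  rcases h with h | ⟨h1, h2, h3⟩
  · exact h
  · exact absurd (two_absurd D hq hn H.p_ne H.pp H.rr H.pr (indep_of_P2 H) hv hu h1 h2 h3) not_false

end

end Cfsg.Agent.OddHalf.D7.Uni.PlaneGlue

end

-- merged: Cfsg.Agent.OddHalf.D7.Uni.FaceComm
section

/-!
# `Tor`, `Scale`, the swap; all `W s`, `s ∈ l`, commute for a totally isotropic line `l` (ODD D7, `K = PSU_n(q)`)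
-/

set_option autoImplicit false
set_option linter.unusedSimpArgs false
set_option linter.unusedSectionVars false

namespace Cfsg.Agent.OddHalf.D7.Uni.Face

open Cfsg Cfsg.Agent.LieClassical.HermBasic Cfsg.Agent.LieClassical.HermSiegel
  Cfsg.Agent.LieClassical.HermGen Cfsg.Agent.LieClassical.SUBasic Matrix
  Cfsg.Agent.ClassicalGeometry.PSUAutBasic Cfsg.Agent.ClassicalGeometry.PSUAutSylow
  Cfsg.Agent.ClassicalGeometry.PSUAutUnip Cfsg.Agent.ClassicalGeometry.PSUAutPhi
  Cfsg.Agent.KFacts.Unit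

variable {F : Type*} [Field F] [Fintype F] {q n : ℕ} {G : Type*} [Group G] {t : G} {j : PSU n F q →* G}
  {W : (Fin n → F) → Subgroup G}

omit [Fintype F] in
theorem P2.lf {p p' r r' : Fin n → F} (H : P2 q p p' r r') : KFacts.UniTwo.LF q p r p' r' where
  ee := H.pp
  ff := H.rr
  ef := H.pr
  e'e' := H.p'p'
  f'f' := H.r'r'
  e'f' := H.p'r'
  ee' := H.pp'
  ff' := H.rr'
  ef' := H.pr'
  fe' := H.rp'

theorem conj_Np (hF : Fintype.card F = q ^ 2) [CharP F 2] {u : Fin n → F} (hu : hermForm n F q u u = 0) {x c : F}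
    (hx : x ^ q = x) {g : SU n F q} (hg : act g u = c • u) : g * Np hF u x * g⁻¹ = Np hF u (c * c ^ q * x) := by
  have hcu : hermForm n F q (c • u) (c • u) = 0 := by rw [herm_smul_left, herm_smul_right, hu]; ring
  have hx' : (c * c ^ q * x) ^ q = c * c ^ q * x := by rw [mul_pow, norm_pow_q hF, hx]
  rw [Np, conj_Sg hF (isS_np hu hx), act_zero, hg]
  apply ext_act
  intro v
  rw [act_Sg hF (isS_np hcu hx), act_Np hF hu hx', herm_zero_right hF, smul_zero, add_zero, sub_zero,
    herm_smul_right, smul_smul]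
  congr 2
  ring

theorem conj_Mm (hF : Fintype.card F = q ^ 2) {p r : Fin n → F} (hp : hermForm n F q p p = 0)
    (hr : hermForm n F q r r = 0) (hrp : hermForm n F q r p = 0) (μ : F) {a b : F} {g : SU n F q}
    (hg : act g p = a • p) (hg' : act g r = b • r) : g * Mm hF p r μ * g⁻¹ = Mm hF p r (a * b ^ q * μ) := by
  have h1 : IsSiegel q (a • p) (μ ^ q • b • r) 0 := by
    refine isS_vec hF ?_ ?_ ?_ _
    · rw [herm_smul_left, herm_smul_right, hp]; ring
    · rw [herm_smul_left, herm_smul_right, hrp]; ring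
    · rw [herm_smul_left, herm_smul_right, hr]; ring
  rw [Mm, conj_Sg hF (isS_vec hF hp hrp hr _), act_smul, hg, hg']
  apply ext_act
  intro v
  rw [act_Sg hF h1, act_Mm hF hp hr hrp]
  simp only [herm_smul_right, mul_pow, pow_q_pow_q hF]
  module

/-- `Defs.Tor` -/
theorem Dbl.tor {hF : Fintype.card F = q ^ 2} [CharP F 2] (D : Dbl hF t j W) (hn : 4 ≤ n) {p p' r r' : Fin n → F}
    (H : P2 q p p' r r') : ∃ h : G, Defs.Tor (sig hF) t (W p) (W r) (fun x => fj n F q j (Np hF p x))
      (fun y => fj n F q j (Np hF r y)) (fun μ => fj n F q j (Mm hF p r μ)) h := by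
  obtain ⟨s, hs, hs1⟩ := KFacts.UniTwo.exists_norm_one_ne hF
  obtain ⟨h0, h0', h1⟩ := KFacts.UniTwo.LF.tor_aux hF hs
  have hodd := KFacts.UniTwo.LF.q_add_one_odd hF CharTwo.add_self_eq_zero
  have hsq : s ^ (q + 1) = 1 := by rw [pow_succ, mul_comm]; exact hs
  have hsq' : s⁻¹ ^ (q + 1) = 1 := by rw [inv_pow, hsq, inv_one]
  have hpow := H.lf.dS_pow hF h0 h0' h1 hsq hsq'
  have hs' : s⁻¹ * s⁻¹ ^ q = 1 := by rw [inv_pow, ← mul_inv, hs, inv_one]
  have ge := H.lf.dS_e hF h0 h0' h1
  have gf := H.lf.dS_f hF h0 h0' h1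
  set d := H.lf.dS hF s s⁻¹ h0 h0' h1 with hd
  have C := coord D.toSit hF (by omega) H
  refine ⟨fj n F q j d, (D.tj _).symm, fun w hw => (D.cent_odd H.p_ne H.pp hs ge hodd hpow hw).symm,
    fun w hw => (D.cent_odd H.r_ne H.rr hs' gf hodd hpow hw).symm, ?_⟩
  intro x μ y hx hy h2
  have h3 : d * Np hF p x * d⁻¹ = Np hF p x := by
    rw [conj_Np hF H.pp hx ge, hs, one_mul]
  have h4 : d * Np hF r y * d⁻¹ = Np hF r y := by
    rw [conj_Np hF H.rr hy gf, hs', one_mul]
  have hsqi : s⁻¹ ^ q = s := by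
    rw [inv_pow, inv_eq_iff_eq_inv]
    exact (eq_inv_of_mul_eq_one_right hs)
  have h5 : d * Mm hF p r μ * d⁻¹ = Mm hF p r (s * s * μ) := by
    rw [conj_Mm hF H.pp H.rr H.rp μ ge gf, hsqi]
  have h6 : fj n F q j (Np hF p x) * fj n F q j (Mm hF p r (s * s * μ)) * fj n F q j (Np hF r y) =
      fj n F q j (Np hF p x) * fj n F q j (Mm hF p r μ) * fj n F q j (Np hF r y) := by
    have e1 : d * (Np hF p x * Mm hF p r μ * Np hF r y) * d⁻¹ = Np hF p x * Mm hF p r (s * s * μ) * Np hF r y := by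
      rw [← h5]
      calc d * (Np hF p x * Mm hF p r μ * Np hF r y) * d⁻¹ = (d * Np hF p x * d⁻¹) * (d * Mm hF p r μ * d⁻¹) *
            (d * Np hF r y * d⁻¹) := by group
        _ = _ := by rw [h3, h4]
    have e2 := congrArg (fj n F q j) e1
    simp only [map_mul, map_inv] at e2
    rw [← e2, h2, mul_inv_cancel_right]
  have h7 := (Line.A_inj C hx hy hx hy h6).2.1
  by_contra hμ
  have h8 : s * s = 1 := by
    have h9 : s * s * μ = 1 * μ := by rw [one_mul]; exact h7
    exact mul_right_cancel₀ hμ h9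
  apply hs1
  have h9 : (s + 1) * (s + 1) = 0 := by
    have h10 := CharTwo.add_self_eq_zero s
    have h11 := CharTwo.add_self_eq_zero (1 : F)
    linear_combination h8 + h10 + h11
  have h10 := mul_self_eq_zero.1 h9
  have h11 := eq_neg_of_add_eq_zero_left h10
  rwa [CharTwo.neg_eq] at h11

/-- square roots of fixed elements -/
theorem exists_sqrt_fix [CharP F 2] {ν : F} (hν : ν ^ q = ν) :
    ∃ b : F, b * b = ν ∧ b ^ q = b := by
  obtain ⟨b, hb⟩ := FiniteField.isSquare_of_char_two (ringChar.eq F 2) ν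
  have hb' : b ^ q * b ^ q = b * b := by rw [← mul_pow, ← hb, hν]
  refine ⟨b, hb.symm, ?_⟩
  have h9 : (b ^ q + b) * (b ^ q + b) = 0 := by
    have h10 := CharTwo.add_self_eq_zero (b ^ q * b)
    have h11 := CharTwo.add_self_eq_zero (b * b)
    linear_combination hb' + h10 + h11
  have h10 := mul_self_eq_zero.1 h9
  have h11 := eq_neg_of_add_eq_zero_left h10
  rwa [CharTwo.neg_eq] at h11

/-- `Defs.Scale` -/
theorem Dbl.scale {hF : Fintype.card F = q ^ 2} [CharP F 2] (D : Dbl hF t j W) {p p' r r' : Fin n → F}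
    (H : P2 q p p' r r') : Defs.Scale (sig hF) t (W p) (W r) (fun x => fj n F q j (Np hF p x))
      (fun y => fj n F q j (Np hF r y)) := by
  intro ν hν hν0
  obtain ⟨b, hb, hbq⟩ := exists_sqrt_fix hν
  have hb0 : b ≠ 0 := by
    rintro rfl
    rw [mul_zero] at hb
    exact hν0 hb.symm
  have h1 : (b * 1) ^ q = b * 1 := by rw [mul_one, hbq]
  have ge := H.lf.dS_e hF hb0 one_ne_zero h1
  have gf := H.lf.dS_f hF hb0 one_ne_zero h1
  set d := H.lf.dS hF b 1 hb0 one_ne_zero h1 with hd
  refine ⟨fj n F q j d, (D.tj _).symm, ?_, ?_, ?_, ?_⟩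
  · intro w hw
    have := D.conj H.p_ne H.pp d w hw
    rwa [ge, D.smul H.p_ne H.pp hb0] at this
  · intro w hw
    have := D.conj H.r_ne H.rr d w hw
    rwa [gf, one_smul] at this
  · intro x hx
    show fj n F q j d * fj n F q j (Np hF p x) * (fj n F q j d)⁻¹ = fj n F q j (Np hF p (ν * x))
    rw [← map_mul, ← map_inv, ← map_mul, conj_Np hF H.pp hx ge, hbq, hb]
  · intro y hy
    show fj n F q j d * fj n F q j (Np hF r y) * (fj n F q j d)⁻¹ = fj n F q j (Np hF r y)
    rw [← map_mul, ← map_inv, ← map_mul, conj_Np hF H.rr hy gf, one_pow, mul_one, one_mul]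

/-- `q > 2`: a fixed element different from `0`, `1`. -/
theorem exists_fixed (hF : Fintype.card F = q ^ 2) (hq : 2 < q) : ∃ k : F, sig hF k = k ∧ k ≠ 0 ∧ k ≠ 1 := by
  classical
  by_contra hcon
  push Not at hcon
  have h1 := card_fixed hF
  have h2 : Nat.card {x : F // x ^ q = x} ≤ Nat.card (({0, 1} : Finset F) : Set F) := by
    refine Nat.card_le_card_of_injective (fun x => ⟨x.1, ?_⟩) (fun x y h => ?_)
    · by_cases h0 : x.1 = 0
      · simp [h0]
      · have := hcon x.1 x.2 h0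
        simp [this]
    · exact Subtype.ext (Subtype.mk.inj h)
  have h3 : Nat.card (({0, 1} : Finset F) : Set F) ≤ 2 := by
    rw [Nat.card_coe_set_eq, Set.ncard_coe_finset]
    exact Finset.card_le_two
  omega

/-- `q = 2`: the fixed elements are `0` and `1`. -/
theorem fixed_two (hF : Fintype.card F = q ^ 2) (hq : q = 2) : ∀ k : F, sig hF k = k → k = 0 ∨ k = 1 := by
  subst hq
  intro k hk
  have h1 : k ^ 2 = k := hk
  have h2 : k * (k - 1) = 0 := by linear_combination h1
  rcases mul_eq_zero.1 h2 with h3 | h3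
  · exact Or.inl h3
  · exact Or.inr (sub_eq_zero.1 h3)

theorem OE_swap (p r : Fin n → F) : OE n F q j r p = OE n F q j p r := by
  rw [OE, OE, inf_comm]

theorem Dbl.line' {hF : Fintype.card F = q ^ 2} [CharP F 2] (D : Dbl hF t j W) (hn : 4 ≤ n) {p p' r r' : Fin n → F}
    (H : P2 q p p' r r') :
    Defs.Line (sig hF) t (OE n F q j p r) (W r) (W p) (fun x => fj n F q j (Np hF r x)) (fun y => fj n F q j (Np hF p y))
      (fun μ => fj n F q j (Mm hF r p μ)) (fun l => fj n F q j (Mm hF r p' l)) := by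
  rw [← OE_swap]
  exact D.line hn H.swap

theorem Dbl.pr_large {hF : Fintype.card F = q ^ 2} [CharP F 2] (D : Dbl hF t j W) (hn : 4 ≤ n) (hq : 2 < q)
    {p p' r r' : Fin n → F} (H : P2 q p p' r r') : ∀ v ∈ W p, ∀ u ∈ W r, v * u = u * v := by
  intro v hv u hu
  obtain ⟨h, T⟩ := D.tor hn H
  obtain ⟨h', T'⟩ := D.tor hn H.swap
  exact LineGrp.comm_of_large (D.line hn H) (D.line' hn H) T T' (D.scale H) (D.scale H.swap)
    (exists_fixed hF hq) hv hu

section P2

variable {p p' r r' : Fin n → F}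

theorem P2.of_lf (hF : Fintype.card F = q ^ 2) (H : KFacts.UniTwo.LF q p r p' r') : P2 q p p' r r' where
  pp := H.ee
  p'p' := H.e'e'
  pp' := H.ee'
  p'p := H.e'e hF
  rr := H.ff
  r'r' := H.f'f'
  rr' := H.ff'
  r'r := H.f'f hF
  pr := H.ef
  rp := H.fe hF
  pr' := H.ef'
  r'p := H.f'e hF
  p'r := H.e'f hF
  rp' := H.fe'
  p'r' := H.e'f'
  r'p' := H.f'e' hF

theorem exists_P2 (hF : Fintype.card F = q ^ 2) (hn : 4 ≤ n) (hp0 : p ≠ 0) (hp : hermForm n F q p p = 0) :
    ∃ p' r r', P2 q p p' r r' := by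
  obtain ⟨f, e', f', H⟩ := KFacts.UniTwo.exists_LF hF hn hp0 hp
  exact ⟨e', f, f', P2.of_lf hF H⟩

theorem exists_P2_of (hF : Fintype.card F = q ^ 2) (hp : hermForm n F q p p = 0) (hr : hermForm n F q r r = 0)
    (hpr : hermForm n F q p r = 0) (hind : ∀ a b : F, a • p + b • r = 0 → a = 0 ∧ b = 0) :
    ∃ p' r', P2 q p p' r r' := by
  obtain ⟨e', f', H⟩ := KFacts.UniTwo.exists_LF_of hF hp hr hpr hind
  exact ⟨e', f', P2.of_lf hF H⟩

/-- the pair `(r + l p, r)` of the line `⟨p, r⟩` -/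
theorem P2.shift [CharP F 2] (hF : Fintype.card F = q ^ 2) (H : P2 q p p' r r') {l : F} (hl : l ≠ 0) :
    P2 q (r + l • p) ((l⁻¹) ^ q • p') r (r' + (l⁻¹) ^ q • p') := by
  have e1 : l * l⁻¹ = 1 := mul_inv_cancel₀ hl
  have e2 : l ^ q * l⁻¹ ^ q = 1 := by rw [← mul_pow, e1, one_pow]
  have e3 : (l⁻¹ ^ q) ^ q = l⁻¹ := pow_q_pow_q hF _
  have h2 : (2 : F) = 0 := CharTwo.two_eq_zero
  constructor <;>
    simp only [herm_add_left, herm_smul_left, herm_add_right hF, herm_smul_right, H.pp, H.p'p', H.pp', H.p'p, H.rr,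
      H.r'r', H.rr', H.r'r, H.pr, H.rp, H.pr', H.r'p, H.p'r, H.rp', H.p'r', H.r'p', e3, mul_zero, add_zero,
      zero_add, mul_one, e1, e2] <;>
    first
      | done
      | linear_combination e1
      | linear_combination e2
      | linear_combination h2
      | linear_combination e1 + h2


end P2

/-- all `W p`, `W r` with `p ⊥ r` commute -/
def PR (q : ℕ) (W : (Fin n → F) → Subgroup G) : Prop :=
  ∀ p p' r r', P2 q p p' r r' → ∀ v ∈ W p, ∀ u ∈ W r, v * u = u * v

theorem q_cases (hF : Fintype.card F = q ^ 2) : 2 < q ∨ q = 2 := by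
  have := two_le hF
  omega

/-- `q = 2`: `[W p, W r] = 1`. -/
theorem Dbl.pr_two {hF : Fintype.card F = q ^ 2} [CharP F 2] (D : Dbl hF t j W) (hn : 6 ≤ n) (hq : q = 2) :
    PR q W := by
  intro p p' r r' H v hv u hu
  obtain ⟨g, hg1, hg2⟩ := exists_map_Frm hF (by omega) H.frm H.swap.frm
  have gp : act g p = r := by simpa using hg1 0
  have gr : act g r = p := by simpa using hg1 1
  obtain ⟨h, T⟩ := D.tor (by omega) H
  refine PlaneGlue.comm D hq hn H hv hu ?_
  refine LineGrp.comm_of_two (s := fj n F q j g) (D.line (by omega) H) T (fixed_two hF hq) (D.tj _).symm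
    ?_ ?_ ?_ ?_ hv hu
  · intro w hw
    have := D.conj H.p_ne H.pp g w hw
    rwa [gp] at this
  · intro w hw
    have := D.conj H.r_ne H.rr g w hw
    rwa [gr] at this
  · intro x hx
    have e1 : g * Np hF p x * g⁻¹ = Np hF r x := by
      rw [Np, conj_Sg hF (isS_np H.pp hx), act_zero, gp, Np]
    show fj n F q j g * fj n F q j (Np hF p x) * (fj n F q j g)⁻¹ = fj n F q j (Np hF r x)
    rw [← e1, map_mul, map_mul, map_inv]
  · intro x hx
    have e1 : g * Np hF r x * g⁻¹ = Np hF p x := by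
      rw [Np, conj_Sg hF (isS_np H.rr hx), act_zero, gr, Np]
    show fj n F q j g * fj n F q j (Np hF r x) * (fj n F q j g)⁻¹ = fj n F q j (Np hF p x)
    rw [← e1, map_mul, map_mul, map_inv]

/-- `[W p, W r] = 1` -/
theorem Dbl.pr {hF : Fintype.card F = q ^ 2} [CharP F 2] (D : Dbl hF t j W) (hn : 6 ≤ n) : PR q W := by
  rcases q_cases hF with hq | hq
  · intro p p' r r' H
    exact D.pr_large (by omega) hq H
  · exact D.pr_two hn hq

section Comm

variable {hF : Fintype.card F = q ^ 2} [CharP F 2] (D : Dbl hF t j W) (hn : 4 ≤ n) (hpr : PR q W)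

include D hn hpr

/-- `W p` is abelian. -/
theorem Dbl.ab {p : Fin n → F} (hp0 : p ≠ 0) (hp : hermForm n F q p p = 0) {v w : G} (hv : v ∈ W p) (hw : w ∈ W p) :
    v * w = w * v := by
  obtain ⟨p', r, r', H⟩ := exists_P2 hF hn hp0 hp
  exact Line.ab_of_comm (D.line hn H) (hpr _ _ _ _ H) hv hw

theorem Dbl.comm {p p' r r' : Fin n → F} (H : P2 q p p' r r') :
    LineGrp.Comm (W p) (W r) (fun l => fj n F q j (Mm hF p r' l)) where
  pp v hv u hu := D.ab hn hpr H.p_ne H.pp hv hu
  pr v hv u hu := hpr _ _ _ _ H v hv u hu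
  rr l u hu v hv := by
    have h1 : fj n F q j (Mm hF p r' l) * u * (fj n F q j (Mm hF p r' l))⁻¹ ∈ W (r + l • p) := by
      have := D.conj H.r_ne H.rr (Mm hF p r' l) u hu
      rwa [Gg_r hF H] at this
    by_cases hl : l = 0
    · rw [hl, zero_smul, add_zero] at h1
      rw [hl]
      exact D.ab hn hpr H.r_ne H.rr h1 hv
    · exact hpr _ _ _ _ (H.shift hF hl) _ h1 v hv

/-- `W p` is elementary abelian. -/
theorem Dbl.elem {p : Fin n → F} (hp0 : p ≠ 0) (hp : hermForm n F q p p = 0) {w : G}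
    (hw : w ∈ W p) : w * w = 1 := by
  rcases q_cases hF with hq | hq
  · obtain ⟨p', r, r', H⟩ := exists_P2 hF hn hp0 hp
    exact (LineGrp.line_main (D.line hn H.swap) (D.comm hn hpr H.swap) hw (Or.inl (exists_fixed hF hq))).1
  · exact D.sq hq hp0 hp w hw

/-- `EL` for every totally isotropic line -/
theorem Dbl.el {p p' r r' : Fin n → F} (H : P2 q p p' r r') :
    Quad.EL (sig hF) t (Subgroup.closure (LineGrp.gens (W p) (W r) (fun μ => fj n F q j (Mm hF p r μ))
      (fun l => fj n F q j (Mm hF p r' l)))) (W p) ((QQ hF p H.pp).map j) (fun x => fj n F q j (Np hF p x))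
      (fun y => fj n F q j (Np hF r y)) (fun μ => fj n F q j (Mm hF p r μ)) (fun l => fj n F q j (Mm hF p r' l)) := by
  refine Quad.EL.of_line (D.line hn H) (D.comm hn hpr H) (fun w hw => D.elem hn hpr H.p_ne H.pp hw)
    (fun w hw => D.elem hn hpr H.r_ne H.rr hw) ?_ ?_ ?_ ?_
  · intro l
    exact Subgroup.mem_map_of_mem j (mem_QQ.2 ⟨_, _, isS_vec hF H.pp H.r'p H.r'r' _, by rw [Mm, Sg_eq]⟩)
  · intro x hx
    exact Subgroup.mem_map_of_mem j (mem_QQ.2 ⟨_, _, isS_np H.pp hx, by rw [Np, Sg_eq]⟩)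
  · intro μ
    exact Subgroup.mem_map_of_mem j (mem_QQ.2 ⟨_, _, isS_vec hF H.pp H.rp H.rr _, by rw [Mm, Sg_eq]⟩)
  · rintro _ ⟨x, hx, rfl⟩
    obtain ⟨w, μ, h, rfl⟩ := mem_QQ.1 hx
    have h1 : act (siegel hF p w μ h) r = r + hermForm n F q r w • p := by
      rw [act_siegel, H.rp, zero_smul, add_zero, mul_zero, zero_sub, CharTwo.neg_eq]
    have h2 : act (siegel hF p w μ h) p = p := by
      rw [act_siegel, H.pp, zero_smul, add_zero, mul_zero, zero_sub, herm_eq_zero_swap hF h.orth, neg_zero, zero_smul,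
        add_zero]
    refine ⟨hermForm n F q r w, fj n F q j ((Mm hF p r' (hermForm n F q r w))⁻¹ * siegel hF p w μ h),
      mem_OE.2 ⟨_, ?_, ?_, rfl⟩, ?_⟩
    · rw [act_mul, h2]
      exact ((act_eq_iff _).1 (Gg_p hF H _)).symm
    · rw [act_mul, h1]
      exact ((act_eq_iff _).1 (Gg_r hF H _)).symm
    · rw [map_mul, map_inv, mul_inv_cancel_left, fj_apply]

end Comm

end Cfsg.Agent.OddHalf.D7.Uni.Face

end
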