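import Cfsg.Agent.OddHalf.D7.Uni.Evl
import Cfsg.Agent.OddHalf.D7.Uni.Rv
import Cfsg.Agent.OddHalf.D7.Uni.Norm
import Cfsg.Agent.OddHalf.D7.Uni.FaceInst
import Cfsg.Agent.OddHalf.D7.Uni.FaceComm
import Cfsg.Agent.KFacts.Unit.HeisK
import Cfsg.Agent.OddHalf.D7.Uni.FaceR

-- merged: Cfsg.Agent.OddHalf.D7.Uni.RvCard
section

/-!
# `|R_v| = |Q_v|²`, `[R_v, R_v] = W_v`, and `RData` from the lines through `v` (helper371, bb ODD 10033, section 4)
-/

set_option autoImplicit false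

namespace Cfsg.Agent.OddHalf.D7.Uni.Quad

open Defs

variable {G : Type*} [Group G] {ι : Type*}

section card

/-- `|K| = |f K| |K ∩ ker f|` -/
theorem card_map_ker {H : Type*} [Group H] (f : G →* H) (K : Subgroup G) :
    Nat.card K = Nat.card (K.map f) * Nat.card (f.ker ⊓ K : Subgroup G) := by
  have h1 := Subgroup.card_mul_index (f.comp K.subtype).ker
  rw [Subgroup.index_ker] at h1
  have h2 : (f.comp K.subtype).range = K.map f := by
    rw [MonoidHom.range_comp, Subgroup.range_subtype]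
  have h3 : Nat.card (f.comp K.subtype).ker = Nat.card (f.ker ⊓ K : Subgroup G) := by
    refine Nat.card_congr ⟨fun x => ⟨x.1.1, x.2, x.1.2⟩, fun x => ⟨⟨x.1, x.2.2⟩, x.2.1⟩,
      fun x => rfl, fun x => rfl⟩
  rw [h2, h3] at h1
  rw [← h1, mul_comm]

end card

namespace RData

variable {t : G} {X W Q : Subgroup G} {A : ι → Subgroup G}

/-- `|W| = |X|²` -/
theorem card_W (D : RData t X W Q A) : Nat.card W = Nat.card X ^ 2 := by
  let f : W →* G :=
    { toFun := fun w => w.1⁻¹ * (t * w.1 * t)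
      map_one' := by simp [D.tt]
      map_mul' := fun a b => by
        obtain ⟨x, hx, ex⟩ := D.W_brk a.1 a.2
        have h := D.W_ab x (D.XW hx) _ (W.inv_mem b.2)
        change (a.1 * b.1)⁻¹ * (t * (a.1 * b.1) * t) = _
        rw [D.t_mul, ex]
        calc (a.1 * b.1)⁻¹ * (a.1 * x * (t * b.1 * t)) = (b.1⁻¹ * x) * (t * b.1 * t) := by group
          _ = _ := by rw [← h]; group }
  have h1 := Subgroup.card_mul_index f.ker
  rw [Subgroup.index_ker] at h1
  have h2 : f.range = X := by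
    ext x
    constructor
    · rintro ⟨w, rfl⟩
      obtain ⟨y, hy, ey⟩ := D.W_brk w.1 w.2
      change w.1⁻¹ * (t * w.1 * t) ∈ X
      rw [ey, inv_mul_cancel_left]
      exact hy
    · intro hx
      obtain ⟨w, hw, ew⟩ := D.W_surj x hx
      refine ⟨⟨w, hw⟩, ?_⟩
      change w⁻¹ * (t * w * t) = x
      rw [ew, inv_mul_cancel_left]
  have h3 : Nat.card f.ker = Nat.card X := by
    refine Nat.card_congr ⟨fun w => ⟨w.1.1, D.W_cent _ w.1.2 ?_⟩,
      fun x => ⟨⟨x.1, D.XW x.2⟩, ?_⟩, fun x => rfl, fun x => rfl⟩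
    · rw [D.comm_iff]
      have h : w.1.1⁻¹ * (t * w.1.1 * t) = 1 := w.2
      exact (inv_mul_eq_one.mp h).symm
    · change x.1⁻¹ * (t * x.1 * t) = 1
      rw [D.comm_iff.mp (D.Qt _ (D.XQ x.2)), inv_mul_cancel]
  rw [h2, h3] at h1
  rw [← h1, sq]

/-- `|R| = |Q|²` -/
theorem card_R [Finite G] (D : RData t X W Q A) : Nat.card (Rv W Q A) = Nat.card Q ^ 2 := by
  set R := Rv W Q A with hR
  have hn : (W.subgroupOf R).Normal := ⟨fun w hw r => by
    rw [Subgroup.mem_subgroupOf] at hw ⊢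
    have h := D.R_W r.2 w.1 hw
    have : ((r * w * r⁻¹ : R) : G) = w.1 := by
      push_cast
      rw [h, mul_inv_cancel_right]
    rw [this]
    exact hw⟩
  let mk : R →* R ⧸ W.subgroupOf R := QuotientGroup.mk' _
  let ψ : R →* R ⧸ W.subgroupOf R :=
    { toFun := fun r => mk ⟨r.1⁻¹ * (t * r.1 * t), R.mul_mem (R.inv_mem r.2) (D.t_R r.2)⟩
      map_one' := by
        rw [← map_one mk]
        congr 1
        apply Subtype.ext
        simp [D.tt]
      map_mul' := fun a b => by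
        rw [← map_mul]
        refine QuotientGroup.eq.mpr ?_
        rw [Subgroup.mem_subgroupOf]
        push_cast
        have ha : a.1⁻¹ * (t * a.1 * t) ∈ R := R.mul_mem (R.inv_mem a.2) (D.t_R a.2)
        have h1 := D.R_R (R.inv_mem (D.t_R b.2)) (R.inv_mem ha)
        have h2 := D.R_R (R.inv_mem b.2) ha
        -- `(s⁻¹ c s c')⁻¹ (c c')`, `c' = s⁻¹ s^t`
        have e : ((a.1 * b.1)⁻¹ * (t * (a.1 * b.1) * t))⁻¹ *
            (a.1⁻¹ * (t * a.1 * t) * (b.1⁻¹ * (t * b.1 * t))) =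
            (t * b.1 * t)⁻¹ * ((a.1⁻¹ * (t * a.1 * t))⁻¹ * b.1 * (a.1⁻¹ * (t * a.1 * t)) * b.1⁻¹) *
              (t * b.1 * t) := by
          rw [D.t_mul]
          group
        rw [e]
        have h3 := D.R_R (R.inv_mem ha) b.2
        rw [inv_inv] at h3
        have h4 := D.R_W (R.inv_mem (D.t_R b.2)) _ h3
        rw [h4, inv_mul_cancel_right]
        exact h3 }
  have hker : ∀ r : R, r ∈ ψ.ker ↔ ∃ w ∈ W, r.1 * w ∈ Q := by
    intro r
    rw [MonoidHom.mem_ker]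
    have h0 : ψ r = 1 ↔ r.1⁻¹ * (t * r.1 * t) ∈ W := by
      change QuotientGroup.mk _ = _ ↔ _
      rw [QuotientGroup.eq_one_iff, Subgroup.mem_subgroupOf]
    rw [h0]
    constructor
    · intro h
      exact D.fix_R r.2 h (by group)
    · rintro ⟨w, hw, h⟩
      have h1 := D.comm_iff.mp (D.Qt _ h)
      obtain ⟨x, hx, ex⟩ := D.W_brk w hw
      rw [D.t_mul, ex] at h1
      have h2 : t * r.1 * t = r.1 * (w * (w * x)⁻¹) := by
        calc t * r.1 * t = (t * r.1 * t) * (w * x) * (w * x)⁻¹ := by group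
          _ = _ := by rw [h1]; group
      rw [h2, inv_mul_cancel_left]
      exact W.mul_mem hw (W.inv_mem (W.mul_mem hw (D.XW hx)))
  have hrange : ψ.range = (Q.subgroupOf R).map mk := by
    ext z
    constructor
    · rintro ⟨r, rfl⟩
      obtain ⟨q, hq, w, hw, e⟩ := D.brk_R r.2
      refine ⟨⟨q, D.Q_R hq⟩, hq, ?_⟩
      refine QuotientGroup.eq.mpr ?_
      rw [Subgroup.mem_subgroupOf]
      push_cast
      rw [e]
      have : q⁻¹ * (r.1⁻¹ * (r.1 * (q * w))) = w := by group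
      rw [this]
      exact hw
    · rintro ⟨q, hq, rfl⟩
      obtain ⟨r, hr, w, hw, e⟩ := D.surj_R (Subgroup.mem_subgroupOf.mp hq)
      refine ⟨⟨r, hr⟩, ?_⟩
      refine QuotientGroup.eq.mpr ?_
      rw [Subgroup.mem_subgroupOf]
      push_cast
      rw [e]
      have : (r⁻¹ * (r * (q.1 * w)))⁻¹ * q.1 = w⁻¹ := by group
      rw [this]
      exact W.inv_mem hw
  have hkerc : ψ.ker.map mk = (Q.subgroupOf R).map mk := by
    ext z
    constructor
    · rintro ⟨r, hr, rfl⟩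
      obtain ⟨w, hw, h⟩ := (hker r).mp hr
      refine ⟨⟨r.1 * w, D.Q_R h⟩, h, ?_⟩
      refine QuotientGroup.eq.mpr ?_
      rw [Subgroup.mem_subgroupOf]
      push_cast
      have : (r.1 * w)⁻¹ * r.1 = w⁻¹ := by group
      rw [this]
      exact W.inv_mem hw
    · rintro ⟨q, hq, rfl⟩
      exact ⟨q, (hker q).mpr ⟨1, W.one_mem, by rw [mul_one]; exact hq⟩, rfl⟩
  have hmkker : mk.ker = W.subgroupOf R := QuotientGroup.ker_mk' _
  have c1 := Subgroup.card_mul_index ψ.ker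
  rw [Subgroup.index_ker, hrange] at c1
  have c2 := card_map_ker mk ψ.ker
  have c3 := card_map_ker mk (Q.subgroupOf R)
  have c4 : Nat.card (mk.ker ⊓ ψ.ker : Subgroup R) = Nat.card W := by
    rw [hmkker]
    refine Nat.card_congr ⟨fun x => ⟨x.1.1, x.2.1⟩, fun x => ⟨⟨x.1, D.W_R x.2⟩, x.2, ?_⟩,
      fun x => rfl, fun x => rfl⟩
    exact (hker _).mpr ⟨x.1⁻¹, W.inv_mem x.2, by rw [mul_inv_cancel]; exact Q.one_mem⟩
  have c5 : Nat.card (mk.ker ⊓ Q.subgroupOf R : Subgroup R) = Nat.card X := by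
    rw [hmkker]
    exact Nat.card_congr ⟨fun x => ⟨x.1.1, D.Q_W x.2.2 x.2.1⟩,
      fun x => ⟨⟨x.1, D.Q_R (D.XQ x.2)⟩, D.XW x.2, D.XQ x.2⟩, fun x => rfl, fun x => rfl⟩
  have c6 : Nat.card (Q.subgroupOf R) = Nat.card Q :=
    Nat.card_congr (Subgroup.subgroupOfEquivOfLe D.Q_R).toEquiv
  rw [hkerc, c4] at c2
  rw [c5, c6] at c3
  rw [← c1, c2, c3, D.card_W]
  ring

/-- `[R, R] ≥ W`, if the commutators of `Q` generate `X` -/
theorem W_le_comm (D : RData t X W Q A) {B : Subgroup G}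
    (hB : ∀ r ∈ Rv W Q A, ∀ s ∈ Rv W Q A, r * s * r⁻¹ * s⁻¹ ∈ B)
    (hX : X ≤ Subgroup.closure {x | ∃ p ∈ Q, ∃ q ∈ Q, x = p * q * p⁻¹ * q⁻¹}) : W ≤ B := by
  have hXB : X ≤ B := hX.trans ((Subgroup.closure_le _).mpr (by
    rintro _ ⟨p, hp, q, hq, rfl⟩
    exact hB p (D.Q_R hp) q (D.Q_R hq)))
  -- every element of `X` is `[w, t]` for some `w ∈ B`
  have key : ∀ x ∈ X, ∃ w ∈ W, w ∈ B ∧ t * w * t = w * x := by
    intro x hx
    refine Subgroup.closure_induction (p := fun x _ => ∃ w ∈ W, w ∈ B ∧ t * w * t = w * x)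
      ?_ ?_ ?_ ?_ (hX hx)
    · rintro _ ⟨p, hp, q, hq, rfl⟩
      obtain ⟨r, hr, w, hw, e⟩ := D.surj_R hp
      have hc := D.R_R hr (D.Q_R hq)
      have hpq := D.Q_comm p hp q hq
      refine ⟨r * q * r⁻¹ * q⁻¹, hc, hB r hr q (D.Q_R hq), ?_⟩
      rw [D.t_mul, D.t_mul, D.t_mul, D.t_invt, D.t_invt, e, D.comm_iff.mp (D.Qt q hq)]
      have k1 := D.W_Q w hw q hq
      have k2 := D.R_W hr _ (D.XW hpq)
      have k3 := D.W_Q w hw p hp
      calc r * (p * w) * q * (r * (p * w))⁻¹ * q⁻¹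
          = r * p * (w * q) * w⁻¹ * p⁻¹ * r⁻¹ * q⁻¹ := by group
        _ = r * (p * q * p⁻¹ * q⁻¹) * q * r⁻¹ * q⁻¹ := by rw [k1]; group
        _ = (p * q * p⁻¹ * q⁻¹) * (r * q * r⁻¹ * q⁻¹) := by rw [k2]; group
        _ = _ := D.W_ab _ (D.XW hpq) _ hc
    · exact ⟨1, W.one_mem, B.one_mem, by rw [mul_one, D.tt, mul_one]⟩
    · rintro x y hx' hy' ⟨w, hw, hwB, e⟩ ⟨v, hv, hvB, e'⟩
      refine ⟨w * v, W.mul_mem hw hv, B.mul_mem hwB hvB, ?_⟩
      rw [D.t_mul, e, e']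
      have hxX : x ∈ W := by
        have : x = w⁻¹ * (t * w * t) := by rw [e]; group
        obtain ⟨z, hz, ez⟩ := D.W_brk w hw
        rw [this, ez, inv_mul_cancel_left]
        exact D.XW hz
      have k := D.W_ab x hxX v hv
      calc w * x * (v * y) = w * (x * v) * y := by group
        _ = _ := by rw [k]; group
    · rintro x hx' ⟨w, hw, hwB, e⟩
      refine ⟨w⁻¹, W.inv_mem hw, B.inv_mem hwB, ?_⟩
      rw [D.t_invt, e]
      have hxX : x ∈ W := by
        have : x = w⁻¹ * (t * w * t) := by rw [e]; group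
        obtain ⟨z, hz, ez⟩ := D.W_brk w hw
        rw [this, ez, inv_mul_cancel_left]
        exact D.XW hz
      rw [mul_inv_rev]
      exact D.W_ab _ (W.inv_mem hxX) _ (W.inv_mem hw)
  intro w hw
  obtain ⟨x, hx, e⟩ := D.W_brk w hw
  obtain ⟨v, hv, hvB, e'⟩ := key x hx
  have h1 : w * v⁻¹ ∈ X := by
    refine D.W_cent _ (W.mul_mem hw (W.inv_mem hv)) ?_
    rw [D.comm_iff, D.t_mul, D.t_invt, e, e']
    group
  have : w = (w * v⁻¹) * v := by group
  rw [this]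
  exact B.mul_mem (hXB h1) hvB

end RData

variable {F : Type*} [Field F]

/-- `RData` from the lines through `v` -/
theorem RData.of_lines {σ : F →+* F} {t : G} {X W Q : Subgroup G} {E : ι → Subgroup G}
    {np nr m g : ι → F → G} (L : ∀ i, EL σ t (E i) W Q (np i) (nr i) (m i) (g i))
    (tt : t * t = 1) (hne : ∃ x ∈ X, x ≠ 1) (i₀ : ι)
    (hX : ∀ i x, x ∈ X ↔ ∃ a, σ a = a ∧ x = np i a)
    (Qt : ∀ q ∈ Q, t * q = q * t) (Q_comm : ∀ a ∈ Q, ∀ b ∈ Q, a * b * a⁻¹ * b⁻¹ ∈ X)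
    (Q_sq : ∀ q ∈ Q, q * q ∈ X) (Q_cen : ∀ z ∈ Q, (∀ q ∈ Q, z * q = q * z) → z ∈ X)
    (k2 : ∀ c, c * t = t * c → (∀ q ∈ Q, q * c * q⁻¹ * c⁻¹ ∈ X) → c ∈ Q ∨ t * c ∈ Q)
    (Q_gen : Q ≤ Subgroup.closure {q | ∃ i x μ, σ x = x ∧ q = np i x * m i μ}) :
    RData t X W Q (fun i => Evl (E i) W Q) where
  tt := tt
  X_ne := hne
  XQ := fun x hx => by
    obtain ⟨a, ha, rfl⟩ := (hX i₀ x).mp hx
    exact (L i₀).npQ a ha
  Qt := Qt
  Q_comm := Q_comm
  Q_sq := Q_sq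
  Q_cen := Q_cen
  k2 := k2
  W_ab := fun v hv w hw => (L i₀).ab v ((L i₀).WE hv) w ((L i₀).WE hw)
  W_sq := fun w hw => (L i₀).sq w ((L i₀).WE hw)
  W_Q := fun w hw q hq => ((L i₀).q_W hq hw).symm
  W_brk := fun w hw => by
    obtain ⟨x, hx, e⟩ := (L i₀).dW.brk w hw
    exact ⟨_, (hX i₀ _).mpr ⟨x, hx, rfl⟩, e⟩
  W_surj := fun x hx => by
    obtain ⟨a, ha, rfl⟩ := (hX i₀ x).mp hx
    exact (L i₀).dW.surj a ha
  W_cent := fun w hw h => by
    obtain ⟨x, hx, rfl⟩ := (L i₀).dW.cent w hw h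
    exact (hX i₀ _).mpr ⟨x, hx, rfl⟩
  XW := fun x hx => by
    obtain ⟨a, ha, rfl⟩ := (hX i₀ x).mp hx
    exact (L i₀).dW.mem a ha
  A_ab := fun i a ha b hb => (L i).ab a ((L i).Evl_le ha) b ((L i).Evl_le hb)
  A_sq := fun i a ha => by
    rw [(L i).sq a ((L i).Evl_le ha)]
    exact W.one_mem
  A_W := fun i a ha w hw => (L i).ab a ((L i).Evl_le ha) w ((L i).WE hw)
  A_Q := fun i a ha q hq => ((L i).mem_Evl.mp ha).2 q hq
  A_brk := fun i a ha => by
    obtain ⟨x, μ, hx, e⟩ := (L i).brk_Evl ha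
    exact ⟨_, (L i).mem_Q hx, (L i).V_le hx, e⟩
  Q_gen := Q_gen.trans (Subgroup.closure_mono (by
    rintro _ ⟨i, x, μ, hx, rfl⟩
    obtain ⟨e, he, h⟩ := (L i).surj_Evl (x := x) (μ := μ) hx
    exact Or.inr ⟨i, e, he, h⟩))

end Cfsg.Agent.OddHalf.D7.Uni.Quad

end

-- merged: Cfsg.Agent.OddHalf.D7.Uni.RvPt
section

/-!
# The input of `Norm` from sections 3 and 4 (helper371, text: bb ODD 10033)

`RData.pt : Norm.Pt`, `RData.gen`, `RData.pair_of : Norm.Pair`.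
-/

set_option autoImplicit false

namespace Cfsg.Agent.OddHalf.D7.Uni.Quad

open Defs

variable {G : Type*} [Group G] {ι : Type*}

namespace RData

variable {t : G} {X W Q : Subgroup G} {A : ι → Subgroup G}

theorem pt (D : RData t X W Q A) : Norm.Pt t X W Q (Rv W Q A) where
  tt := D.tt
  WR := D.W_R
  QR := D.Q_R
  tQ := D.Qt
  Wc := fun w hw r hr => (D.R_W hr w hw).symm
  com := fun r hr s hs => D.R_R hr hs
  sq := fun r hr => D.R_sq hr
  brk := fun r hr => D.brk_R hr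
  onto := fun q hq => D.surj_R hq
  Wt := fun w hw => by
    obtain ⟨x, hx, e⟩ := D.W_brk w hw
    rw [e]
    exact W.mul_mem hw (D.XW hx)
  Wfix := fun w hw h => D.W_cent w hw h
  Winv := fun w hw h => by
    have h1 : w⁻¹ = w := inv_eq_of_mul_eq_one_left (D.W_sq w hw)
    rw [h1] at h
    exact D.W_surj w (D.W_cent w hw (D.comm_iff.mpr h))
  k2 := fun c ht hQ hW => by
    refine D.mem_Q_of (fun w hw => hW w hw) (fun q hq => ?_) ht
    exact swapc (D.XW (hQ q hq))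

theorem gen (D : RData t X W Q A) : Rv W Q A ≤
    Subgroup.closure {e | e ∈ Rv W Q A ∧ ∃ q ∈ Q, t * e * t = e * q ∧ q * e = e * q} := by
  refine Subgroup.closure_mono ?_
  rintro a (⟨i, ha⟩ | ha | ha)
  · obtain ⟨q, hq, hqA, e⟩ := D.A_brk i a ha
    exact ⟨D.A_R i ha, q, hq, e, D.A_ab i q hqA a ha⟩
  · exact ⟨D.Q_R ha, 1, Q.one_mem, by rw [mul_one]; exact D.comm_iff.mp (D.Qt a ha),
      by rw [one_mul, mul_one]⟩
  · obtain ⟨x, hx, e⟩ := D.W_brk a ha
    exact ⟨D.W_R ha, x, D.XQ hx, e, D.W_ab x (D.XW hx) a ha⟩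

variable {F : Type*} [Field F] {σ : F →+* F} {E : Subgroup G} {np nr m g : F → G}

/-- the pair `(v, u)`, `u` on the line `l` through `v` -/
theorem pair_of (D : RData t X W Q A) (L : EL σ t E W Q np nr m g) (hA : Evl E W Q ≤ Rv W Q A)
    {Xu Wu : Subgroup G} (hWu : Wu ≤ E) (hXu : Xu ≤ Wu) (tXu : ∀ z ∈ Xu, t * z = z * t)
    (brk : ∀ w ∈ Wu, ∃ z ∈ Xu, t * w * t = w * z)
    (hQ : ∀ z ∈ Xu, ∀ q ∈ Q, z * q * z⁻¹ ∈ Q)
    (perp : ∀ z ∈ Xu, z ≠ 1 → ∀ q ∈ Q, q⁻¹ * z⁻¹ * q * z ∈ X → ∀ w ∈ Wu, w * q = q * w) :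
    Norm.Pair t X W Q (Rv W Q A) Xu Wu where
  tXu := tXu
  Xu2 := fun z hz => L.sq z (hWu (hXu hz))
  XWu := hXu
  Wuc := fun w hw z hz => L.ab w (hWu hw) z (hWu (hXu hz))
  brk := brk
  WW := fun w hw v hv => L.ab w (hWu hw) v (L.WE hv)
  nQ := fun w hw q hq => by
    have h1 := L.comm_Q (E.inv_mem (hWu hw)) (Q.inv_mem hq)
    have h2 : w⁻¹ * q⁻¹ * w * q ∈ Evl E W Q := by
      -- `[w⁻¹ , q⁻¹]`
      have h3 := (Evl E W Q).inv_mem (L.comm_Q (e := w⁻¹) (q := q⁻¹) (E.inv_mem (hWu hw)) (Q.inv_mem hq))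
      have e : (q⁻¹ * w⁻¹ * (q⁻¹)⁻¹ * (w⁻¹)⁻¹)⁻¹ = w⁻¹ * q⁻¹ * w * q := by group
      rwa [e] at h3
    exact ⟨hA h2, fun w' hw' => L.ab w' (hWu hw') _ (L.Evl_le h2)⟩
  nR := fun z hz r hr => by
    have hzW : ∀ w ∈ W, z * w = w * z := fun w hw => L.ab z (hWu (hXu hz)) w (L.WE hw)
    have hzi : z⁻¹ = z := L.inv_E (hWu (hXu hz))
    refine D.conj_mem D (tXu z hz) ?_ ?_ ?_ ?_ hr
    · intro w hw
      rw [mul_assoc, ← hzW w hw, inv_mul_cancel_left]
      exact hw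
    · intro w hw
      rw [hzW w hw, mul_inv_cancel_right]
      exact hw
    · intro q hq
      have := hQ z⁻¹ (Xu.inv_mem hz) q hq
      rwa [inv_inv] at this
    · intro q hq
      exact hQ z hz q hq
  lift := fun z hz q hq => by
    have hzE := hWu (hXu hz)
    have h2 : q⁻¹ * z⁻¹ * q * z ∈ Evl E W Q := by
      have h3 := L.comm_Q (e := z⁻¹) (q := q⁻¹) (E.inv_mem hzE) (Q.inv_mem hq)
      have e : q⁻¹ * z⁻¹ * (q⁻¹)⁻¹ * (z⁻¹)⁻¹ = q⁻¹ * z⁻¹ * q * z := by group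
      rwa [e] at h3
    have c1 : Commute t z := tXu z hz
    have c2 : Commute t q := D.Qt q hq
    have h3 : t * (q⁻¹ * z⁻¹ * q * z) = (q⁻¹ * z⁻¹ * q * z) * t :=
      (((c2.inv_right.mul_right c1.inv_right).mul_right c2).mul_right c1).eq
    obtain ⟨x, μ, hx, e⟩ := L.cent_Evl h2 h3
    obtain ⟨y, hy, hyt⟩ := L.surj_Evl (x := x) (μ := μ) hx
    refine ⟨y, hA hy, fun w hw => L.ab w (hWu hw) y (L.Evl_le hy), 1, W.one_mem, ?_⟩
    rw [mul_one, e]
    exact hyt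
  perp := perp
  gen := D.gen

end RData

end Cfsg.Agent.OddHalf.D7.Uni.Quad

end

-- merged: Cfsg.Agent.OddHalf.D7.Uni.FaceQ
section

/-!
# The point side over `Face.Dbl` (helper371): `X_p`, `Q_p` in `G`, the fields of `Quad.RData` and `Norm.Pair`

`XP = j(RR p)`, `QP = j(QQ p)`.
-/

set_option autoImplicit false
set_option linter.unusedSectionVars false

namespace Cfsg.Agent.OddHalf.D7.Uni.Face

open Cfsg Cfsg.Agent.LieClassical.HermBasic Cfsg.Agent.LieClassical.HermSiegel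
  Cfsg.Agent.LieClassical.HermGen Cfsg.Agent.LieClassical.SUBasic Matrix
  Cfsg.Agent.ClassicalGeometry.PSUAutBasic Cfsg.Agent.ClassicalGeometry.PSUAutSylow
  Cfsg.Agent.ClassicalGeometry.PSUAutUnip Cfsg.Agent.ClassicalGeometry.PSUAutPhi
  Cfsg.Agent.KFacts.Unit

variable {F : Type*} [Field F] [Fintype F] {q n : ℕ} {G : Type*} [Group G]

/-- `X_p` in `G` -/
def XP (hF : Fintype.card F = q ^ 2) (j : PSU n F q →* G) (p : Fin n → F) (hp : hermForm n F q p p = 0) :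
    Subgroup G := (RR hF p hp).map j

/-- `Q_p` in `G` -/
def QP (hF : Fintype.card F = q ^ 2) (j : PSU n F q →* G) (p : Fin n → F) (hp : hermForm n F q p p = 0) :
    Subgroup G := (QQ hF p hp).map j

section mem

variable [CharP F 2] {hF : Fintype.card F = q ^ 2} {j : PSU n F q →* G} {p : Fin n → F}
  {hp : hermForm n F q p p = 0}

omit [Fintype F] in
theorem fix_iff {μ : F} : μ + μ ^ q = 0 ↔ μ ^ q = μ := by
  rw [CharTwo.add_eq_zero]
  exact eq_comm

theorem mem_XP {x : G} : x ∈ XP hF j p hp ↔ ∃ a, a ^ q = a ∧ x = fj n F q j (Np hF p a) := by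
  constructor
  · rintro ⟨y, hy, rfl⟩
    obtain ⟨μ, hμ, rfl⟩ := mem_RR.1 hy
    refine ⟨μ, fix_iff.1 hμ, ?_⟩
    rw [Np, Sg_eq hF (isSiegel_zero hp hμ)]
    rfl
  · rintro ⟨a, ha, rfl⟩
    refine ⟨_, mem_RR.2 ⟨a, fix_iff.2 ha, rfl⟩, ?_⟩
    rw [Np, Sg_eq hF (isSiegel_zero hp (fix_iff.2 ha))]
    rfl

theorem mem_QP {x : G} : x ∈ QP hF j p hp ↔ ∃ w μ, IsSiegel q p w μ ∧ x = fj n F q j (Sg hF p w μ) := by
  constructor
  · rintro ⟨y, hy, rfl⟩
    obtain ⟨w, μ, h, rfl⟩ := mem_QQ.1 hy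
    exact ⟨w, μ, h, by rw [Sg_eq hF h]; rfl⟩
  · rintro ⟨w, μ, h, rfl⟩
    exact ⟨_, mem_QQ.2 ⟨w, μ, h, rfl⟩, by rw [Sg_eq hF h]; rfl⟩

theorem XP_le_QP : XP hF j p hp ≤ QP hF j p hp := Subgroup.map_mono (RR_le_QQ hF hp)

end mem

section Q

variable [CharP F 2] (hF : Fintype.card F = q ^ 2) {j : PSU n F q →* G} {p : Fin n → F}
  (hp : hermForm n F q p p = 0)

theorem QP_comm {a b : G} (ha : a ∈ QP hF j p hp) (hb : b ∈ QP hF j p hp) :
    a * b * a⁻¹ * b⁻¹ ∈ XP hF j p hp := by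
  obtain ⟨_, ⟨a, ⟨w, μ, h, rfl⟩, rfl⟩, rfl⟩ := ha
  obtain ⟨_, ⟨b, ⟨w', μ', h', rfl⟩, rfl⟩, rfl⟩ := hb
  rw [← map_inv, ← map_inv, ← map_inv, ← map_inv, ← map_mul, ← map_mul, ← map_mul, ← map_mul, ← map_mul,
    ← map_mul, ← commutatorElement_def, Cfsg.Agent.LieClassical.HermSimple.commutator_siegel hF h h']
  refine ⟨_, ⟨_, ⟨_, ?_, rfl⟩, rfl⟩, rfl⟩
  have := (Cfsg.Agent.LieClassical.HermSimple.IsSiegel.comm hF h h').tr
  rwa [herm_zero_left, add_zero] at this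

theorem QP_sq {a : G} (ha : a ∈ QP hF j p hp) : a * a ∈ XP hF j p hp := by
  obtain ⟨_, ⟨a, ⟨w, μ, h, rfl⟩, rfl⟩, rfl⟩ := ha
  rw [← map_mul, ← map_mul, siegel_mul hF h h]
  have hw : w + w = 0 := by
    funext i
    exact CharTwo.add_self_eq_zero _
  have h1 : IsSiegel q p 0 (μ + μ - hermForm n F q w w) := by
    have := h.mul hF h
    rwa [hw] at this
  rw [siegel_congr hF _ h1 rfl hw rfl]
  refine ⟨_, ⟨_, ⟨_, ?_, rfl⟩, rfl⟩, rfl⟩
  have := h1.tr
  rwa [herm_zero_left, add_zero] at this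

variable {t : G}

theorem QP_t (S : Sit n F q t j) {a : G} (ha : a ∈ QP hF j p hp) : t * a = a * t := by
  obtain ⟨a, -, rfl⟩ := ha
  exact S.tj a

theorem XP_ne (S : Sit n F q t j) (hn : 3 ≤ n) (hp0 : p ≠ 0) : ∃ x ∈ XP hF j p hp, x ≠ 1 := by
  refine ⟨_, mem_XP.2 ⟨1, one_pow q, rfl⟩, fun h => ?_⟩
  obtain ⟨f, hff, hpf, hfp⟩ := exists_partner hF hp0 hp
  have h1 := S.eq_one hF hn hp0 (by
    rw [act_Np hF hp (one_pow q), hp, mul_zero, zero_smul, add_zero]) h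
  have h2 := congrArg (fun g => act g f) h1
  simp only [act_one] at h2
  rw [act_Np hF hp (one_pow q), hfp, mul_one, one_smul] at h2
  exact hp0 (add_eq_left.1 h2)

/-- (k1) on `Q` -/
theorem QP_cen (S : Sit n F q t j) (hn : 3 ≤ n) (hp0 : p ≠ 0) {z : G} (hz : z ∈ QP hF j p hp)
    (h : ∀ y ∈ QP hF j p hp, z * y = y * z) : z ∈ XP hF j p hp := by
  obtain ⟨_, ⟨a, ⟨w, μ, hs, rfl⟩, rfl⟩, rfl⟩ := hz
  refine ⟨_, ⟨_, mem_transvG_of_commute hF hp0 hp (act_siegel_self hF hs) ?_, rfl⟩, rfl⟩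
  rintro _ ⟨w', μ', h', rfl⟩
  have h1 := h _ ⟨_, ⟨_, ⟨w', μ', h', rfl⟩, rfl⟩, rfl⟩
  rw [← map_mul, ← map_mul, ← map_mul, ← map_mul] at h1
  have h2 : fj n F q j (siegel hF p w μ hs * siegel hF p w' μ' h' * (siegel hF p w μ hs)⁻¹) =
      fj n F q j (siegel hF p w' μ' h') := by
    rw [map_mul, map_inv, mul_inv_eq_iff_eq_mul, ← map_mul]
    exact h1
  refine S.eq_of hF hn hp0 ?_ h2
  rw [act_mul, act_mul, ← (act_eq_iff _).1 (act_siegel_self hF hs), act_siegel_self hF h',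
    act_siegel_self hF hs]

/-- (k2) -/
theorem QP_k2 (S : Sit n F q t j) (hn : 6 ≤ n) (hp0 : p ≠ 0) {c : G} (hc : c * t = t * c)
    (h : ∀ y ∈ QP hF j p hp, y * c * y⁻¹ * c⁻¹ ∈ XP hF j p hp) :
    c ∈ QP hF j p hp ∨ t * c ∈ QP hF j p hp := by
  obtain ⟨α, hα⟩ := S.exists_aut hc
  -- `α x x⁻¹ ∈ X` for `x ∈ Q`
  have h2 : ∀ x ∈ QQ hF p hp, α x * x⁻¹ ∈ RR hF p hp := by
    intro x hx
    obtain ⟨y, hy, e⟩ := h _ ⟨x, hx, rfl⟩
    have h3 : j (α x * x⁻¹) = j y⁻¹ := by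
      rw [map_mul, map_inv, map_inv, ← hα, e]
      group
    rw [S.inj h3]
    exact (RR hF p hp).inv_mem hy
  have hcen : ∀ x ∈ RR hF p hp, ∀ y ∈ QQ hF p hp, x * y = y * x := fun x hx y hy =>
    (PP_comm_RR hF hp (QQ_le_PP hF hp hy) hx).symm
  have h1 : ∀ x ∈ RR hF p hp, α x = x := by
    intro x hx
    obtain ⟨μ, hμ, rfl⟩ := mem_RR.1 hx
    obtain ⟨e1, e2, he1, he2, he12, h1p, h2p, -, -⟩ := exists_pair_perp hF hn hp0 hp hp hp
    obtain ⟨ν, g, g', e⟩ := transv_eq_commutator hF (s := p) hp hμ he1 he2 he12 h1p h2p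
    rw [e, map_commutatorElement, map_commutatorElement]
    set a := pr n F q (siegel hF p (ν • e1) 0 g) with ha
    set b := pr n F q (siegel hF p e2 0 g') with hb
    have haQ : a ∈ QQ hF p hp := mem_QQ.2 ⟨_, _, g, rfl⟩
    have hbQ : b ∈ QQ hF p hp := mem_QQ.2 ⟨_, _, g', rfl⟩
    obtain ⟨x, hx, ex⟩ : ∃ x ∈ RR hF p hp, α a = x * a := ⟨_, h2 a haQ, by group⟩
    obtain ⟨y, hy, ey⟩ : ∃ y ∈ RR hF p hp, α b = y * b := ⟨_, h2 b hbQ, by group⟩
    have c1 : Commute x a := hcen x hx a haQ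
    have c2 : Commute x b := hcen x hx b hbQ
    have c3 : Commute y a := hcen y hy a haQ
    have c4 : Commute y b := hcen y hy b hbQ
    have c5 : Commute x y := hcen x hx y (RR_le_QQ hF hp hy)
    rw [ex, ey, commutatorElement_def, commutatorElement_def, _root_.mul_inv_rev, _root_.mul_inv_rev]
    calc x * a * (y * b) * (a⁻¹ * x⁻¹) * (b⁻¹ * y⁻¹)
        = x * (a * y) * b * a⁻¹ * (x⁻¹ * b⁻¹) * y⁻¹ := by group
      _ = x * (y * a) * b * a⁻¹ * (b⁻¹ * x⁻¹) * y⁻¹ := by rw [c3.eq, c2.inv_inv.eq]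
      _ = x * (y * (a * b * a⁻¹ * b⁻¹)) * x⁻¹ * y⁻¹ := by group
      _ = x * ((a * b * a⁻¹ * b⁻¹) * y) * x⁻¹ * y⁻¹ := by
          rw [(((c3.mul_right c4).mul_right c3.inv_right).mul_right c4.inv_right).eq]
      _ = (x * (a * b * a⁻¹ * b⁻¹)) * (y * x⁻¹) * y⁻¹ := by group
      _ = ((a * b * a⁻¹ * b⁻¹) * x) * (x⁻¹ * y) * y⁻¹ := by
          rw [(((c1.mul_right c2).mul_right c1.inv_right).mul_right c2.inv_right).eq,
            c5.symm.inv_right.eq]
      _ = a * b * a⁻¹ * b⁻¹ := by group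
  obtain ⟨s, hs, rfl⟩ := autCent_mod hF (by omega) hp0 hp α h1 h2
  rcases S.eq_or hc hα with h3 | h3
  · left
    rw [h3]
    exact ⟨_, ⟨s, hs, rfl⟩, rfl⟩
  · right
    rw [h3, ← mul_assoc, S.tt, one_mul]
    exact ⟨_, ⟨s, hs, rfl⟩, rfl⟩

/-- every Siegel element at `p` is a product of Siegel elements of the lines through `p` -/
theorem QP_gen_aux (hn : 6 ≤ n) {p' : Fin n → F} (H : Hyp q p p') (B : Subgroup G)
    (hX : ∀ a, a ^ q = a → fj n F q j (Np hF p a) ∈ B)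
    (hM : ∀ r r', P2 q p p' r r' → fj n F q j (Mm hF p r 1) ∈ B) : QP hF j p hp ≤ B := by
  have hS : ∀ w μ ν, IsSiegel q p w μ → IsSiegel q p w ν → fj n F q j (Sg hF p w μ) ∈ B →
      fj n F q j (Sg hF p w ν) ∈ B := by
    intro w μ ν h h' hB
    have h1 : (ν + μ) ^ q = ν + μ := by
      rw [← fix_iff]
      have e1 := h.tr
      have e2 := h'.tr
      have e3 : hermForm n F q w w + hermForm n F q w w = 0 := CharTwo.add_self_eq_zero _
      rw [add_pow_q hF]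
      linear_combination e1 + e2 - e3
    have h2 : Sg hF p w ν = Np hF p (ν + μ) * Sg hF p w μ := by
      have h3 := isS_np hp h1
      rw [Np, Sg_eq hF h, Sg_eq hF h', Sg_eq hF h3, siegel_mul hF h3 h]
      apply siegel_congr hF _ _ rfl (zero_add w).symm
      rw [herm_zero_right hF, sub_zero, add_assoc, CharTwo.add_self_eq_zero, add_zero]
    rw [h2, map_mul]
    exact B.mul_mem (hX _ h1) hB
  obtain ⟨x, hx, y, hy, Hxy⟩ := exists_pair_NN hF hn H
  have key : ∀ w ∈ NN q p p', ∀ μ, IsSiegel q p w μ → fj n F q j (Sg hF p w μ) ∈ B := by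
    refine iso_induction hF hx hy Hxy.ee Hxy.ff Hxy.ef ?_ ?_
    · intro a b ha hb h1 h2 μ h
      obtain ⟨α, hα⟩ := exists_isSiegel_of_orth hF hp ha.1
      obtain ⟨β, hβ⟩ := exists_isSiegel_of_orth hF hp hb.1
      have h3 := hα.mul hF hβ
      refine hS _ _ _ h3 h ?_
      have h4 : Sg hF p (a + b) (α + β - hermForm n F q b a) = Sg hF p a α * Sg hF p b β := by
        rw [Sg_eq hF hα, Sg_eq hF hβ, Sg_eq hF h3, siegel_mul hF hα hβ]
      rw [h4, map_mul]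
      exact B.mul_mem (h1 α hα) (h2 β hβ)
    · intro s hs hss μ h
      by_cases hs0 : s = 0
      · subst hs0
        refine hX μ ?_
        have := h.tr
        rw [herm_zero_left, add_zero] at this
        exact fix_iff.1 this
      · obtain ⟨s', hs', Hs⟩ := exists_partner_NN hF H hs hs0 hss
        have HP : P2 q p p' s s' :=
          { pp := H.ee
            p'p' := H.ff
            pp' := H.ef
            p'p := H.fe hF
            rr := Hs.ee
            r'r' := Hs.ff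
            rr' := Hs.ef
            r'r := Hs.fe hF
            pr := herm_eq_zero_swap hF hs.1
            rp := hs.1
            pr' := herm_eq_zero_swap hF hs'.1
            r'p := hs'.1
            p'r := herm_eq_zero_swap hF hs.2
            rp' := hs.2
            p'r' := herm_eq_zero_swap hF hs'.2
            r'p' := hs'.2 }
        have h1 := hM s s' HP
        rw [Mm, one_pow, one_smul] at h1
        refine hS _ _ _ ?_ h h1
        have := isS_vec hF hp hs.1 hss 1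
        rwa [one_smul] at this
  intro z hz
  obtain ⟨w, μ, h, rfl⟩ := mem_QP.1 hz
  obtain ⟨a, h', e⟩ := exists_norm_siegel hF H h
  rw [Sg_eq hF h, e, ← Sg_eq hF h']
  exact key _ (NN_prN hF H w) a h'

/-- `g l` lies in `Q_p` -/
theorem Gg_mem {p' r r' : Fin n → F} (H : P2 q p p' r r') (l : F) :
    fj n F q j (Mm hF p r' l) ∈ QP hF j p hp :=
  mem_QP.2 ⟨_, _, isS_vec hF H.pp H.r'p H.r'r' _, rfl⟩

theorem Mm_mem {p' r r' : Fin n → F} (H : P2 q p p' r r') (l : F) :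
    fj n F q j (Mm hF p r l) ∈ QP hF j p hp :=
  mem_QP.2 ⟨_, _, isS_vec hF H.pp H.rp H.rr _, rfl⟩

theorem Np_mem {x : F} (hx : x ^ q = x) : fj n F q j (Np hF p x) ∈ QP hF j p hp :=
  mem_QP.2 ⟨_, _, isS_np hp hx, rfl⟩

/-- an element of `Q_p` is `g l` times a Siegel element at `p` with vector orthogonal to `⟨p, r⟩` -/
theorem QP_line {p' r r' : Fin n → F} (H : P2 q p p' r r') {y : G} (hy : y ∈ QP hF j p hp) :
    ∃ l w μ, IsSiegel q p w μ ∧ hermForm n F q w r = 0 ∧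
      y = fj n F q j (Mm hF p r' l) * fj n F q j (Sg hF p w μ) := by
  obtain ⟨w, μ, h, rfl⟩ := mem_QP.1 hy
  set l : F := (hermForm n F q w r) ^ q with hl
  have hs := isS_vec hF H.pp H.r'p H.r'r' (l ^ q)
  have h1 := (hs.inv hF).mul hF h
  refine ⟨l, _, _, h1, ?_, ?_⟩
  · rw [herm_add_left, herm_neg_left, herm_smul_left, H.r'r, hl, pow_q_pow_q hF, mul_one, neg_add_cancel]
  · rw [← map_mul]
    congr 1
    rw [Mm, Sg_eq hF hs, Sg_eq hF h1, Sg_eq hF h, ← siegel_mul hF (hs.inv hF) h, ← siegel_inv hF hs,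
      mul_inv_cancel_left]

/-- `perp` -/
theorem QP_perp (S : Sit n F q t j) (hn : 3 ≤ n) {p' r r' : Fin n → F} (H : P2 q p p' r r') {z y : G}
    (hz : z ∈ XP hF j r H.rr) (hz1 : z ≠ 1) (hy : y ∈ QP hF j p hp)
    (h : y⁻¹ * z⁻¹ * y * z ∈ XP hF j p hp) : ∃ g : SU n F q, act g r = r ∧ y = fj n F q j g := by
  obtain ⟨w, μ, hs, rfl⟩ := mem_QP.1 hy
  obtain ⟨a, ha, rfl⟩ := mem_XP.1 hz
  obtain ⟨b, hb, e⟩ := mem_XP.1 h
  refine ⟨_, ?_, rfl⟩
  rw [act_Sg hF hs, H.rp, zero_smul, mul_zero, zero_sub, add_zero]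
  -- `z y = y z (Np b)⁻¹`; evaluate at `p'`
  have h1 : fj n F q j (Sg hF p w μ * Np hF r a) = fj n F q j (Np hF r a * Sg hF p w μ * Np hF p b) := by
    rw [map_mul, map_mul, map_mul, ← e]
    group
  have h2 : act (Sg hF p w μ * Np hF r a) p = act (Np hF r a * Sg hF p w μ * Np hF p b) p := by
    simp only [act_mul]
    rw [act_Np hF H.rr ha, H.pr, mul_zero, zero_smul, add_zero, act_Np hF H.pp hb, H.pp, mul_zero, zero_smul,
      add_zero, act_Sg hF hs, H.pp, hs.orth' hF, zero_smul, mul_zero, sub_zero, zero_smul, add_zero, add_zero,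
      act_Np hF H.rr ha, H.pr, mul_zero, zero_smul, add_zero]
  have h3 := S.eq_of hF hn H.p_ne h2 h1
  have h4 := congrArg (fun g => act g p') h3
  simp only [act_mul] at h4
  rw [act_Np hF H.rr ha, H.p'r, mul_zero, zero_smul, add_zero, act_Np hF H.pp hb, H.p'p, mul_one,
    act_Sg hF hs, H.p'p, one_smul, mul_one, act_add, act_smul, act_Sg hF hs, act_Sg hF hs, H.p'p, H.pp,
    hs.orth' hF, one_smul, mul_one, zero_smul, mul_zero, sub_zero, zero_smul, add_zero, add_zero,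
    act_Np hF H.rr ha] at h4
  -- pair with `p`-dual and `r'`
  have h5 := congrArg (fun v => hermForm n F q v r') h4
  simp only [herm_add_left, herm_smul_left, H.pr', H.p'r', H.rr', H.pr, H.p'r, mul_zero, add_zero, zero_add,
    mul_one] at h5
  have h6 : a * hermForm n F q w r = 0 := by
    have h7 : hermForm n F q w r' = hermForm n F q w r' + a * hermForm n F q w r := h5
    exact (add_eq_left.1 h7.symm)
  have ha0 : a ≠ 0 := by
    rintro rfl
    apply hz1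
    rw [Np, Sg_eq hF (IsSiegel.zero hF H.rr), siegel_zero, map_one]
  have h7 := (mul_eq_zero.1 h6).resolve_left ha0
  rw [herm_eq_zero_swap hF h7, neg_zero, zero_smul, add_zero]

end Q

end Cfsg.Agent.OddHalf.D7.Uni.Face

end

-- merged: Cfsg.Agent.OddHalf.D7.Uni.FacePt
section

/-!
# `R_p` over `Face.Dbl` (helper371)

`RP hF j W p`: the double of `Q_p`. Input: `Cm` = all `W s` of a t.i. line commute and are elementary abelian.
Output: `rdata : Quad.RData`, `pt : Norm.Pt`, `pair : Norm.Pair` (for every `P2 q p p' r r'`), `RP_conj`.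
-/

set_option autoImplicit false
set_option linter.unusedSectionVars false

namespace Cfsg.Agent.OddHalf.D7.Uni.Face

open Cfsg Cfsg.Agent.LieClassical.HermBasic Cfsg.Agent.LieClassical.HermSiegel
  Cfsg.Agent.LieClassical.HermGen Cfsg.Agent.LieClassical.SUBasic Matrix
  Cfsg.Agent.ClassicalGeometry.PSUAutBasic Cfsg.Agent.ClassicalGeometry.PSUAutSylow
  Cfsg.Agent.ClassicalGeometry.PSUAutUnip Cfsg.Agent.ClassicalGeometry.PSUAutPhi
  Cfsg.Agent.KFacts.Unit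

variable {F : Type*} [Field F] [Fintype F] {q n : ℕ} {G : Type*} [Group G]

/-- the frames of the t.i. lines through `p` -/
abbrev Fr (q : ℕ) (p : Fin n → F) : Type _ :=
  {x : (Fin n → F) × (Fin n → F) × (Fin n → F) // P2 q p x.1 x.2.1 x.2.2}

/-- `E_l` for `l = ⟨p, r⟩` -/
noncomputable def EP (hF : Fintype.card F = q ^ 2) (j : PSU n F q →* G) (W : (Fin n → F) → Subgroup G)
    (p r r' : Fin n → F) : Subgroup G :=
  Subgroup.closure (LineGrp.gens (W p) (W r) (fun μ => fj n F q j (Mm hF p r μ))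
    (fun l => fj n F q j (Mm hF p r' l)))

/-- `E_{p,l}` -/
noncomputable def AP (hF : Fintype.card F = q ^ 2) (j : PSU n F q →* G) (W : (Fin n → F) → Subgroup G)
    (p : Fin n → F) (hp : hermForm n F q p p = 0) (i : Fr q p) : Subgroup G :=
  Quad.Evl (EP hF j W p i.1.2.1 i.1.2.2) (W p) (QP hF j p hp)

/-- `R_p` -/
noncomputable def RP (hF : Fintype.card F = q ^ 2) (j : PSU n F q →* G) (W : (Fin n → F) → Subgroup G)
    (p : Fin n → F) (hp : hermForm n F q p p = 0) : Subgroup G :=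
  Quad.Rv (W p) (QP hF j p hp) (AP hF j W p hp)

/-- all the `W s`, `s` on a t.i. line, commute and are elementary abelian -/
structure Cm (hF : Fintype.card F = q ^ 2) (j : PSU n F q →* G) (W : (Fin n → F) → Subgroup G) : Prop where
  comm : ∀ {p p' r r' : Fin n → F}, P2 q p p' r r' →
    LineGrp.Comm (W p) (W r) (fun l => fj n F q j (Mm hF p r' l))
  sq : ∀ {u : Fin n → F}, u ≠ 0 → hermForm n F q u u = 0 → ∀ w ∈ W u, w * w = 1

variable {t : G} {j : PSU n F q →* G} {W : (Fin n → F) → Subgroup G} {hF : Fintype.card F = q ^ 2}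

/-- `Cm` holds (`FaceComm`) -/
theorem Dbl.cm [CharP F 2] (D : Dbl hF t j W) (hn : 6 ≤ n) : Cm hF j W where
  comm := fun H => D.comm (by omega) (D.pr hn) H
  sq := fun hu0 hu _ hw => D.elem (by omega) (D.pr hn) hu0 hu hw

/-- `Quad.EL` of the line `⟨p, r⟩` -/
theorem el [CharP F 2] (D : Dbl hF t j W) (C : Cm hF j W) (hn : 4 ≤ n) {p p' r r' : Fin n → F}
    (H : P2 q p p' r r') :
    Quad.EL (sig hF) t (EP hF j W p r r') (W p) (QP hF j p H.pp) (fun x => fj n F q j (Np hF p x))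
      (fun y => fj n F q j (Np hF r y)) (fun μ => fj n F q j (Mm hF p r μ))
      (fun l => fj n F q j (Mm hF p r' l)) := by
  refine Quad.EL.of_line (D.line hn H) (C.comm H) (C.sq H.p_ne H.pp) (C.sq H.r_ne H.rr)
    (fun l => Gg_mem hF H.pp H l) (fun x hx => Np_mem hF H.pp hx) (fun x => Mm_mem hF H.pp H x) ?_
  intro y hy
  obtain ⟨l, w, μ, h, hwr, rfl⟩ := QP_line hF H.pp H hy
  refine ⟨l, _, mem_OE.2 ⟨_, ?_, ?_, rfl⟩, rfl⟩
  · rw [Sg_eq hF h]
    exact act_siegel_self hF h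
  · rw [Sg_eq hF h]
    exact act_siegel_of_orth hF h H.rp (herm_eq_zero_swap hF hwr)

theorem exists_P2' (hF : Fintype.card F = q ^ 2) (hn : 6 ≤ n) {p : Fin n → F} (hp0 : p ≠ 0)
    (hp : hermForm n F q p p = 0) [CharP F 2] : ∃ p' r r' : Fin n → F, Hyp q p p' ∧ P2 q p p' r r' := by
  obtain ⟨p', h1, h2, -⟩ := exists_partner hF hp0 hp
  have H : Hyp q p p' := ⟨hp, h1, h2⟩
  obtain ⟨r, hr, r', hr', Hs⟩ := exists_pair_NN hF hn H
  exact ⟨p', r, r', H,
    { pp := H.ee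
      p'p' := H.ff
      pp' := H.ef
      p'p := H.fe hF
      rr := Hs.ee
      r'r' := Hs.ff
      rr' := Hs.ef
      r'r := Hs.fe hF
      pr := herm_eq_zero_swap hF hr.1
      rp := hr.1
      pr' := herm_eq_zero_swap hF hr'.1
      r'p := hr'.1
      p'r := herm_eq_zero_swap hF hr.2
      rp' := hr.2
      p'r' := herm_eq_zero_swap hF hr'.2
      r'p' := hr'.2 }⟩

/-- **`Quad.RData` at the point `p`.** -/
theorem rdata [CharP F 2] (D : Dbl hF t j W) (C : Cm hF j W) (hn : 6 ≤ n) {p : Fin n → F} (hp0 : p ≠ 0)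
    (hp : hermForm n F q p p = 0) :
    Quad.RData t (XP hF j p hp) (W p) (QP hF j p hp) (AP hF j W p hp) := by
  obtain ⟨p', r, r', Hp, H⟩ := exists_P2' hF hn hp0 hp
  refine Quad.RData.of_lines (σ := sig hF) (E := fun i : Fr q p => EP hF j W p i.1.2.1 i.1.2.2)
    (np := fun _ x => fj n F q j (Np hF p x)) (nr := fun i y => fj n F q j (Np hF i.1.2.1 y))
    (m := fun i μ => fj n F q j (Mm hF p i.1.2.1 μ)) (g := fun i l => fj n F q j (Mm hF p i.1.2.2 l))
    (fun i => el D C (by omega) i.2) D.tt (XP_ne hF hp D.toSit (by omega) hp0) ⟨(p', r, r'), H⟩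
    (fun i x => mem_XP) (fun y hy => QP_t hF hp D.toSit hy) (fun a ha b hb => QP_comm hF hp ha hb)
    (fun a ha => QP_sq hF hp ha) (fun z hz h => QP_cen hF hp D.toSit (by omega) hp0 hz h)
    (fun c hc h => QP_k2 hF hp D.toSit hn hp0 hc h) ?_
  refine QP_gen_aux hF hp hn Hp _ (fun a ha => ?_) (fun s s' Hs => ?_)
  · refine Subgroup.subset_closure ⟨⟨(p', r, r'), H⟩, a, 0, ha, ?_⟩
    rw [Quad.Coord.m_zero (coord D.toSit hF (by omega) H), mul_one]
  · refine Subgroup.subset_closure ⟨⟨(p', s, s'), Hs⟩, 0, 1, map_zero _, ?_⟩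
    rw [Quad.Coord.np_zero (coord D.toSit hF (by omega) Hs), one_mul]

/-- **`Norm.Pt` at the point `p`.** -/
theorem pt [CharP F 2] (D : Dbl hF t j W) (C : Cm hF j W) (hn : 6 ≤ n) {p : Fin n → F} (hp0 : p ≠ 0)
    (hp : hermForm n F q p p = 0) :
    Norm.Pt t (XP hF j p hp) (W p) (QP hF j p hp) (RP hF j W p hp) := (rdata D C hn hp0 hp).pt

theorem XP_conj [CharP F 2] {p p₁ : Fin n → F} (hp : hermForm n F q p p = 0) (hp₁ : hermForm n F q p₁ p₁ = 0)
    {g : SU n F q} (hg : act g p = p₁) {x : G} (hx : x ∈ XP hF j p hp) :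
    fj n F q j g * x * (fj n F q j g)⁻¹ ∈ XP hF j p₁ hp₁ := by
  obtain ⟨a, ha, rfl⟩ := mem_XP.1 hx
  refine mem_XP.2 ⟨a, ha, ?_⟩
  rw [← map_inv, ← map_mul, ← map_mul, Np, conj_Sg hF (isS_np hp ha), hg, act_zero, Np]

theorem QP_conj [CharP F 2] {p p₁ : Fin n → F} (hp : hermForm n F q p p = 0) (hp₁ : hermForm n F q p₁ p₁ = 0)
    {g : SU n F q} (hg : act g p = p₁) {x : G} (hx : x ∈ QP hF j p hp) :
    fj n F q j g * x * (fj n F q j g)⁻¹ ∈ QP hF j p₁ hp₁ := by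
  obtain ⟨w, μ, h, rfl⟩ := mem_QP.1 hx
  have h1 := h.map g
  rw [hg] at h1
  refine mem_QP.2 ⟨act g w, μ, h1, ?_⟩
  rw [← map_inv, ← map_mul, ← map_mul, conj_Sg hF h, hg]

theorem QP_smul [CharP F 2] {p : Fin n → F} (hp : hermForm n F q p p = 0) {c : F} (hc : c ≠ 0)
    (hcp : hermForm n F q (c • p) (c • p) = 0) : QP hF j (c • p) hcp = QP hF j p hp := by
  have key : ∀ (c : F) (p : Fin n → F) (hp : hermForm n F q p p = 0)
      (hcp : hermForm n F q (c • p) (c • p) = 0), QP hF j (c • p) hcp ≤ QP hF j p hp := by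
    intro c p hp hcp x hx
    obtain ⟨w, μ, h, rfl⟩ := mem_QP.1 hx
    by_cases hc : c = 0
    · subst hc
      have : Sg hF ((0 : F) • p) w μ = Sg hF p 0 0 := by
        rw [Sg_eq hF h, Sg_eq hF (IsSiegel.zero hF hp), siegel_zero]
        apply ext_act
        intro v
        rw [act_siegel, act_one, zero_smul, herm_zero_right hF, zero_smul, smul_zero, add_zero, add_zero]
      rw [this]
      exact mem_QP.2 ⟨_, _, IsSiegel.zero hF hp, rfl⟩
    · have h' : IsSiegel q p w μ :=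
        ⟨hp, by
          have := h.orth
          rw [herm_smul_right] at this
          exact (mul_eq_zero.1 this).resolve_left (pow_ne_zero _ hc), h.tr⟩
      refine mem_QP.2 ⟨_, _, h'.smul' hF (c := c), ?_⟩
      rw [Sg_eq hF h, Sg_eq hF (h'.smul' hF), ← siegel_smul hF h']
  apply le_antisymm (key c p hp hcp)
  have h1 : c⁻¹ • (c • p) = p := by rw [smul_smul, inv_mul_cancel₀ hc, one_smul]
  have h2 := key c⁻¹ (c • p) hcp (by rw [h1]; exact hp)
  simp only [h1] at h2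
  exact h2

/-- `g R_p g⁻¹ ≤ R_{g p}` -/
theorem RP_conj [CharP F 2] (D : Dbl hF t j W) (C : Cm hF j W) (hn : 6 ≤ n) {p p₁ : Fin n → F} (hp0 : p ≠ 0)
    (hp : hermForm n F q p p = 0) (hp₁ : hermForm n F q p₁ p₁ = 0) {g : SU n F q} (hg : act g p = p₁)
    {x : G} (hx : x ∈ RP hF j W p hp) :
    fj n F q j g * x * (fj n F q j g)⁻¹ ∈ RP hF j W p₁ hp₁ := by
  have hp₁0 : p₁ ≠ 0 := by
    rintro rfl
    apply hp0
    have h1 := congrArg (act g⁻¹) hg
    rwa [act_inv_act, act_zero] at h1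
  have hg' : act g⁻¹ p₁ = p := by rw [← hg, act_inv_act]
  refine (rdata D C hn hp0 hp).conj_mem (rdata D C hn hp₁0 hp₁) (D.tj _) ?_ ?_ ?_ ?_ hx
  · intro w hw
    have h1 := D.conj hp₁0 hp₁ g⁻¹ w hw
    rwa [hg', map_inv, inv_inv] at h1
  · intro w hw
    have h1 := D.conj hp0 hp g w hw
    rwa [hg] at h1
  · intro y hy
    have h1 := QP_conj (hF := hF) (j := j) hp₁ hp hg' hy
    rwa [map_inv, inv_inv] at h1
  · intro y hy
    exact QP_conj hp hp₁ hg hy

/-- `R_p` depends only on the point -/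
theorem RP_smul [CharP F 2] (D : Dbl hF t j W) (C : Cm hF j W) (hn : 6 ≤ n) {p : Fin n → F} (hp0 : p ≠ 0)
    (hp : hermForm n F q p p = 0) {c : F} (hc : c ≠ 0) (hcp : hermForm n F q (c • p) (c • p) = 0) :
    RP hF j W (c • p) hcp = RP hF j W p hp := by
  have hcp0 : c • p ≠ 0 := smul_ne_zero hc hp0
  ext x
  rw [RP, RP, (rdata D C hn hcp0 hcp).mem_iff, (rdata D C hn hp0 hp).mem_iff, D.smul hp0 hp hc, QP_smul hp hc hcp]

/-- **`Norm.Pair` for the pair `(p, r)`.** -/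
theorem pair [CharP F 2] (D : Dbl hF t j W) (C : Cm hF j W) (hn : 6 ≤ n) {p p' r r' : Fin n → F}
    (H : P2 q p p' r r') :
    Norm.Pair t (XP hF j p H.pp) (W p) (QP hF j p H.pp) (RP hF j W p H.pp) (XP hF j r H.rr) (W r) := by
  have L := el D C (by omega) H
  refine (rdata D C hn H.p_ne H.pp).pair_of L ?_ ?_ ?_ ?_ ?_ ?_ ?_
  · exact (rdata D C hn H.p_ne H.pp).A_R ⟨(p', r, r'), H⟩
  · intro w hw
    refine Subgroup.subset_closure (Or.inr (Or.inl ⟨0, w, hw, ?_⟩))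
    have h0 := Quad.Coord.g_zero L.toCoord
    simp only at h0 ⊢
    rw [h0]
    group
  · exact D.X_le H.r_ne H.rr
  · rintro _ ⟨z, -, rfl⟩
    exact D.tj z
  · intro w hw
    obtain ⟨x, hx, e⟩ := D.brk H.r_ne H.rr w hw
    exact ⟨_, ⟨x, hx, rfl⟩, e⟩
  · intro z hz y hy
    obtain ⟨a, ha, rfl⟩ := mem_XP.1 hz
    exact QP_conj H.pp H.pp (Np_r hF H ha) hy
  · intro z hz hz1 y hy h w hw
    obtain ⟨g, hg, rfl⟩ := QP_perp hF H.pp D.toSit (by omega) H hz hz1 hy h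
    exact D.cent H.r_ne H.rr w hw g hg

/-- **`W_r` normalises `R_p`.** -/
theorem W_norm [CharP F 2] (D : Dbl hF t j W) (C : Cm hF j W) (hn : 6 ≤ n) {p p' r r' : Fin n → F}
    (H : P2 q p p' r r') {w x : G} (hw : w ∈ W r) (hx : x ∈ RP hF j W p H.pp) :
    w * x * w⁻¹ ∈ RP hF j W p H.pp :=
  (pair D C hn H).conj_mem (pt D C hn H.p_ne H.pp) hw hx

end Cfsg.Agent.OddHalf.D7.Uni.Face

end

-- merged: Cfsg.Agent.OddHalf.D7.Uni.FaceRF
section

/-!
# `FaceR.RF` from `Face.Dbl` (helper371)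

`Rt hF j W u = R_u` for every isotropic `u`. `rf : FaceR.RF hF t j W (Rt hF j W)`.
-/

set_option autoImplicit false
set_option linter.unusedSectionVars false

namespace Cfsg.Agent.OddHalf.D7.Uni.Face

open Cfsg Cfsg.Agent.LieClassical.HermBasic Cfsg.Agent.LieClassical.HermSiegel
  Cfsg.Agent.LieClassical.HermGen Cfsg.Agent.LieClassical.SUBasic Matrix
  Cfsg.Agent.ClassicalGeometry.PSUAutBasic Cfsg.Agent.ClassicalGeometry.PSUAutSylow
  Cfsg.Agent.ClassicalGeometry.PSUAutUnip Cfsg.Agent.ClassicalGeometry.PSUAutPhi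
  Cfsg.Agent.KFacts.Unit

variable {F : Type*} [Field F] [Fintype F] {q n : ℕ} {G : Type*} [Group G]

open Classical in
/-- `R_u` as a total function -/
noncomputable def Rt (hF : Fintype.card F = q ^ 2) (j : PSU n F q →* G) (W : (Fin n → F) → Subgroup G)
    (u : Fin n → F) : Subgroup G :=
  if h : hermForm n F q u u = 0 then RP hF j W u h else ⊥

theorem Rt_eq (hF : Fintype.card F = q ^ 2) (j : PSU n F q →* G) (W : (Fin n → F) → Subgroup G)
    {u : Fin n → F} (h : hermForm n F q u u = 0) : Rt hF j W u = RP hF j W u h := dif_pos h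

variable {t : G} {j : PSU n F q →* G} {W : (Fin n → F) → Subgroup G} {hF : Fintype.card F = q ^ 2}

theorem Np_W [CharP F 2] (D : Dbl hF t j W) {p : Fin n → F} (hp0 : p ≠ 0) (hp : hermForm n F q p p = 0) {x : F}
    (hx : x ^ q = x) : fj n F q j (Np hF p x) ∈ W p :=
  D.X_le hp0 hp (mem_XP.2 ⟨x, hx, rfl⟩)

/-- `E_l ≤ ⟨W s : s ∈ l⟩` -/
theorem EP_le [CharP F 2] (D : Dbl hF t j W) (hn : 6 ≤ n) {p p' r r' : Fin n → F} (H : P2 q p p' r r') :
    EP hF j W p r r' ≤ Subgroup.closure {w | ∃ a b : F, a • p + b • r ≠ 0 ∧ w ∈ W (a • p + b • r)} := by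
  have L := el D (D.cm hn) (by omega) H
  set B := Subgroup.closure {w | ∃ a b : F, a • p + b • r ≠ 0 ∧ w ∈ W (a • p + b • r)} with hB
  have hp : W p ≤ B := fun w hw => by
    refine Subgroup.subset_closure ⟨1, 0, ?_, ?_⟩
    · rw [one_smul, zero_smul, add_zero]; exact H.p_ne
    · rw [one_smul, zero_smul, add_zero]; exact hw
  have hr : ∀ l, ∀ u ∈ W r, fj n F q j (Mm hF p r' l) * u * (fj n F q j (Mm hF p r' l))⁻¹ ∈ B := by
    intro l u hu
    have h1 := D.conj H.r_ne H.rr (Mm hF p r' l) u hu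
    rw [Gg_r hF H] at h1
    refine Subgroup.subset_closure ⟨l, 1, ?_, ?_⟩
    · intro h
      have h2 := congrArg (fun v => hermForm n F q v r') h
      simp only [herm_add_left, herm_smul_left, H.pr', H.rr', herm_zero_left, one_smul, mul_zero, zero_add] at h2
      exact one_ne_zero h2
    · rw [one_smul, add_comm]; exact h1
  rw [EP, Subgroup.closure_le]
  rintro x (hx | ⟨l, u, hu, rfl⟩ | ⟨μ, rfl⟩)
  · exact hp hx
  · exact hr l u hu
  · -- `m μ` is a product of elements of `W p`, `W (r + μ p)`, `W r`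
    have h1 : (1 : F) ^ q = 1 := one_pow q
    have e := L.g_nr μ 1 h1
    have hX : fj n F q j (Np hF r 1) ∈ W r := Np_W D H.r_ne H.rr h1
    have h2 := hr μ _ hX
    have h3 := hr 0 _ hX
    have h0 : fj n F q j (Mm hF p r' 0) = 1 := Quad.Coord.g_zero L.toCoord
    rw [h0, one_mul, inv_one, mul_one] at h3
    have h4 : fj n F q j (Np hF p (μ * sig hF μ * 1)) ∈ B := by
      refine hp (Np_W D H.p_ne H.pp ?_)
      rw [sig_apply, mul_one, mul_pow, pow_q_pow_q hF, mul_comm]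
    rw [mul_one] at e
    have e2 : fj n F q j (Mm hF p r μ) = (fj n F q j (Np hF r 1))⁻¹ *
        (fj n F q j (Mm hF p r' μ) * fj n F q j (Np hF r 1) * (fj n F q j (Mm hF p r' μ))⁻¹) *
        (fj n F q j (Np hF p (μ * sig hF μ * 1)))⁻¹ := by
      rw [e]; group
    change fj n F q j (Mm hF p r μ) ∈ B
    rw [e2]
    exact B.mul_mem (B.mul_mem (B.inv_mem h3) h2) (B.inv_mem h4)

/-- elements of `R_v` above `S(v; x, 0)` -/
theorem lift_R [CharP F 2] (D : Dbl hF t j W) (hn : 6 ≤ n) {p p' r r' : Fin n → F} (H : P2 q p p' r r') :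
    ∃ e ∈ RP hF j W p H.pp,
      e ∈ Subgroup.closure {w | ∃ a b : F, a • p + b • r ≠ 0 ∧ w ∈ W (a • p + b • r)} ∧
      ∃ w ∈ W p, t * e * t = e * (fj n F q j (Sg hF p r 0) * w) := by
  have L := el D (D.cm hn) (by omega) H
  obtain ⟨e, he, h⟩ := L.surj_Evl (x := 0) (μ := 1) (map_zero _)
  refine ⟨e, (rdata D (D.cm hn) hn H.p_ne H.pp).A_R ⟨(p', r, r'), H⟩ he, EP_le D hn H (L.Evl_le he), 1,
    one_mem _, ?_⟩
  have h0 : fj n F q j (Np hF p 0) = 1 := Quad.Coord.np_zero L.toCoord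
  have h1 : Mm hF p r 1 = Sg hF p r 0 := by rw [Mm, one_pow, one_smul]
  simp only [h0, h1, one_mul] at h
  rw [mul_one]
  exact h

/-- **The growth of `Q_v` at every isotropic point.** -/
theorem rf [CharP F 2] (D : Dbl hF t j W) (hn : 6 ≤ n) : FaceR.RF hF t j W (Rt hF j W) where
  toDbl := D
  Wsq := fun hu0 hu => (D.cm hn).sq hu0 hu
  pt := fun hu0 hu => by
    rw [Rt_eq hF j W hu]
    exact pt D (D.cm hn) hn hu0 hu
  conjR := fun {u} hu0 hu g x hx => by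
    have hu' : hermForm n F q (act g u) (act g u) = 0 := by rw [herm_act, hu]
    rw [Rt_eq hF j W hu] at hx
    rw [Rt_eq hF j W hu']
    exact RP_conj D (D.cm hn) hn hu0 hu hu' rfl hx
  norm' := fun {u v} hu0 hu hv0 hv huv w hw x hx => by
    rw [Rt_eq hF j W hv] at hx ⊢
    by_cases h : ∃ c : F, u = c • v
    · obtain ⟨c, rfl⟩ := h
      have hc : c ≠ 0 := by
        rintro rfl
        exact hu0 (zero_smul _ _)
      rw [D.smul hv0 hv hc] at hw
      have h1 := (rdata D (D.cm hn) hn hv0 hv).R_W hx w hw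
      rw [← h1, mul_inv_cancel_right]
      exact hx
    · obtain ⟨v', u', H⟩ := exists_P2_of (q := q) hF hv hu (herm_eq_zero_swap hF huv) (by
        intro a b hab
        have hb : b = 0 := by
          by_contra hb
          apply h
          refine ⟨-(b⁻¹ * a), ?_⟩
          have h2 : b • u = -(a • v) := by
            rw [eq_neg_iff_add_eq_zero, add_comm]
            exact hab
          calc u = b⁻¹ • (b • u) := by rw [smul_smul, inv_mul_cancel₀ hb, one_smul]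
            _ = _ := by rw [h2, smul_neg, smul_smul, neg_smul]
        subst hb
        rw [zero_smul, add_zero] at hab
        exact ⟨(smul_eq_zero.1 hab).resolve_right hv0, rfl⟩)
      exact W_norm D (D.cm hn) hn H hw hx
  lift := fun {v x} hv0 hv hx hxv hne => by
    obtain ⟨v', x', H⟩ := exists_P2_of (q := q) hF hv hx (herm_eq_zero_swap hF hxv) (by
      intro a b hab
      have hb : b = 0 := by
        by_contra hb
        apply hne (-(b⁻¹ * a))
        have h2 : b • x = -(a • v) := by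
          rw [eq_neg_iff_add_eq_zero, add_comm]
          exact hab
        calc x = b⁻¹ • (b • x) := by rw [smul_smul, inv_mul_cancel₀ hb, one_smul]
          _ = _ := by rw [h2, smul_neg, smul_smul, neg_smul]
      subst hb
      rw [zero_smul, add_zero] at hab
      exact ⟨(smul_eq_zero.1 hab).resolve_right hv0, rfl⟩)
    obtain ⟨e, he, h1, h2⟩ := lift_R D hn H
    exact ⟨e, by rw [Rt_eq hF j W hv]; exact he, h1, h2⟩

end Cfsg.Agent.OddHalf.D7.Uni.Face

end
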