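import Mathlib
import Cfsg.Agent.KFacts.Unit.PentExtTwo
import Cfsg.Agent.KFacts.Unit.GLAct
import Cfsg.Agent.OddHalf.D7.Uni.Face

-- merged: Cfsg.Agent.KFacts.Unit.PentExtAll
section

/-!
# Automorphisms of `PP 2 u`, `u` isotropic; composition of semilinear automorphisms; cubes

`ext_point`: `ext_frame` for every isotropic vector. `toAut_mul`: composition. `toAut_cube`: the cube of a linear
automorphism of `PSU n F 2` is inner.
-/

set_option autoImplicit false

namespace Cfsg.Agent.KFacts.Unit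

open Cfsg Matrix Cfsg.Agent.LieClassical.HermBasic Cfsg.Agent.LieClassical.HermSiegel
  Cfsg.Agent.LieClassical.HermGen Cfsg.Agent.LieClassical.SUBasic
  Cfsg.Agent.ClassicalGeometry.PSUAutBasic Cfsg.Agent.ClassicalGeometry.PSUAutSylow
  Cfsg.Agent.ClassicalGeometry.PSUAutUnip Cfsg.Agent.ClassicalGeometry.PSUAutPhi
  Cfsg.Agent.ClassicalGeometry.PSUAutExt Cfsg.Agent.ClassicalGeometry.PSUAutSemi

open Cfsg.Agent.ClassicalGeometry.PSUAutCount (gm semiConj toAut herm_gm act_semiConj herm_semi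
  gm_inv_mulVec gm_mulVec_inv gm_mul)

variable {F : Type*} [Field F] [Fintype F] {q n : ℕ}

/-- Conjugation `PP e ≃ PP (act g e)`. -/
def cPP (g : SU n F q) (e : Fin n → F) :
    ↥(PP q e : Subgroup (PSU n F q)) ≃* ↥(PP q (act g e) : Subgroup (PSU n F q)) where
  toFun x := ⟨pr n F q g * x * (pr n F q g)⁻¹, PP_conj g x.2⟩
  invFun y := ⟨(pr n F q g)⁻¹ * y * pr n F q g, by
    have := PP_conj g⁻¹ y.2
    rw [map_inv, inv_inv, act_inv_act] at this
    exact this⟩
  left_inv x := Subtype.ext (by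
    change (pr n F q g)⁻¹ * (pr n F q g * x * (pr n F q g)⁻¹) * pr n F q g = x
    group)
  right_inv y := Subtype.ext (by
    change pr n F q g * ((pr n F q g)⁻¹ * y * pr n F q g) * (pr n F q g)⁻¹ = y
    group)
  map_mul' x y := Subtype.ext (by
    change pr n F q g * (x * y) * (pr n F q g)⁻¹ =
      pr n F q g * x * (pr n F q g)⁻¹ * (pr n F q g * y * (pr n F q g)⁻¹)
    group)

omit [Fintype F] in
theorem coe_cPP (g : SU n F q) (e : Fin n → F) (x : ↥(PP q e : Subgroup (PSU n F q))) :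
    (cPP g e x : PSU n F q) = pr n F q g * x * (pr n F q g)⁻¹ := rfl

omit [Fintype F] in
theorem coe_cPP_symm (g : SU n F q) (e : Fin n → F) (y : ↥(PP q (act g e) : Subgroup (PSU n F q))) :
    ((cPP g e).symm y : PSU n F q) = (pr n F q g)⁻¹ * y * pr n F q g := rfl

/-- Conjugation of `QQ`. -/
theorem QQ_conj_mem (hF : Fintype.card F = q ^ 2) {e : Fin n → F} (he : hermForm n F q e e = 0) (g : SU n F q)
    (hge : hermForm n F q (act g e) (act g e) = 0) {x : PSU n F q} (hx : x ∈ QQ hF e he) :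
    pr n F q g * x * (pr n F q g)⁻¹ ∈ QQ hF (act g e) hge := by
  obtain ⟨w, μ, h, rfl⟩ := mem_QQ.1 hx
  rw [← map_inv, ← map_mul, ← map_mul, conj_siegel]
  exact mem_QQ.2 ⟨_, _, h.map g, rfl⟩

theorem QQ_conj_mem' (hF : Fintype.card F = q ^ 2) {e : Fin n → F} (he : hermForm n F q e e = 0) (g : SU n F q)
    (hge : hermForm n F q (act g e) (act g e) = 0) {y : PSU n F q} (hy : y ∈ QQ hF (act g e) hge) :
    (pr n F q g)⁻¹ * y * pr n F q g ∈ QQ hF e he := by
  obtain ⟨w, μ, h, rfl⟩ := mem_QQ.1 hy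
  have h1 : (pr n F q g)⁻¹ * pr n F q (siegel hF (act g e) w μ h) * pr n F q g =
      pr n F q (g⁻¹ * siegel hF (act g e) w μ h * g⁻¹⁻¹) := by
    rw [inv_inv, map_mul, map_mul, map_inv]
  rw [h1, conj_siegel]
  have h2 : IsSiegel q e (act g⁻¹ w) μ := by
    have := h.map g⁻¹
    rwa [act_inv_act] at this
  exact mem_QQ.2 ⟨_, _, h2, by rw [siegel_congr hF _ h2 (act_inv_act g e) rfl rfl]⟩

/-- **An automorphism of `PP 2 u` preserving `QQ` is the restriction of an automorphism of `PSU n F 2`.** -/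
theorem ext_point [CharP F 2] (hF : Fintype.card F = 2 ^ 2) (hn : 6 ≤ n) {u : Fin n → F} (hu0 : u ≠ 0)
    (hu : hermForm n F 2 u u = 0) {β : MulAut ↥(PP 2 u : Subgroup (PSU n F 2))} (hβ : PresQ hF hu β) :
    ∃ α : MulAut (PSU n F 2), ∀ x : ↥(PP 2 u : Subgroup (PSU n F 2)), (β x : PSU n F 2) = α x := by
  obtain ⟨e, f, H⟩ := exists_frame (F := F) (q := 2) (n := n) hF (by omega)
  obtain ⟨g, -, hg⟩ := exists_map_iso hF (by omega) le_rfl (mem_coordSub_top e) (mem_coordSub_top u)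
    (frame_ne_zero H) hu0 H.ee hu
  subst hg
  set E := cPP g e with hE
  have hβ' : PresQ hF H.ee ((E.trans β).trans E.symm) := by
    intro x
    change (x : PSU n F 2) ∈ _ ↔ ((E.symm (β (E x)) : ↥(PP 2 e : Subgroup (PSU n F 2))) : PSU n F 2) ∈ _
    have h1 : (x : PSU n F 2) ∈ QQ hF e H.ee ↔ (E x : PSU n F 2) ∈ QQ hF (act g e) hu := by
      constructor
      · intro hx
        exact QQ_conj_mem hF H.ee g hu hx
      · intro hx
        have h2 := QQ_conj_mem' hF H.ee g hu hx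
        rw [hE, coe_cPP] at h2
        have h3 : (pr n F 2 g)⁻¹ * (pr n F 2 g * (x : PSU n F 2) * (pr n F 2 g)⁻¹) * pr n F 2 g = x := by group
        rwa [h3] at h2
    have h4 : ∀ y : ↥(PP 2 (act g e) : Subgroup (PSU n F 2)), (y : PSU n F 2) ∈ QQ hF (act g e) hu ↔
        (E.symm y : PSU n F 2) ∈ QQ hF e H.ee := by
      intro y
      constructor
      · intro hy
        exact QQ_conj_mem' hF H.ee g hu hy
      · intro hy
        have h2 := QQ_conj_mem hF H.ee g hu hy
        rw [hE, coe_cPP_symm] at h2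
        have h3 : pr n F 2 g * ((pr n F 2 g)⁻¹ * (y : PSU n F 2) * pr n F 2 g) * (pr n F 2 g)⁻¹ = y := by group
        rwa [h3] at h2
    rw [h1, hβ, h4]
  obtain ⟨α, hα⟩ := ext_frame hF hn H hβ'
  refine ⟨MulAut.conj (pr n F 2 g) * α * (MulAut.conj (pr n F 2 g))⁻¹, fun y => ?_⟩
  have h1 := hα (E.symm y)
  change ((E.symm (β (E (E.symm y))) : ↥(PP 2 e : Subgroup (PSU n F 2))) : PSU n F 2) = _ at h1
  rw [MulEquiv.apply_symm_apply, hE, coe_cPP_symm, coe_cPP_symm] at h1
  rw [MulAut.mul_apply, MulAut.mul_apply, MulAut.conj_apply, MulAut.conj_inv_apply, ← h1]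
  group

/-- A semilinear isometry is `sg B ρ` for some `B ∈ GU`. -/
theorem exists_sg_of_map (hF : Fintype.card F = q ^ 2) (ρ : F ≃+* F) {g : (Fin n → F) → (Fin n → F)}
    (hgadd : ∀ v w, g (v + w) = g v + g w) (hgsmul : ∀ (c : F) v, g (c • v) = ρ c • g v)
    (hgform : ∀ v w, hermForm n F q (g v) (g w) = ρ (hermForm n F q v w)) :
    ∃ B : GU n F q, ∀ v, sg B ρ v = g v := by
  let L : (Fin n → F) →ₗ[F] (Fin n → F) :=
    { toFun := fun x => g (fun i => ρ.symm (x i))
      map_add' := fun x y => by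
        rw [← hgadd]
        congr 1
        funext i
        exact map_add _ _ _
      map_smul' := fun c x => by
        have h1 : (fun i => ρ.symm ((c • x) i)) = ρ.symm c • fun i => ρ.symm (x i) := by
          funext i
          simp
        rw [h1, hgsmul, RingEquiv.apply_symm_apply, RingHom.id_apply] }
  obtain ⟨A0, hA0, hAm⟩ := Cfsg.Agent.ClassicalGeometry.HermOrtho.exists_GU_of_isometry
    (M := LinearMap.toMatrix' L) hF (fun u v => by
    rw [LinearMap.toMatrix'_mulVec, LinearMap.toMatrix'_mulVec]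
    change hermForm n F q (g _) (g _) = _
    rw [hgform]
    have h1 := Cfsg.Agent.ClassicalGeometry.PSUAutCount.herm_map (q := q) ρ (fun i => ρ.symm (u i))
      (fun i => ρ.symm (v i))
    simp only [RingEquiv.apply_symm_apply] at h1
    exact h1.symm)
  refine ⟨⟨A0, hA0⟩, fun v => ?_⟩
  have h1 : gm (⟨A0, hA0⟩ : GU n F q) = LinearMap.toMatrix' L := hAm
  rw [sg, h1, LinearMap.toMatrix'_mulVec]
  change g (fun i => ρ.symm (ρ (v i))) = g v
  simp only [RingEquiv.symm_apply_apply]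

omit [Fintype F] in
theorem act_semiConj_sg (A : GU n F q) (ρ : F ≃+* F) (y : SU n F q) (v : Fin n → F) :
    act (semiConj A ρ y) (sg A ρ v) = sg A ρ (act y v) := act_semiConj A ρ y v

/-- **Composition.** -/
theorem toAut_mul (hF : Fintype.card F = q ^ 2) (A A' : GU n F q) (ρ ρ' : F ≃+* F) :
    ∃ B : GU n F q, toAut A' ρ' * toAut A ρ = toAut B (ρ.trans ρ') ∧
      ∀ v, sg B (ρ.trans ρ') v = sg A' ρ' (sg A ρ v) := by
  obtain ⟨B, hB⟩ := exists_sg_of_map hF (ρ.trans ρ') (g := fun v => sg A' ρ' (sg A ρ v))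
    (fun v w => by rw [sg_add, sg_add]) (fun c v => by rw [sg_smul, sg_smul]; rfl)
    (fun v w => by rw [herm_sg, herm_sg]; rfl)
  refine ⟨B, ?_, hB⟩
  ext x
  obtain ⟨y, rfl⟩ := pr_surjective x
  rw [MulAut.mul_apply, Cfsg.Agent.ClassicalGeometry.PSUAutMain.toAut_pr',
    Cfsg.Agent.ClassicalGeometry.PSUAutMain.toAut_pr', Cfsg.Agent.ClassicalGeometry.PSUAutMain.toAut_pr']
  congr 1
  apply ext_act
  intro z
  obtain ⟨v, rfl⟩ := exists_sg B (ρ.trans ρ') z
  rw [act_semiConj_sg, hB, hB, act_semiConj_sg, act_semiConj_sg]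

/-- Composition with an inner automorphism. -/
theorem toAut_conj_left (hF : Fintype.card F = q ^ 2) (g : SU n F q) (A : GU n F q) (ρ : F ≃+* F) :
    ∃ B : GU n F q, MulAut.conj (pr n F q g) * toAut A ρ = toAut B ρ ∧ ∀ v, sg B ρ v = act g (sg A ρ v) := by
  obtain ⟨B, hB⟩ := exists_sg_of_map hF ρ (g := fun v => act g (sg A ρ v))
    (fun v w => by rw [sg_add, act_add]) (fun c v => by rw [sg_smul, act_smul])
    (fun v w => by rw [herm_act, herm_sg])
  refine ⟨B, ?_, hB⟩
  ext x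
  obtain ⟨y, rfl⟩ := pr_surjective x
  rw [MulAut.mul_apply, Cfsg.Agent.ClassicalGeometry.PSUAutMain.toAut_pr',
    Cfsg.Agent.ClassicalGeometry.PSUAutMain.toAut_pr', MulAut.conj_apply, ← map_inv, ← map_mul, ← map_mul]
  congr 1
  apply ext_act
  intro z
  obtain ⟨v, rfl⟩ := exists_sg B ρ z
  rw [act_semiConj_sg, hB, hB, act_mul, act_mul, act_inv_act, act_semiConj_sg]

/-- **The cube of a linear automorphism of `PSU n F 2` is inner.** -/
theorem toAut_cube (hF : Fintype.card F = 2 ^ 2) (A : GU n F 2) :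
    ∃ s : SU n F 2, toAut A (RingEquiv.refl F) ^ 3 = MulAut.conj (pr n F 2 s) ∧
      ∀ v, act s v = sg A (RingEquiv.refl F) (sg A (RingEquiv.refl F) (sg A (RingEquiv.refl F) v)) := by
  have hsg : ∀ v, sg A (RingEquiv.refl F) v = gm A *ᵥ v := fun v => rfl
  have hd0 : (gm A).det ≠ 0 := by
    intro h0
    have h1 := congrArg Matrix.det (Cfsg.Agent.ClassicalGeometry.PSUAutCount.gm_mul_inv A)
    rw [det_mul, h0, zero_mul, det_one] at h1
    exact zero_ne_one h1
  have hdet : (gm A * gm A * gm A).det = 1 := by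
    rw [det_mul, det_mul]
    have h1 := FiniteField.pow_card_sub_one_eq_one _ hd0
    rw [hF] at h1
    norm_num at h1
    rw [← h1]; ring
  have hisom : ∀ u v, hermForm n F 2 ((gm A * gm A * gm A) *ᵥ u) ((gm A * gm A * gm A) *ᵥ v) = hermForm n F 2 u v := by
    intro u v
    rw [← mulVec_mulVec, ← mulVec_mulVec, ← mulVec_mulVec, ← mulVec_mulVec, herm_gm, herm_gm, herm_gm]
  set s : SU n F 2 := mkSU (gm A * gm A * gm A) hdet hisom with hs
  have hact : ∀ v, act s v = sg A (RingEquiv.refl F) (sg A (RingEquiv.refl F) (sg A (RingEquiv.refl F) v)) := by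
    intro v
    rw [hsg, hsg, hsg, act_def, hs, mat_mkSU, ← mulVec_mulVec, ← mulVec_mulVec]
  refine ⟨s, ?_, hact⟩
  ext x
  obtain ⟨y, rfl⟩ := pr_surjective x
  rw [pow_succ, pow_succ, pow_one, MulAut.mul_apply, MulAut.mul_apply,
    Cfsg.Agent.ClassicalGeometry.PSUAutMain.toAut_pr',
    Cfsg.Agent.ClassicalGeometry.PSUAutMain.toAut_pr', Cfsg.Agent.ClassicalGeometry.PSUAutMain.toAut_pr',
    MulAut.conj_apply, ← map_inv, ← map_mul, ← map_mul]
  congr 1
  apply ext_act
  intro z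
  obtain ⟨z1, rfl⟩ := exists_sg A (RingEquiv.refl F) z
  obtain ⟨z2, rfl⟩ := exists_sg A (RingEquiv.refl F) z1
  obtain ⟨v, rfl⟩ := exists_sg A (RingEquiv.refl F) z2
  rw [act_semiConj_sg, act_semiConj_sg, act_semiConj_sg, ← hact, ← hact, act_mul, act_mul, act_inv_act]

end Cfsg.Agent.KFacts.Unit

end

-- merged: Cfsg.Agent.OddHalf.D7.Uni.PentagonSemi
section

/-!
# The pentagon in semilinear form (K = U_n(2), odd half D7; helper850; hypotheses as asked for by helper575)

`z p` (`p : F × F` a nonzero vector, `F = F₄`) the transvection of the point `⟨p⟩` of a totally isotropic line.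
If `C(t)` induces exactly the linear maps on the points, there is no `y` with `y t y⁻¹ = t * z s` which acts
semilinearly: walk `t → t z_{e+f} → …` with five elements which all act as the Frobenius.
-/

set_option autoImplicit false

namespace Cfsg.Agent.OddHalf.D7.Uni.PentagonSemi

variable {G : Type*} [Group G] {F : Type*} [Field F]

/-- a linear map sending `(1, 0)` to a given nonzero vector -/
theorem exists_of_ne (s : F × F) (hs : s ≠ 0) : ∃ A : (F × F) ≃ₗ[F] (F × F), A (1, 0) = s := by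
  obtain ⟨a, b⟩ := s
  by_cases ha : a = 0
  · have hb : b ≠ 0 := fun hb => hs (by rw [ha, hb]; rfl)
    refine ⟨{ toFun := fun p => (p.2, b * p.1)
              map_add' := fun p q => by ext <;> simp [mul_add]
              map_smul' := fun c p => by ext <;> simp [mul_left_comm]
              invFun := fun p => (b⁻¹ * p.2, p.1)
              left_inv := fun p => by ext <;> simp [hb]
              right_inv := fun p => by ext <;> simp [hb] }, ?_⟩
    ext <;> simp [ha]
  · refine ⟨{ toFun := fun p => (a * p.1, b * p.1 + p.2)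
              map_add' := fun p q => by ext <;> simp <;> ring
              map_smul' := fun c p => by ext <;> simp <;> ring
              invFun := fun p => (a⁻¹ * p.1, p.2 - b * (a⁻¹ * p.1))
              left_inv := fun p => by ext <;> simp [ha]
              right_inv := fun p => by ext <;> simp [ha] }, ?_⟩
    ext <;> simp

theorem exists_map (s s' : F × F) (hs : s ≠ 0) (hs' : s' ≠ 0) :
    ∃ A : (F × F) ≃ₗ[F] (F × F), A s = s' := by
  obtain ⟨A, hA⟩ := exists_of_ne s hs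
  obtain ⟨B, hB⟩ := exists_of_ne s' hs'
  exact ⟨A.symm.trans B, by simp [← hA, hB]⟩

/-- **Five odd permutations**, semilinear form. -/
theorem pentagon_semi (σ : F →+* F) (hσσ : ∀ x, σ (σ x) = x) (ω : F) (hω : σ ω ≠ ω)
    (t : G) (z : F × F → G)
    (hinj : ∀ p q : F × F, p ≠ 0 → q ≠ 0 → z p = z q → ∃ c : F, q = c • p)
    (hzc : ∀ p q, z p * z q = z q * z p)
    (hprod : z (1, 0) * z (0, 1) * z (1, 1) * z (1, ω) * z (1, σ ω) = 1)
    (lin : ∀ A : (F × F) ≃ₗ[F] (F × F), ∃ k : G, k * t = t * k ∧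
      ∀ p, p ≠ 0 → k * z p * k⁻¹ = z (A p))
    (ct : ∀ k : G, k * t = t * k → (∀ p, p ≠ 0 → ∃ q, q ≠ 0 ∧ k * z p * k⁻¹ = z q) →
      ∃ A : (F × F) ≃ₗ[F] (F × F), ∀ p, p ≠ 0 → k * z p * k⁻¹ = z (A p))
    (y : G) (s : F × F) (hs : s ≠ 0) (hy : y * t * y⁻¹ = t * z s)
    (g : F × F → F × F) (g_add : ∀ p q, g (p + q) = g p + g q) (g_smul : ∀ (c : F) p, g (c • p) = σ c • g p)
    (g_ne : ∀ p, p ≠ 0 → g p ≠ 0)
    (hyz : ∀ p, p ≠ 0 → y * z p * y⁻¹ = z (g p)) : False := by
  classical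
  -- the Frobenius
  set φ : F × F → F × F := fun p => (σ p.1, σ p.2) with hφ
  have φφ : ∀ p, φ (φ p) = p := fun p => by simp [hφ, hσσ]
  have φ_ne : ∀ p, p ≠ 0 → φ p ≠ 0 := fun p hp h => hp (by rw [← φφ p, h]; simp [hφ])
  -- `g` is bijective: `p ↦ g (φ p)` is linear and injective
  have ginj : Function.Injective g := by
    intro p q h
    by_contra hne
    refine g_ne (p - q) (sub_ne_zero.mpr hne) ?_
    have h1 : g (p - q) + g q = g p := by rw [← g_add, sub_add_cancel]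
    rw [h] at h1
    exact add_eq_right.mp h1
  let L : (F × F) →ₗ[F] (F × F) :=
    { toFun := fun p => g (φ p)
      map_add' := fun p q => by
        have : φ (p + q) = φ p + φ q := by simp [hφ]
        show g (φ (p + q)) = _
        rw [this, g_add]
      map_smul' := fun c p => by
        have : φ (c • p) = σ c • φ p := by simp [hφ]
        show g (φ (c • p)) = _
        rw [this, g_smul, hσσ]
        rfl }
  have Linj : Function.Injective L := fun p q h => by
    have h1 : φ p = φ q := ginj h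
    rw [← φφ p, h1, φφ]
  let E : (F × F) ≃ₗ[F] (F × F) := LinearEquiv.ofInjectiveEndo L Linj
  have hE : ∀ p, g p = E (φ p) := fun p => by
    show g p = L (φ p)
    show g p = g (φ (φ p))
    rw [φφ]
  -- `Y p : t ↦ t z_p`, acting as `φ`
  have hY : ∀ q : F × F, q ≠ 0 → ∃ Y : G, Y * t * Y⁻¹ = t * z q ∧ ∀ p, p ≠ 0 → Y * z p * Y⁻¹ = z (φ p) := by
    intro q hq
    obtain ⟨A, hA⟩ := exists_map s q hs hq
    obtain ⟨k, hkt, hk⟩ := lin A
    -- `A ∘ g ∘ B = φ`, `B = φ ∘ (A ∘ E)⁻¹ ∘ φ`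
    let B₀ : (F × F) ≃ₗ[F] (F × F) := (E.trans A).symm
    let B : (F × F) ≃ₗ[F] (F × F) :=
      { toFun := fun p => φ (B₀ (φ p))
        map_add' := fun p q => by
          have h1 : ∀ p q, φ (p + q) = φ p + φ q := fun p q => by simp [hφ]
          show φ (B₀ (φ (p + q))) = _
          rw [h1, map_add, h1]
        map_smul' := fun c p => by
          have h1 : ∀ (c : F) p, φ (c • p) = σ c • φ p := fun c p => by simp [hφ]
          show φ (B₀ (φ (c • p))) = _
          rw [h1, map_smul, h1, hσσ]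
          rfl
        invFun := fun p => φ (B₀.symm (φ p))
        left_inv := fun p => by
          show φ (B₀.symm (φ (φ (B₀ (φ p))))) = p
          rw [φφ, LinearEquiv.symm_apply_apply, φφ]
        right_inv := fun p => by
          show φ (B₀ (φ (φ (B₀.symm (φ p))))) = p
          rw [φφ, LinearEquiv.apply_symm_apply, φφ] }
    obtain ⟨k', hkt', hk'⟩ := lin B
    have hB : ∀ p, A (g (B p)) = φ p := by
      intro p
      rw [hE]
      show A (E (φ (φ (B₀ (φ p))))) = φ p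
      rw [φφ]
      show (E.trans A) (B₀ (φ p)) = φ p
      exact (E.trans A).apply_symm_apply (φ p)
    refine ⟨k * y * k', ?_, fun p hp => ?_⟩
    · have h1 : k' * t * k'⁻¹ = t := by rw [hkt']; group
      have h2 : k * t * k⁻¹ = t := by rw [hkt]; group
      calc k * y * k' * t * (k * y * k')⁻¹ = k * (y * (k' * t * k'⁻¹) * y⁻¹) * k⁻¹ := by group
        _ = (k * t * k⁻¹) * (k * z s * k⁻¹) := by rw [h1, hy]; group
        _ = t * z q := by rw [h2, hk s hs, hA]
    · have hBp : B p ≠ 0 := by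
        intro h; apply hp; rw [← B.symm_apply_apply p, h, map_zero]
      calc k * y * k' * z p * (k * y * k')⁻¹ = k * (y * (k' * z p * k'⁻¹) * y⁻¹) * k⁻¹ := by group
        _ = z (φ p) := by rw [hk' p hp, hyz _ hBp, hk _ (g_ne _ hBp), hB]
  have n10 : ((1, 0) : F × F) ≠ 0 := fun h => one_ne_zero (congrArg Prod.fst h)
  have n01 : ((0, 1) : F × F) ≠ 0 := fun h => one_ne_zero (congrArg Prod.snd h)
  have n1 : ∀ x : F, ((1, x) : F × F) ≠ 0 := fun x h => one_ne_zero (congrArg Prod.fst h)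
  have f10 : φ (1, 0) = (1, 0) := by simp [hφ]
  have f01 : φ (0, 1) = (0, 1) := by simp [hφ]
  have f11 : φ (1, 1) = (1, 1) := by simp [hφ]
  have fω : φ (1, ω) = (1, σ ω) := by simp [hφ]
  have fσ : φ (1, σ ω) = (1, ω) := by simp [hφ, hσσ]
  obtain ⟨Y2, hY2, hz2⟩ := hY _ n10
  obtain ⟨Y3, hY3, hz3⟩ := hY _ n01
  obtain ⟨Y4, hY4, hz4⟩ := hY _ (n1 1)
  obtain ⟨Y0, hY0, hz0⟩ := hY _ (n1 ω)
  obtain ⟨Y1, hY1, hz1⟩ := hY _ (n1 (σ ω))
  have s0 : Y0 * (t * z (1, 0)) * Y0⁻¹ = t * z (1, ω) * z (1, 0) := by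
    calc Y0 * (t * z (1, 0)) * Y0⁻¹ = (Y0 * t * Y0⁻¹) * (Y0 * z (1, 0) * Y0⁻¹) := by group
      _ = _ := by rw [hY0, hz0 _ n10, f10]
  have s3 : Y3 * (t * z (1, ω) * z (1, 0)) * Y3⁻¹ = t * z (0, 1) * z (1, σ ω) * z (1, 0) := by
    calc Y3 * (t * z (1, ω) * z (1, 0)) * Y3⁻¹
        = (Y3 * t * Y3⁻¹) * (Y3 * z (1, ω) * Y3⁻¹) * (Y3 * z (1, 0) * Y3⁻¹) := by group
      _ = _ := by rw [hY3, hz3 _ n10, hz3 _ (n1 ω), f10, fω]
  have s1 : Y1 * (t * z (0, 1) * z (1, σ ω) * z (1, 0)) * Y1⁻¹ =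
      t * z (1, σ ω) * z (0, 1) * z (1, ω) * z (1, 0) := by
    calc Y1 * (t * z (0, 1) * z (1, σ ω) * z (1, 0)) * Y1⁻¹
        = (Y1 * t * Y1⁻¹) * (Y1 * z (0, 1) * Y1⁻¹) * (Y1 * z (1, σ ω) * Y1⁻¹) *
            (Y1 * z (1, 0) * Y1⁻¹) := by group
      _ = _ := by rw [hY1, hz1 _ n10, hz1 _ n01, hz1 _ (n1 _), f10, f01, fσ]
  have s4 : Y4 * (t * z (1, σ ω) * z (0, 1) * z (1, ω) * z (1, 0)) * Y4⁻¹ =
      t * z (1, 1) * z (1, ω) * z (0, 1) * z (1, σ ω) * z (1, 0) := by
    calc Y4 * (t * z (1, σ ω) * z (0, 1) * z (1, ω) * z (1, 0)) * Y4⁻¹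
        = (Y4 * t * Y4⁻¹) * (Y4 * z (1, σ ω) * Y4⁻¹) * (Y4 * z (0, 1) * Y4⁻¹) *
            (Y4 * z (1, ω) * Y4⁻¹) * (Y4 * z (1, 0) * Y4⁻¹) := by group
      _ = _ := by rw [hY4, hz4 _ n10, hz4 _ n01, hz4 _ (n1 _), hz4 _ (n1 _), f10, f01, fσ, fω]
  have e2 : z (1, 1) * z (1, ω) * z (0, 1) * z (1, σ ω) * z (1, 0) = 1 := by
    rw [← hprod]
    calc z (1, 1) * z (1, ω) * z (0, 1) * z (1, σ ω) * z (1, 0)
        = z (1, 1) * z (1, ω) * z (0, 1) * (z (1, σ ω) * z (1, 0)) := by group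
      _ = z (1, 1) * z (1, ω) * (z (0, 1) * z (1, 0)) * z (1, σ ω) := by
        rw [hzc (1, σ ω) (1, 0)]; group
      _ = z (1, 1) * (z (1, ω) * z (1, 0)) * z (0, 1) * z (1, σ ω) := by
        rw [hzc (0, 1) (1, 0)]; group
      _ = (z (1, 1) * z (1, 0)) * z (1, ω) * z (0, 1) * z (1, σ ω) := by
        rw [hzc (1, ω) (1, 0)]; group
      _ = z (1, 0) * z (1, 1) * (z (1, ω) * z (0, 1)) * z (1, σ ω) := by
        rw [hzc (1, 1) (1, 0)]; group
      _ = z (1, 0) * (z (1, 1) * z (0, 1)) * z (1, ω) * z (1, σ ω) := by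
        rw [hzc (1, ω) (0, 1)]; group
      _ = z (1, 0) * z (0, 1) * z (1, 1) * z (1, ω) * z (1, σ ω) := by
        rw [hzc (1, 1) (0, 1)]; group
  obtain ⟨P, hP⟩ : ∃ P : G, P = Y4 * (Y1 * (Y3 * (Y0 * Y2))) := ⟨_, rfl⟩
  have hPt : P * t * P⁻¹ = t := by
    calc P * t * P⁻¹ = Y4 * (Y1 * (Y3 * (Y0 * (Y2 * t * Y2⁻¹) * Y0⁻¹) * Y3⁻¹) * Y1⁻¹) * Y4⁻¹ := by
          rw [hP]; group
      _ = t * (z (1, 1) * z (1, ω) * z (0, 1) * z (1, σ ω) * z (1, 0)) := by
          rw [hY2, s0, s3, s1, s4]; group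
      _ = t := by rw [e2, mul_one]
  have hc : P * t = t * P := by
    calc P * t = (P * t * P⁻¹) * P := by group
      _ = t * P := by rw [hPt]
  have hPz : ∀ p, p ≠ 0 → P * z p * P⁻¹ = z (φ p) := by
    intro p hp
    calc P * z p * P⁻¹ = Y4 * (Y1 * (Y3 * (Y0 * (Y2 * z p * Y2⁻¹) * Y0⁻¹) * Y3⁻¹) * Y1⁻¹) * Y4⁻¹ := by
          rw [hP]; group
      _ = z (φ (φ (φ (φ (φ p))))) := by
          have p1 := φ_ne p hp
          have p2 := φ_ne _ p1
          have p3 := φ_ne _ p2
          have p4 := φ_ne _ p3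
          rw [hz2 _ hp, hz0 _ p1, hz3 _ p2, hz1 _ p3, hz4 _ p4]
      _ = z (φ p) := by rw [φφ, φφ]
  obtain ⟨A, hA⟩ := ct P hc fun p hp => ⟨φ p, φ_ne p hp, hPz p hp⟩
  have hAφ : ∀ p, p ≠ 0 → ∃ c : F, A p = c • φ p := by
    intro p hp
    refine hinj _ _ (φ_ne p hp) (fun h => hp ?_) ((hPz p hp).symm.trans (hA p hp))
    rw [← A.symm_apply_apply p, h, map_zero]
  obtain ⟨a, ha⟩ := hAφ _ n10
  obtain ⟨b, hb⟩ := hAφ _ n01
  obtain ⟨c, hcc⟩ := hAφ _ (n1 1)
  obtain ⟨d, hd⟩ := hAφ _ (n1 ω)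
  have e11 : ((1, 1) : F × F) = (1, 0) + (0, 1) := by ext <;> simp
  have eω : ((1, ω) : F × F) = (1, 0) + ω • (0, 1) := by ext <;> simp
  rw [f10] at ha
  rw [f01] at hb
  rw [f11] at hcc
  rw [fω, eω, map_add, map_smul, ha, hb] at hd
  rw [e11, map_add, ha, hb] at hcc
  have c1 := congrArg Prod.fst hcc
  have c2 := congrArg Prod.snd hcc
  have d1 := congrArg Prod.fst hd
  have d2 := congrArg Prod.snd hd
  simp only [Prod.fst_add, Prod.snd_add, Prod.smul_fst, Prod.smul_snd, smul_eq_mul, mul_zero, mul_one,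
    add_zero, zero_add] at c1 c2 d1 d2
  have ha0 : a ≠ 0 := by
    intro h0
    rw [h0, zero_smul] at ha
    exact n10 ((map_eq_zero_iff A A.injective).mp ha)
  apply hω
  rw [c2, ← c1, ← d1] at d2
  have : a * σ ω = a * ω := by rw [← d2]; ring
  exact mul_left_cancel₀ ha0 this

end Cfsg.Agent.OddHalf.D7.Uni.PentagonSemi

end

-- merged: Cfsg.Agent.OddHalf.D7.Uni.PentGlue
section

/-!
# ODD D7, `K = PSU n F 2`: a root involution, `q = 2`

`exists_inner`: in the situation `Sit n F 2 t j`, `n ≥ 6`, if some `y` with `y t y⁻¹ = t z_u` normalises `j(PP u)` and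
`j(QQ u)`, then some `n₀` with `n₀ t n₀⁻¹ = t z_u` induces on `j(PP u)` an inner automorphism.
-/

set_option autoImplicit false

namespace Cfsg.Agent.OddHalf.D7.Uni.PentGlue

open Cfsg Matrix Cfsg.Agent.LieClassical.HermBasic Cfsg.Agent.LieClassical.HermSiegel
  Cfsg.Agent.LieClassical.HermGen Cfsg.Agent.LieClassical.SUBasic
  Cfsg.Agent.ClassicalGeometry.PSUAutBasic Cfsg.Agent.ClassicalGeometry.PSUAutSylow
  Cfsg.Agent.ClassicalGeometry.PSUAutUnip Cfsg.Agent.ClassicalGeometry.PSUAutPhi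
  Cfsg.Agent.ClassicalGeometry.PSUAutExt Cfsg.Agent.ClassicalGeometry.PSUAutSemi
  Cfsg.Agent.KFacts.Unit Cfsg.Agent.OddHalf.D7.Uni.Face

open Cfsg.Agent.ClassicalGeometry.PSUAutCount (gm semiConj toAut herm_gm act_semiConj herm_semi
  gm_inv_mulVec gm_mulVec_inv gm_mul)

variable {F : Type*} [Field F] [Fintype F] {q n : ℕ}

section Tr

variable [CharP F 2]

/-- The transvection of an isotropic vector with parameter one. -/
abbrev tv (hF : Fintype.card F = q ^ 2) (v : Fin n → F) (hv : hermForm n F q v v = 0) : SU n F q :=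
  transv hF v hv 1 one_tr

theorem act_tv (hF : Fintype.card F = q ^ 2) {v : Fin n → F} (hv : hermForm n F q v v = 0) (x : Fin n → F) :
    act (tv hF v hv) x = x + hermForm n F q x v • v := by
  rw [tv, act_transv, one_mul]

theorem tv_congr (hF : Fintype.card F = q ^ 2) {v v' : Fin n → F} (hv : hermForm n F q v v = 0)
    (hv' : hermForm n F q v' v' = 0) (h : v = v') : tv hF v hv = tv hF v' hv' := by
  subst h; rfl

theorem conj_tv (hF : Fintype.card F = q ^ 2) {v v' : Fin n → F} (hv : hermForm n F q v v = 0)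
    (hv' : hermForm n F q v' v' = 0) (g : SU n F q) (h : act g v = v') : g * tv hF v hv * g⁻¹ = tv hF v' hv' := by
  rw [tv, transv, conj_siegel]
  exact siegel_congr hF _ _ h (act_zero g) rfl

theorem toAut_tv (hF : Fintype.card F = q ^ 2) {v v' : Fin n → F} (hv : hermForm n F q v v = 0)
    (hv' : hermForm n F q v' v' = 0) (A : GU n F q) (ρ : F ≃+* F) (h : sg A ρ v = v') :
    toAut A ρ (pr n F q (tv hF v hv)) = pr n F q (tv hF v' hv') := by
  rw [tv, transv, Cfsg.Agent.ClassicalGeometry.PSUAutMain.toAut_pr', semiConj_siegel]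
  congr 1
  exact siegel_congr hF _ _ h (sg_zero A ρ) (map_one ρ)

theorem tv_inj (hF : Fintype.card F = q ^ 2) (hn : 3 ≤ n) {v v' : Fin n → F} (hv : hermForm n F q v v = 0)
    (hv' : hermForm n F q v' v' = 0) (hv0 : v ≠ 0)
    (h : pr n F q (tv hF v hv) = pr n F q (tv hF v' hv')) : ∃ c : F, c ≠ 0 ∧ v = c • v' := by
  have h1 : tv hF v hv = tv hF v' hv' := siegel_pr_inj hF hn _ _ h
  obtain ⟨f, -, hvf, hfv⟩ := exists_partner hF hv0 hv
  have h2 := congrArg (fun g => act g f) h1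
  simp only [act_tv] at h2
  rw [add_right_inj, hfv, one_smul] at h2
  refine ⟨hermForm n F q f v', ?_, h2⟩
  intro h0
  rw [h0, zero_smul] at h2
  exact hv0 h2

theorem tv_comm (hF : Fintype.card F = q ^ 2) {v v' : Fin n → F} (hv : hermForm n F q v v = 0)
    (hv' : hermForm n F q v' v' = 0) (h : hermForm n F q v v' = 0) :
    tv hF v hv * tv hF v' hv' = tv hF v' hv' * tv hF v hv := by
  have h' := herm_eq_zero_swap hF h
  apply ext_act
  intro x
  rw [act_mul, act_mul, act_tv, act_tv, act_tv, act_tv, herm_add_left, herm_add_left, herm_smul_left,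
    herm_smul_left, h, h', mul_zero, mul_zero, add_zero, add_zero]
  abel

/-- The product of the five transvections of a totally isotropic line, `q = 2`. -/
theorem tv_prod (hF : Fintype.card F = 2 ^ 2) {u v : Fin n → F} (huu : hermForm n F 2 u u = 0)
    (hvv : hermForm n F 2 v v = 0) (huv : hermForm n F 2 u v = 0) {ω : F} (hω : ω ^ 2 = ω + 1)
    (h1 : hermForm n F 2 (u + v) (u + v) = 0) (h2 : hermForm n F 2 (u + ω • v) (u + ω • v) = 0)
    (h3 : hermForm n F 2 (u + (ω + 1) • v) (u + (ω + 1) • v) = 0) :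
    tv hF u huu * tv hF v hvv * tv hF (u + v) h1 * tv hF (u + ω • v) h2 * tv hF (u + (ω + 1) • v) h3 = 1 := by
  have hvu := herm_eq_zero_swap hF huv
  have two : (2 : F) = 0 := CharTwo.two_eq_zero
  apply ext_act
  intro x
  rw [act_mul, act_mul, act_mul, act_mul, act_one]
  simp only [act_tv, herm_add_left, herm_add_right hF, herm_smul_left, herm_smul_right, huu, hvv, huv, hvu,
    mul_zero, add_zero]
  set X := hermForm n F 2 x u
  set Y := hermForm n F 2 x v
  have e : ∀ i : Fin n, (X + (ω + 1) ^ 2 * Y) * (u i + (ω + 1) * v i) + (X + ω ^ 2 * Y) * (u i + ω * v i) +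
      (X + Y) * (u i + v i) + Y * v i + X * u i = 0 := by
    intro i
    linear_combination (X * ω * v i + 2 * X * u i + X * v i + ω * Y * u i + ω ^ 2 * Y * u i + ω ^ 3 * Y * v i +
      Y * u i + 3 * Y * v i * (ω + 1)) * two + 3 * Y * v i * hω
  funext i
  simp only [Pi.add_apply, Pi.smul_apply, smul_eq_mul]
  linear_combination e i

/-- Scalars do not change the transvection, `q = 2`. -/
theorem tv_smul (hF : Fintype.card F = 2 ^ 2) {v : Fin n → F} (hv : hermForm n F 2 v v = 0) {c : F} (hc : c ≠ 0)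
    (hcv : hermForm n F 2 (c • v) (c • v) = 0) : tv hF (c • v) hcv = tv hF v hv := by
  have h1 : c ^ 3 = 1 := by
    have := FiniteField.pow_card_sub_one_eq_one c hc
    rwa [hF] at this
  apply ext_act
  intro x
  rw [act_tv, act_tv, herm_smul_right, smul_smul]
  congr 2
  linear_combination hermForm n F 2 x v * h1

omit [Fintype F] in
/-- A field automorphism `≠ 1` of the field with four elements. -/
theorem aut_four {ρ : F ≃+* F} (hρ : ρ ≠ RingEquiv.refl F) {ω : F}
    (hω : ω ^ 2 = ω + 1) (hall : ∀ x : F, x = 0 ∨ x = 1 ∨ x = ω ∨ x = ω + 1) :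
    ρ ω = ω + 1 ∧ ∀ x, ρ (ρ x) = x := by
  have two : (2 : F) = 0 := CharTwo.two_eq_zero
  have h1 : ρ ω = ω + 1 := by
    rcases hall (ρ ω) with h | h | h | h
    · rw [map_eq_zero_iff ρ ρ.injective] at h
      rw [h] at hω
      norm_num at hω
    · rw [map_eq_one_iff ρ ρ.injective] at h
      rw [h] at hω
      exfalso
      have : (1 : F) = 0 := by linear_combination -hω
      exact one_ne_zero this
    · exfalso
      apply hρ
      ext x
      rcases hall x with rfl | rfl | rfl | rfl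
      · rw [map_zero, map_zero]
      · rw [map_one, map_one]
      · rw [h]; rfl
      · rw [map_add, h, map_one]; rfl
    · exact h
  have h2 : ρ (ρ ω) = ω := by
    rw [h1, map_add, h1, map_one]
    linear_combination two
  refine ⟨h1, fun x => ?_⟩
  rcases hall x with rfl | rfl | rfl | rfl
  · rw [map_zero, map_zero]
  · rw [map_one, map_one]
  · exact h2
  · rw [map_add, map_add, h2, map_one, map_one]

/-- The vector with coordinates `p`. -/
def lv (u w : Fin n → F) (p : F × F) : Fin n → F := p.1 • u + p.2 • w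

omit [Fintype F] [CharP F 2] in
theorem lv_def (u w : Fin n → F) (p : F × F) : lv u w p = p.1 • u + p.2 • w := rfl

omit [Fintype F] [CharP F 2] in
theorem lv_add (u w : Fin n → F) (p p' : F × F) : lv u w (p + p') = lv u w p + lv u w p' := by
  rw [lv_def, lv_def, lv_def, Prod.fst_add, Prod.snd_add, add_smul, add_smul]; abel

omit [Fintype F] [CharP F 2] in
theorem lv_smul (u w : Fin n → F) (c : F) (p : F × F) : lv u w (c • p) = c • lv u w p := by
  rw [lv_def, lv_def, Prod.smul_fst, Prod.smul_snd, smul_add, smul_smul, smul_smul]; rfl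

omit [CharP F 2] in
theorem lv_iso (hF : Fintype.card F = q ^ 2) {u w : Fin n → F} (huu : hermForm n F q u u = 0)
    (hww : hermForm n F q w w = 0) (hwu : hermForm n F q w u = 0) (p p' : F × F) :
    hermForm n F q (lv u w p) (lv u w p') = 0 := by
  have huw := herm_eq_zero_swap hF hwu
  rw [lv_def, lv_def]
  simp only [herm_add_left, herm_add_right hF, herm_smul_left, herm_smul_right, huu, hww, hwu, huw]
  ring

omit [Fintype F] [CharP F 2] in
theorem lv_inj {u w : Fin n → F} (hind : ∀ a b : F, a • u + b • w = 0 → a = 0 ∧ b = 0) {p p' : F × F}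
    (h : lv u w p = lv u w p') : p = p' := by
  have h1 : (p.1 - p'.1) • u + (p.2 - p'.2) • w = 0 := by
    have h2 : lv u w p - lv u w p' = 0 := sub_eq_zero.2 h
    rw [← h2, lv_def, lv_def]; module
  obtain ⟨ha, hb⟩ := hind _ _ h1
  exact Prod.ext (sub_eq_zero.1 ha) (sub_eq_zero.1 hb)

end Tr

section Main

variable [CharP F 2] {G : Type*} [Group G]

omit [CharP F 2] in
/-- Two independent orthogonal isotropic vectors are part of a frame. -/
theorem exists_Frm_pair (hF : Fintype.card F = q ^ 2) {u w : Fin n → F} (huu : hermForm n F q u u = 0)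
    (hww : hermForm n F q w w = 0) (hwu : hermForm n F q w u = 0)
    (hind : ∀ a b : F, a • u + b • w = 0 → a = 0 ∧ b = 0) : ∃ f, Frm q ![u, w] f := by
  have huw := herm_eq_zero_swap hF hwu
  refine exists_Frm hF (LinearIndependent.pair_iff.2 hind) ?_
  intro i k
  fin_cases i <;> fin_cases k <;> assumption

/-- **No semilinear switch** when `C(t)` acts linearly. -/
theorem no_semi (hF : Fintype.card F = 2 ^ 2) (hn : 6 ≤ n) {t : G} {j : PSU n F 2 →* G} (S : Sit n F 2 t j)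
    (hlin : ∀ c : G, c * t = t * c → ∀ (A : GU n F 2) (ρ : F ≃+* F),
      (∀ x, c * j x * c⁻¹ = j (toAut A ρ x)) → ρ = RingEquiv.refl F)
    {u : Fin n → F} (hu0 : u ≠ 0) (hu : hermForm n F 2 u u = 0) {y : G}
    (hy : y * t * y⁻¹ = t * j (pr n F 2 (tv hF u hu))) {A : GU n F 2} {ρ : F ≃+* F} (hρ : ρ ≠ RingEquiv.refl F)
    {c : F} (hc : sg A ρ u = c • u) (hc0 : c ≠ 0)
    (hyP : ∀ x ∈ PP 2 u, y * j x * y⁻¹ = j (toAut A ρ x)) : False := by
  obtain ⟨ω, hω, hall⟩ := exists_omega hF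
  obtain ⟨hρω, hρρ⟩ := aut_four hρ hω hall
  have two : (2 : F) = 0 := CharTwo.two_eq_zero
  obtain ⟨w, w', hwu, hw'u, hww, -, hww'⟩ := exists_pair_of_iso hF (by omega) hu0 hu
  have huw := herm_eq_zero_swap hF hwu
  have huw' := herm_eq_zero_swap hF hw'u
  have hind : ∀ a b : F, a • u + b • w = 0 → a = 0 ∧ b = 0 := by
    intro a b h
    have h1 := congrArg (fun v => hermForm n F 2 v w') h
    simp only [herm_add_left, herm_smul_left, huw', hww', herm_zero_left] at h1
    have hb : b = 0 := by linear_combination h1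
    rw [hb, zero_smul, add_zero] at h
    exact ⟨(smul_eq_zero.1 h).resolve_right hu0, hb⟩
  set w2 := sg A ρ w with hw2
  have hw2w2 : hermForm n F 2 w2 w2 = 0 := by rw [hw2, herm_sg, hww, map_zero]
  have hw2u : hermForm n F 2 w2 u = 0 := by
    have h1 : hermForm n F 2 w2 (sg A ρ u) = 0 := by rw [hw2, herm_sg, hwu, map_zero]
    rw [hc, herm_smul_right] at h1
    exact (mul_eq_zero.1 h1).resolve_left (pow_ne_zero _ hc0)
  have hind2 : ∀ a b : F, a • u + b • w2 = 0 → a = 0 ∧ b = 0 := by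
    intro a b h
    have h0 : hermForm n F 2 u (sg A ρ w') = 0 := by
      have h1 : hermForm n F 2 (sg A ρ u) (sg A ρ w') = 0 := by rw [herm_sg, huw', map_zero]
      rw [hc, herm_smul_left] at h1
      exact (mul_eq_zero.1 h1).resolve_left hc0
    have h1 := congrArg (fun v => hermForm n F 2 v (sg A ρ w')) h
    simp only [herm_add_left, herm_smul_left, h0, hw2, herm_sg, hww', herm_zero_left, map_one] at h1
    have hb : b = 0 := by linear_combination h1
    rw [hb, zero_smul, add_zero] at h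
    exact ⟨(smul_eq_zero.1 h).resolve_right hu0, hb⟩
  obtain ⟨f, E⟩ := exists_Frm_pair hF hu hww hwu hind
  obtain ⟨f', E'⟩ := exists_Frm_pair hF hu hw2w2 hw2u hind2
  obtain ⟨g0, hg0, -⟩ := exists_map_Frm hF (by omega) E' E
  have hg0u : act g0 u = u := hg0 0
  have hg0w : act g0 w2 = w := hg0 1
  -- the transvections
  have iso := lv_iso hF hu hww hwu
  let z : F × F → G := fun p => j (pr n F 2 (tv hF (lv u w p) (iso p p)))
  have hz : ∀ p, z p = j (pr n F 2 (tv hF (lv u w p) (iso p p))) := fun _ => rfl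
  have lv0 : ∀ p : F × F, p ≠ 0 → lv u w p ≠ 0 := by
    intro p hp h
    apply hp
    apply lv_inj hind
    rw [h, lv_def, Prod.fst_zero, Prod.snd_zero, zero_smul, zero_smul, add_zero]
  have hztv : ∀ (p : F × F) (v : Fin n → F) (hv : hermForm n F 2 v v = 0), v = lv u w p →
      j (pr n F 2 (tv hF v hv)) = z p := by
    intro p v hv h
    rw [hz]
    congr 2
    exact tv_congr hF _ _ h
  -- `z p` lies in `PP u`
  have hzP : ∀ p : F × F, pr n F 2 (tv hF (lv u w p) (iso p p)) ∈ PP 2 u := by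
    intro p
    refine mem_PP.2 ⟨_, ?_, rfl⟩
    rw [act_tv]
    have h1 : hermForm n F 2 u (lv u w p) = 0 := by
      have h2 := iso (1, 0) p
      rwa [show lv u w (1, 0) = u by rw [lv_def, one_smul, zero_smul, add_zero]] at h2
    rw [h1, zero_smul, add_zero]
  refine PentagonSemi.pentagon_semi (F := F) (ρ : F →+* F) hρρ ω ?_ t z ?_ ?_ ?_ ?_ ?_
    (j (pr n F 2 g0) * y) (1, 0) ?_ ?_ (fun p => (ρ p.1 * c, ρ p.2)) ?_ ?_ ?_ ?_
  · -- `σ ω ≠ ω`
    intro h
    have h1 : ρ ω = ω := h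
    rw [hρω] at h1
    exact one_ne_zero (add_eq_left.1 h1)
  · -- injectivity
    intro p p' hp hp' h
    obtain ⟨a, ha0, ha⟩ := tv_inj hF (by omega) (iso p' p') (iso p p) (lv0 p' hp') (S.inj h.symm)
    rw [← lv_smul] at ha
    exact ⟨a, lv_inj hind ha⟩
  · -- commuting
    intro p p'
    rw [hz, hz, ← map_mul, ← map_mul, ← map_mul, ← map_mul, tv_comm hF _ _ (iso p p')]
  · -- product
    have e1 : lv u w (1, 0) = u := by rw [lv_def, one_smul, zero_smul, add_zero]
    have e2 : lv u w (0, 1) = w := by rw [lv_def, one_smul, zero_smul, zero_add]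
    have e3 : ∀ x : F, lv u w (1, x) = u + x • w := fun x => by rw [lv_def, one_smul]
    have e4 : lv u w (1, 1) = u + w := by rw [e3, one_smul]
    have hh : ∀ x : F, hermForm n F 2 (u + x • w) (u + x • w) = 0 := fun x => by
      rw [← e3]; exact iso _ _
    have hh1 : hermForm n F 2 (u + w) (u + w) = 0 := by rw [← e4]; exact iso _ _
    rw [← hztv (1, 0) u hu e1.symm, ← hztv (0, 1) w hww e2.symm, ← hztv (1, 1) (u + w) hh1 e4.symm,
      ← hztv (1, ω) (u + ω • w) (hh ω) (e3 ω).symm,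
      ← hztv (1, (ρ : F →+* F) ω) (u + (ω + 1) • w) (hh _) (by
        change _ = lv u w (1, ρ ω)
        rw [hρω, e3]),
      ← map_mul, ← map_mul, ← map_mul, ← map_mul, ← map_mul, ← map_mul, ← map_mul, ← map_mul,
      tv_prod hF hu hww huw hω hh1 (hh ω) (hh (ω + 1)), map_one, map_one]
  · -- `C(t)` induces all linear maps
    intro B
    obtain ⟨P, hP⟩ : ∃ P, B (1, 0) = P := ⟨_, rfl⟩
    obtain ⟨Q, hQ⟩ : ∃ Q, B (0, 1) = Q := ⟨_, rfl⟩
    have hB : ∀ p : F × F, B p = p.1 • P + p.2 • Q := by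
      intro p
      rw [← hP, ← hQ, ← map_smul, ← map_smul, ← map_add]
      congr 1
      ext <;> simp
    set D := P.1 * Q.2 - Q.1 * P.2 with hD
    have hD0 : D ≠ 0 := by
      intro h0
      by_cases hQ0 : Q = 0
      · have h1 : ((0, 1) : F × F) = 0 := by
          rw [← map_eq_zero_iff B B.injective, hQ, hQ0]
        exact one_ne_zero (congrArg Prod.snd h1)
      · have h1 : B (Q.1, -P.1) = 0 := by
          rw [hB]
          ext
          · simp; ring
          · simp only [Prod.snd_add, Prod.smul_snd, smul_eq_mul, Prod.snd_zero]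
            rw [hD] at h0
            linear_combination -h0
        have h2 : B (Q.2, -P.2) = 0 := by
          rw [hB]
          ext
          · simp only [Prod.fst_add, Prod.smul_fst, smul_eq_mul, Prod.fst_zero]
            rw [hD] at h0
            linear_combination h0
          · simp; ring
        rw [map_eq_zero_iff B B.injective] at h1 h2
        have e1 : Q.1 = 0 := congrArg Prod.fst h1
        have e2 : Q.2 = 0 := congrArg Prod.fst h2
        exact hQ0 (Prod.ext e1 e2)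
    have hD3 : D ^ 3 = 1 := by
      have := FiniteField.pow_card_sub_one_eq_one D hD0
      rwa [hF] at this
    obtain ⟨g, hg, -⟩ := exists_SL hF E (M := !![D * P.1, D * Q.1; D * P.2, D * Q.2]) (by
      rw [Matrix.det_fin_two_of]
      linear_combination hD3 - D ^ 2 * hD)
    have hgu : act g u = D • lv u w P := by
      have := hg 0
      simp only [Matrix.cons_val_zero, Fin.sum_univ_two, Matrix.cons_val_one, Matrix.of_apply,
        Matrix.cons_val_fin_one] at this
      rw [this, lv_def, smul_add, smul_smul, smul_smul]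
    have hgw : act g w = D • lv u w Q := by
      have := hg 1
      simp only [Matrix.cons_val_zero, Fin.sum_univ_two, Matrix.cons_val_one, Matrix.of_apply,
        Matrix.cons_val_fin_one] at this
      rw [this, lv_def, smul_add, smul_smul, smul_smul]
    refine ⟨j (pr n F 2 g), (S.tj _).symm, fun p hp => ?_⟩
    have h1 : act g (lv u w p) = D • lv u w (B p) := by
      rw [hB, lv_add, lv_smul, lv_smul, lv_def u w p, act_add, act_smul, act_smul, hgu, hgw]
      module
    have h2 : hermForm n F 2 (D • lv u w (B p)) (D • lv u w (B p)) = 0 := by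
      rw [← lv_smul]; exact iso _ _
    rw [hz, hz, ← map_inv, ← map_inv, ← map_mul, ← map_mul, ← map_mul, ← map_mul, conj_tv hF _ h2 g h1,
      tv_smul hF (iso _ _) hD0]
  · -- `C(t)` acts linearly
    intro k hk hkz
    obtain ⟨α, hα⟩ := S.exists_aut hk
    obtain ⟨A', ρ', rfl⟩ := Cfsg.Agent.ClassicalGeometry.PSUAutMain.exists_toAut hF (by omega) (by omega) α
    have hρ' := hlin k hk A' ρ' hα
    subst hρ'
    have isog : ∀ p, hermForm n F 2 (sg A' (RingEquiv.refl F) (lv u w p)) (sg A' (RingEquiv.refl F) (lv u w p)) = 0 :=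
      fun p => by rw [herm_sg, iso, map_zero]
    have hkz' : ∀ p, k * z p * k⁻¹ = j (pr n F 2 (tv hF (sg A' (RingEquiv.refl F) (lv u w p)) (isog p))) := by
      intro p
      rw [hz, hα, toAut_tv hF (iso p p) (isog p) A' _ rfl]
    have hex : ∀ p, p ≠ 0 → ∃ P, sg A' (RingEquiv.refl F) (lv u w p) = lv u w P := by
      intro p hp
      obtain ⟨p', hp', h1⟩ := hkz p hp
      rw [hkz', hz] at h1
      obtain ⟨a, -, ha⟩ := tv_inj hF (by omega) (isog p) (iso p' p') (fun h => lv0 p hp (sg_eq_zero A' _ h)) (S.inj h1)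
      exact ⟨a • p', by rw [ha, lv_smul]⟩
    obtain ⟨P, hP⟩ := hex (1, 0) (fun h => one_ne_zero (congrArg Prod.fst h))
    obtain ⟨Q, hQ⟩ := hex (0, 1) (fun h => one_ne_zero (congrArg Prod.snd h))
    have hPQ : ∀ p : F × F, sg A' (RingEquiv.refl F) (lv u w p) = lv u w (p.1 • P + p.2 • Q) := by
      intro p
      have e1 : p = p.1 • (1, 0) + p.2 • (0, 1) := by ext <;> simp
      conv_lhs => rw [e1, lv_add, lv_smul, lv_smul, sg_add, sg_smul, sg_smul, hP, hQ]
      rw [lv_add, lv_smul, lv_smul]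
      rfl
    let L : (F × F) →ₗ[F] (F × F) :=
      { toFun := fun p => p.1 • P + p.2 • Q
        map_add' := fun p p' => by
          simp only [Prod.fst_add, Prod.snd_add]; module
        map_smul' := fun a p => by
          simp only [Prod.smul_fst, Prod.smul_snd, smul_eq_mul, RingHom.id_apply]; module }
    have hL : ∀ p, L p = p.1 • P + p.2 • Q := fun _ => rfl
    have Linj : Function.Injective L := by
      rw [← LinearMap.ker_eq_bot, LinearMap.ker_eq_bot']
      intro p h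
      by_contra hp
      have h1 := hPQ p
      rw [← hL, h] at h1
      have h2 : lv u w (0 : F × F) = 0 := by
        rw [lv_def, Prod.fst_zero, Prod.snd_zero, zero_smul, zero_smul, add_zero]
      rw [h2] at h1
      exact lv0 p hp (sg_eq_zero A' _ h1)
    refine ⟨LinearEquiv.ofInjectiveEndo L Linj, fun p hp => ?_⟩
    rw [hkz']
    exact hztv _ _ (isog p) (hPQ p)
  · exact fun h => one_ne_zero (congrArg Prod.fst h)
  · have e1 : lv u w (1, 0) = u := by rw [lv_def, one_smul, zero_smul, add_zero]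
    rw [← hztv (1, 0) u hu e1.symm]
    have h1 := S.tj (pr n F 2 g0)
    have h2 : j (pr n F 2 g0) * j (pr n F 2 (tv hF u hu)) * (j (pr n F 2 g0))⁻¹ = j (pr n F 2 (tv hF u hu)) := by
      rw [← map_inv, ← map_inv, ← map_mul, ← map_mul, ← map_mul, ← map_mul, conj_tv hF hu hu g0 hg0u]
    calc j (pr n F 2 g0) * y * t * (j (pr n F 2 g0) * y)⁻¹
        = j (pr n F 2 g0) * (y * t * y⁻¹) * (j (pr n F 2 g0))⁻¹ := by group
      _ = j (pr n F 2 g0) * t * j (pr n F 2 (tv hF u hu)) * (j (pr n F 2 g0))⁻¹ := by rw [hy]; group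
      _ = t * (j (pr n F 2 g0) * j (pr n F 2 (tv hF u hu)) * (j (pr n F 2 g0))⁻¹) := by rw [← h1]; group
      _ = _ := by rw [h2]
  · intro p p'
    ext <;> simp [add_mul]
  · intro a p
    ext <;> simp [mul_assoc]
  · intro p hp h
    apply hp
    have h1 := congrArg Prod.fst h
    have h2 := congrArg Prod.snd h
    simp only [Prod.fst_zero, Prod.snd_zero] at h1 h2
    refine Prod.ext ?_ ?_
    · exact (map_eq_zero_iff ρ ρ.injective).1 ((mul_eq_zero.1 h1).resolve_right hc0)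
    · exact (map_eq_zero_iff ρ ρ.injective).1 h2
  · intro p hp
    have h1 := hyP _ (hzP p)
    rw [toAut_tv hF (iso p p) (by rw [herm_sg, iso, map_zero]) A ρ rfl] at h1
    have h3 : act g0 (sg A ρ (lv u w p)) = lv u w (ρ p.1 * c, ρ p.2) := by
      rw [lv_def, sg_add, sg_smul, sg_smul, hc, ← hw2, act_add, act_smul, act_smul, act_smul, hg0u, hg0w, smul_smul,
        lv_def]
    rw [hz]
    calc j (pr n F 2 g0) * y * j (pr n F 2 (tv hF (lv u w p) (iso p p))) * (j (pr n F 2 g0) * y)⁻¹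
        = j (pr n F 2 g0) * (y * j (pr n F 2 (tv hF (lv u w p) (iso p p))) * y⁻¹) * (j (pr n F 2 g0))⁻¹ := by group
      _ = _ := by
        rw [h1, ← map_inv, ← map_inv, ← map_mul, ← map_mul, ← map_mul, ← map_mul,
          conj_tv hF _ (iso (ρ p.1 * c, ρ p.2) (ρ p.1 * c, ρ p.2)) g0 h3]

omit [CharP F 2] [Fintype F] in
theorem toAut_mem_PP {u : Fin n → F} {A : GU n F q} {ρ : F ≃+* F} {c : F} (hc0 : c ≠ 0) (hc : sg A ρ u = c • u)
    {x : PSU n F q} (hx : x ∈ PP q u) : toAut A ρ x ∈ PP q u := by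
  obtain ⟨g, hg, rfl⟩ := mem_PP.1 hx
  rw [Cfsg.Agent.ClassicalGeometry.PSUAutMain.toAut_pr', ← PP_smul hc0]
  refine mem_PP.2 ⟨_, ?_, rfl⟩
  rw [← hc, act_semiConj_sg, hg]

theorem tv_mul_self (hF : Fintype.card F = q ^ 2) {v : Fin n → F} (hv : hermForm n F q v v = 0) :
    tv hF v hv * tv hF v hv = 1 := by
  have two : (2 : F) = 0 := CharTwo.two_eq_zero
  apply ext_act
  intro x
  rw [act_mul, act_one, act_tv, act_tv, herm_add_left, herm_smul_left, hv, mul_zero, add_zero]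
  funext i
  simp only [Pi.add_apply, Pi.smul_apply, smul_eq_mul]
  linear_combination hermForm n F q x v * v i * two

theorem tv_mem_PP (hF : Fintype.card F = q ^ 2) {v : Fin n → F} (hv : hermForm n F q v v = 0) :
    pr n F q (tv hF v hv) ∈ PP q v := by
  refine mem_PP.2 ⟨_, ?_, rfl⟩
  rw [act_tv, hv, zero_smul, add_zero]

/-- A switch inducing a linear automorphism: its cube induces an inner one. -/
theorem inner_of_linear (hF : Fintype.card F = 2 ^ 2) {t : G} {j : PSU n F 2 →* G}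
    {u : Fin n → F} (hu : hermForm n F 2 u u = 0) {y : G} (hy : y * t * y⁻¹ = t * j (pr n F 2 (tv hF u hu)))
    {A : GU n F 2} {c : F} (hc : sg A (RingEquiv.refl F) u = c • u) (hc0 : c ≠ 0)
    (hyP : ∀ x ∈ PP 2 u, y * j x * y⁻¹ = j (toAut A (RingEquiv.refl F) x)) :
    ∃ n₀ : G, n₀ * t * n₀⁻¹ = t * j (pr n F 2 (tv hF u hu)) ∧
      ∃ p₀ ∈ PP 2 u, ∀ p ∈ PP 2 u, n₀ * j p * n₀⁻¹ = j (p₀ * p * p₀⁻¹) := by
  obtain ⟨s, hs, hsact⟩ := toAut_cube hF A
  have hc3 : c ^ 3 = 1 := by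
    have := FiniteField.pow_card_sub_one_eq_one c hc0
    rwa [hF] at this
  have hsu : act s u = u := by
    rw [hsact, hc, sg_smul, hc, sg_smul, sg_smul, hc, smul_smul, smul_smul]
    have : (RingEquiv.refl F) ((RingEquiv.refl F) c) * (RingEquiv.refl F) c * c = 1 := by
      change c * c * c = 1
      rw [← hc3]; ring
    rw [this, one_smul]
  set z := j (pr n F 2 (tv hF u hu)) with hz
  have hzz : z * z = 1 := by rw [hz, ← map_mul, ← map_mul, tv_mul_self, map_one, map_one]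
  have hyz : y * z * y⁻¹ = z := by
    have h1 : hermForm n F 2 (c • u) (c • u) = 0 := by rw [herm_smul_left, herm_smul_right, hu]; ring
    rw [hz, hyP _ (tv_mem_PP hF hu), toAut_tv hF hu h1 A _ hc, tv_smul hF hu hc0]
  refine ⟨y * (y * y), ?_, pr n F 2 s, mem_PP.2 ⟨s, hsu, rfl⟩, fun p hp => ?_⟩
  · calc y * (y * y) * t * (y * (y * y))⁻¹ = y * (y * (y * t * y⁻¹) * y⁻¹) * y⁻¹ := by group
      _ = y * (y * (t * z) * y⁻¹) * y⁻¹ := by rw [hy]
      _ = y * ((y * t * y⁻¹) * (y * z * y⁻¹)) * y⁻¹ := by group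
      _ = y * (t * (z * z)) * y⁻¹ := by rw [hy, hyz]; group
      _ = t * z := by rw [hzz, mul_one, hy]
  · have h1 := toAut_mem_PP hc0 hc hp
    have h2 := toAut_mem_PP hc0 hc h1
    have h3 : toAut A (RingEquiv.refl F) (toAut A (RingEquiv.refl F) (toAut A (RingEquiv.refl F) p)) =
        pr n F 2 s * p * (pr n F 2 s)⁻¹ := by
      rw [← MulAut.conj_apply, ← hs, pow_succ, pow_succ, pow_one, MulAut.mul_apply, MulAut.mul_apply]
    calc y * (y * y) * j p * (y * (y * y))⁻¹ = y * (y * (y * j p * y⁻¹) * y⁻¹) * y⁻¹ := by group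
      _ = _ := by rw [hyP p hp, hyP _ h1, hyP _ h2, h3]

/-- **A switch inducing an inner automorphism on `PP u`**, `q = 2`. -/
theorem exists_inner (hF : Fintype.card F = 2 ^ 2) (hn : 6 ≤ n) {t : G} {j : PSU n F 2 →* G} (S : Sit n F 2 t j)
    {u : Fin n → F} (hu0 : u ≠ 0) (hu : hermForm n F 2 u u = 0) {y : G}
    (hy : y * t * y⁻¹ = t * j (pr n F 2 (tv hF u hu)))
    (hyP : ∀ x ∈ PP 2 u, ∃ x' ∈ PP 2 u, y * j x * y⁻¹ = j x')
    (hyQ : ∀ x ∈ QQ hF u hu, ∃ x' ∈ QQ hF u hu, y * j x * y⁻¹ = j x') :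
    ∃ n₀ : G, n₀ * t * n₀⁻¹ = t * j (pr n F 2 (tv hF u hu)) ∧
      ∃ p₀ ∈ PP 2 u, ∀ p ∈ PP 2 u, n₀ * j p * n₀⁻¹ = j (p₀ * p * p₀⁻¹) := by
  -- the automorphism of `PP u`
  have hyP' : ∀ x : ↥(PP 2 u : Subgroup (PSU n F 2)), ∃ x' : ↥(PP 2 u : Subgroup (PSU n F 2)),
      y * j x * y⁻¹ = j x' := fun x => by
    obtain ⟨x', h, h'⟩ := hyP x x.2
    exact ⟨⟨x', h⟩, h'⟩
  choose b hb using hyP'
  have hbinj : Function.Injective b := by
    intro x x' h
    have h1 : y * j x * y⁻¹ = y * j x' * y⁻¹ := by rw [hb, hb, h]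
    have h2 : j x = j x' := mul_left_cancel (mul_right_cancel h1)
    exact Subtype.ext (S.inj h2)
  have hbbij : Function.Bijective b := Finite.injective_iff_bijective.1 hbinj
  let β₀ : ↥(PP 2 u : Subgroup (PSU n F 2)) →* ↥(PP 2 u : Subgroup (PSU n F 2)) :=
    MonoidHom.mk' b (fun x x' => by
      apply Subtype.ext
      apply S.inj
      rw [Subgroup.coe_mul, map_mul, ← hb, ← hb, ← hb, Subgroup.coe_mul, map_mul]
      group)
  let β : MulAut ↥(PP 2 u : Subgroup (PSU n F 2)) := MulEquiv.ofBijective β₀ hbbij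
  have hβ : ∀ x, β x = b x := fun _ => rfl
  have hQle : QQ hF u hu ≤ PP 2 u := QQ_le_PP hF hu
  have hβQ : ∀ x : ↥(PP 2 u : Subgroup (PSU n F 2)), (x : PSU n F 2) ∈ QQ hF u hu → (β x : PSU n F 2) ∈ QQ hF u hu := by
    intro x hx
    obtain ⟨x', hx', h⟩ := hyQ x hx
    rw [hβ]
    have : (b x : PSU n F 2) = x' := S.inj (by rw [← hb, h])
    rw [this]; exact hx'
  have hPres : PresQ hF hu β := by
    intro x
    refine ⟨hβQ x, fun hx => ?_⟩
    -- `β` maps `QQ` onto itself
    let QP : Subgroup ↥(PP 2 u : Subgroup (PSU n F 2)) := (QQ hF u hu).subgroupOf (PP 2 u)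
    have hle : QP.map (β : ↥(PP 2 u : Subgroup (PSU n F 2)) →* ↥(PP 2 u : Subgroup (PSU n F 2))) ≤ QP := by
      rintro _ ⟨w, hw, rfl⟩
      exact hβQ w hw
    have hcard : Nat.card (QP.map (β : ↥(PP 2 u : Subgroup (PSU n F 2)) →* ↥(PP 2 u : Subgroup (PSU n F 2)))) =
        Nat.card QP := (Nat.card_congr (Subgroup.equivMapOfInjective _ _ β.injective).toEquiv).symm
    have heq := Subgroup.eq_of_le_of_card_ge hle hcard.ge
    have h1 : β x ∈ QP := hx
    rw [← heq] at h1
    obtain ⟨w, hw, hwx⟩ := h1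
    have : w = x := β.injective hwx
    rw [← this]
    exact hw
  obtain ⟨α, hα⟩ := ext_point hF hn hu0 hu hPres
  have hyα : ∀ x ∈ PP 2 u, y * j x * y⁻¹ = j (α x) := by
    intro x hx
    have h1 := hα ⟨x, hx⟩
    rw [← h1]
    exact hb ⟨x, hx⟩
  obtain ⟨A, ρ, rfl⟩ := Cfsg.Agent.ClassicalGeometry.PSUAutMain.exists_toAut hF (by omega) (by omega) α
  -- the centre is fixed
  set z := pr n F 2 (tv hF u hu) with hz
  have hzR : z ∈ RR hF u hu := mem_RR.2 ⟨_, _, rfl⟩
  have hzP : z ∈ PP 2 u := tv_mem_PP hF hu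
  have hz1 : z ≠ 1 := by
    intro h0
    obtain ⟨f, -, huf, hfu⟩ := exists_partner hF hu0 hu
    have h2 : pr n F 2 (siegel hF u 0 1 (isSiegel_zero hu one_tr)) =
        pr n F 2 (siegel hF u 0 0 (isSiegel_zero hu (by ring))) := by
      rw [siegel_zero, map_one]; exact h0
    have h3 := siegel_pr_inj hF (by omega) _ _ h2
    have h4 := congrArg (fun g => act g f) h3
    simp only [act_siegel] at h4
    rw [hfu, herm_zero_right hF, smul_zero, add_zero, add_right_inj, mul_one, mul_one, sub_zero, sub_zero, one_smul,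
      zero_smul] at h4
    exact hu0 h4
  have hRR : ∀ x ∈ RR hF u hu, x = 1 ∨ x = z := by
    intro x hx
    obtain ⟨μ, hμ, rfl⟩ := mem_RR.1 hx
    rcases zero_or_one_of_trace hμ with rfl | rfl
    · left; rw [transv_zero, map_one]
    · right; rfl
  have hαz : toAut A ρ z = z := by
    have h1 : (β ⟨z, hzP⟩ : PSU n F 2) ∈ RR hF u hu := hPres.map_RR (by omega) hu0 hzR
    rw [hα] at h1
    rcases hRR _ h1 with h2 | h2
    · exact absurd ((map_eq_one_iff _ (toAut A ρ).injective).1 h2) hz1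
    · exact h2
  obtain ⟨c, hc0, hc⟩ := scalar_of_fix_transv hF (by omega) A ρ hu0 one_ne_zero (isSiegel_zero hu one_tr) hαz
  by_cases hρ : ρ = RingEquiv.refl F
  · subst hρ
    exact inner_of_linear hF hu hy hc hc0 hyα
  by_cases hlin : ∀ k : G, k * t = t * k → ∀ (A : GU n F 2) (ρ : F ≃+* F),
      (∀ x, k * j x * k⁻¹ = j (toAut A ρ x)) → ρ = RingEquiv.refl F
  · exact (no_semi hF hn S hlin hu0 hu hy hρ hc hc0 hyα).elim
  push Not at hlin
  obtain ⟨k, hk, A', ρ', hk', hρ'⟩ := hlin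
  -- both field automorphisms are the Frobenius
  have hρρ' : ρ.trans ρ' = RingEquiv.refl F := by
    obtain ⟨ω, hω, hall⟩ := exists_omega hF
    obtain ⟨h1, -⟩ := aut_four hρ hω hall
    obtain ⟨h2, h3⟩ := aut_four hρ' hω hall
    have h4 : ρ' (ρ ω) = ω := by rw [h1, ← h2, h3]
    ext x
    change ρ' (ρ x) = x
    rcases hall x with rfl | rfl | rfl | rfl
    · rw [map_zero, map_zero]
    · rw [map_one, map_one]
    · exact h4
    · rw [map_add, map_add, h4, map_one, map_one]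
  have hw0 : sg A' ρ' u ≠ 0 := fun h => hu0 (sg_eq_zero A' ρ' h)
  have hw : hermForm n F 2 (sg A' ρ' u) (sg A' ρ' u) = 0 := by rw [herm_sg, hu, map_zero]
  obtain ⟨g, -, hg⟩ := exists_map_iso hF (by omega) le_rfl (mem_coordSub_top (sg A' ρ' u)) (mem_coordSub_top u)
    hw0 hu0 hw hu
  obtain ⟨B, hB, hBv⟩ := toAut_conj_left hF g A' ρ'
  obtain ⟨B', hB', hBv'⟩ := toAut_mul hF A B ρ ρ'
  rw [hρρ'] at hB' hBv'
  have hBu : sg B ρ' u = u := by rw [hBv, hg]
  have hkx : ∀ x, (j (pr n F 2 g) * k) * j x * (j (pr n F 2 g) * k)⁻¹ = j (toAut B ρ' x) := by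
    intro x
    rw [← hB, MulAut.mul_apply, MulAut.conj_apply, map_mul, map_mul, map_inv, ← hk']
    group
  have hkt : (j (pr n F 2 g) * k) * t * (j (pr n F 2 g) * k)⁻¹ = t := by
    have h1 := S.tj (pr n F 2 g)
    calc (j (pr n F 2 g) * k) * t * (j (pr n F 2 g) * k)⁻¹
        = j (pr n F 2 g) * (k * t) * k⁻¹ * (j (pr n F 2 g))⁻¹ := by group
      _ = j (pr n F 2 g) * t * (j (pr n F 2 g))⁻¹ := by rw [hk]; group
      _ = t := by rw [← h1]; group
  have hBz : toAut B ρ' z = z := by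
    rw [hz, toAut_tv hF hu hu B ρ' hBu]
  refine inner_of_linear hF hu (y := j (pr n F 2 g) * k * y) ?_ (A := B') (c := ρ' c) ?_ ?_ ?_
  · calc j (pr n F 2 g) * k * y * t * (j (pr n F 2 g) * k * y)⁻¹
        = (j (pr n F 2 g) * k) * (y * t * y⁻¹) * (j (pr n F 2 g) * k)⁻¹ := by group
      _ = ((j (pr n F 2 g) * k) * t * (j (pr n F 2 g) * k)⁻¹) *
          ((j (pr n F 2 g) * k) * j z * (j (pr n F 2 g) * k)⁻¹) := by rw [hy]; group
      _ = t * j z := by rw [hkt, hkx, hBz]
  · rw [hBv', hc, sg_smul, hBu]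
  · rw [map_ne_zero_iff ρ' ρ'.injective]; exact hc0
  · intro x hx
    calc j (pr n F 2 g) * k * y * j x * (j (pr n F 2 g) * k * y)⁻¹
        = (j (pr n F 2 g) * k) * (y * j x * y⁻¹) * (j (pr n F 2 g) * k)⁻¹ := by group
      _ = _ := by rw [hyα x hx, hkx, ← MulAut.mul_apply, hB']

end Main

end Cfsg.Agent.OddHalf.D7.Uni.PentGlue

end
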