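import Cfsg.Agent.OddHalf.D7.Uni.ExBase
import Cfsg.Agent.KFacts.Unit.KF
import Cfsg.Agent.KFacts.Unit.FrontKF
import Cfsg.Agent.KFacts.Unit.PentExt
import Cfsg.Agent.OddHalf.D7Out.FrontCyc
import Cfsg.Agent.Schreier.PSU
import Mathlib
import Cfsg.Agent.OddHalf.D7.Uni.PentGlue
import Cfsg.Agent.OddHalf.CaseM.Sheet
import Cfsg.Agent.KFacts.Unit.Emb
import Cfsg.Agent.KFacts.Unit.HeisK
import Cfsg.Agent.S0278
import Cfsg.Agent.LieClassical.HermPerfect
import Cfsg.Agent.KFacts.Unit.SheetTwo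
import Cfsg.Agent.OddHalf.D8.MainE
import Cfsg.Agent.OddHalf.D8.SheetMap
import Cfsg.Agent.OddHalf.D8.SheetMMap
import Cfsg.Agent.OddHalf.D7.Cases
import Cfsg.Agent.OddHalf.D7.Uni.FaceFrame
import Cfsg.Agent.OddHalf.D7.Uni.FaceRF
import Cfsg.Agent.OddHalf.D7.Uni.Equiv
import Cfsg.Agent.OddHalf.D7.Uni.FaceComm
import Cfsg.Agent.OddHalf.D7.Uni.FaceR
import Cfsg.Agent.LieClassical.HermSiegel
import Cfsg.Agent.OddHalf.D7Out.TwFrame
import Cfsg.Agent.KFacts.TwFrame.Syl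
import Cfsg.Agent.KFacts.Unit.Cent
import Cfsg.Agent.KFacts.Unit.Flag
import Cfsg.Agent.OddHalf.D7Out.PZeroU
import Cfsg.Agent.KFacts.OutCyc.PSU

-- merged: Cfsg.Agent.OddHalf.D7.Uni.ExMain
section

/-!
# Existence of the doubled transvection groups of the unitary group (helper575)

* `exists_dbl_big` : `q > 2`: if some `y` normalising `X = RR u0`, `t X` moves `t`, there is a family `Face.Dbl`;
* `exists_dbl_two` : `q = 2`: the same, if some `y` with `y t y⁻¹ = t z` acts on `PP u0` as an inner automorphism.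
-/

set_option autoImplicit false
set_option linter.unusedSectionVars false

namespace Cfsg.Agent.OddHalf.D7.Uni.Ex

open Subgroup
open Cfsg Cfsg.Agent.LieClassical.HermBasic Cfsg.Agent.LieClassical.HermSiegel
  Cfsg.Agent.LieClassical.HermGen Cfsg.Agent.LieClassical.SUBasic Matrix
  Cfsg.Agent.ClassicalGeometry.PSUAutBasic Cfsg.Agent.ClassicalGeometry.PSUAutSylow
  Cfsg.Agent.ClassicalGeometry.PSUAutUnip Cfsg.Agent.KFacts.Unit
  Cfsg.Agent.OddHalf.D7.Uni.Face Cfsg.Agent.OddHalf.D7Ex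

variable {F : Type*} [Field F] [Fintype F] {q n : ℕ} {G : Type*} [Group G] [CharP F 2]
variable {hF : Fintype.card F = q ^ 2} {t : G} {j : PSU n F q →* G}

/-- the Setup of a point -/
theorem setup_point [Finite G] (hF : Fintype.card F = q ^ 2) (hn : 6 ≤ n) (S : Sit n F q t j)
    (perf : ∀ L : Subgroup G, ⁅L, L⁆ = L → (∀ x ∈ L, t * x = x * t) → L ≤ j.range) {e f : Fin n → F}
    (H : Hyp q e f) :
    Setup t ((RR hF e H.ee).map j) ((QQ hF e H.ee).map j) ((PP q e).map j) ((HH hF H).map j) ∧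
      Lin ((RR hF e H.ee).map j) ((QQ hF e H.ee).map j) ((PP q e).map j) := by
  classical
  have Hs := heis hF (by omega) H S.inj
  obtain ⟨s, b, hfin, hne, g⟩ := exists_geo hF hn H
  have := Fintype.ofFinite s
  have hnt : Nontrivial (NN q e f) := ⟨⟨b (Classical.choice hne), 0, b.ne_zero _⟩⟩
  refine ⟨Hs.setup (hasTr hF H j) (lin' hF H j) (pairs hF hn H) g (cen hF (by omega) H S.inj) S.tt ?_ ?_ ?_ ?_ ?_
    ?_ ?_ ?_ ?_, ?_⟩
  · rintro ⟨x, -, hx⟩
    exact S.tK x hx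
  · exact map_mono (QQ_le_PP hF H.ee)
  · rintro _ ⟨x, -, rfl⟩
    exact S.tj x
  · rintro _ ⟨x, hx, rfl⟩ _ ⟨p, hp, rfl⟩
    rw [← map_mul, ← map_mul, PP_comm_RR hF H.ee hp hx]
  · rintro _ ⟨p, hp, rfl⟩ _ ⟨x, hx, rfl⟩
    rw [← map_inv, ← map_mul, ← map_mul]
    exact mem_map_of_mem _ (PP_conj_QQ hF H.ee hp hx)
  · rintro _ ⟨x, -, rfl⟩
    exact S.tj x
  · rintro _ ⟨h, hh, rfl⟩ _ ⟨x, hx, rfl⟩
    rw [← map_inv, ← map_mul, ← map_mul]
    exact mem_map_of_mem _ (HH_conj_RR hF H hh hx)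
  · rw [← map_commutator, PP_perfect hF hn H.ne_zero H.ee]
  · intro L hL htL hLX
    have h1 := perf L hL htL
    set L0 := L.comap j with hL0
    have h2 : L0.map j = L := map_comap_eq_self h1
    have h3 : ⁅L0, L0⁆ = L0 := by
      apply Subgroup.map_injective S.inj
      rw [map_commutator, h2, hL]
    rw [← h2]
    apply map_mono
    conv_lhs => rw [← h3]
    rw [commutator_le]
    have h4 : ∀ x ∈ L0, ∀ z ∈ RR hF e H.ee, x * z = z * x := by
      intro x hx z hz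
      apply S.inj
      rw [map_mul, map_mul]
      exact hLX _ hx _ (mem_map_of_mem _ hz)
    intro x hx y hy
    rw [commutatorElement_def]
    exact commutator_mem_PP hF (by omega) H (h4 x hx) (h4 y hy)
  · exact fun n hn hnQ hnX hnP => Hs.lin (hasTr hF H j) g hn hnQ hnX hnP

/-- the group `BG` of a point -/
theorem cent_point (hF : Fintype.card F = q ^ 2) (hn : 6 ≤ n) (S : Sit n F q t j) {u0 : Fin n → F} (h0 : u0 ≠ 0)
    (hu0 : hermForm n F q u0 u0 = 0)
    (ex : ∀ x ∈ (RR hF u0 hu0).map j, ∃ b : G, (∀ p ∈ (PP q u0).map j, b * p = p * b) ∧ b * t * b⁻¹ = t * x) :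
    Cent t ((RR hF u0 hu0).map j) ((PP q u0).map j) where
  tt := S.tt
  tX := by
    rintro ⟨x, -, hx⟩
    exact S.tK x hx
  X2 := by
    obtain ⟨f, H⟩ := exists_hyp hF h0 hu0
    exact fun x hx => (heis hF (by omega) H S.inj).X2 hx
  XP := map_mono ((RR_le_QQ hF hu0).trans (QQ_le_PP hF hu0))
  tP := by
    rintro _ ⟨x, -, rfl⟩
    exact S.tj x
  Xc := by
    rintro _ ⟨x, hx, rfl⟩ _ ⟨p, hp, rfl⟩
    rw [← map_mul, ← map_mul, PP_comm_RR hF hu0 hp hx]
  cP := by
    intro c hc hcP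
    obtain ⟨α, hα⟩ := S.exists_aut hc.symm
    obtain ⟨x, hx, rfl⟩ := autCent_point hF (by omega) h0 hu0 α (fun x hx => by
      apply S.inj
      rw [← hα, hcP _ (mem_map_of_mem _ (QQ_le_PP hF hu0 hx)), mul_inv_cancel_right])
    obtain ⟨μ, hμ, rfl⟩ := mem_RR.1 hx
    rcases S.eq_or hc.symm hα with h | h
    · left
      exact ⟨_, hx, h.symm⟩
    · right
      refine ⟨_, hx, ?_⟩
      rw [h, ← mul_assoc, S.tt, one_mul]
      rfl
  ex := ex

/-- stabilisers of the point are nice -/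
theorem nice_point (hF : Fintype.card F = q ^ 2) (S : Sit n F q t j) {u0 : Fin n → F}
    (hu0 : hermForm n F q u0 u0 = 0) {h0 g : SU n F q} {c b : F} (hc : c ≠ 0) (hg : act g u0 = c • u0)
    (hb : b ≠ 0) (hh : act h0 u0 = b • u0) :
    Nice t ((RR hF u0 hu0).map j) ((PP q u0).map j) (fj n F q j h0) (fj n F q j g) := by
  have hgi : act g⁻¹ u0 = c⁻¹ • u0 := by
    rw [eq_comm, ← act_eq_iff, act_smul, hg, smul_smul, inv_mul_cancel₀ hc, one_smul]
  have hhi : act h0⁻¹ u0 = b⁻¹ • u0 := by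
    rw [eq_comm, ← act_eq_iff, act_smul, hh, smul_smul, inv_mul_cancel₀ hb, one_smul]
  have hX : ∀ {g : SU n F q} {c : F}, c ≠ 0 → act g u0 = c • u0 → ∀ x ∈ (RR hF u0 hu0).map j,
      fj n F q j g * x * (fj n F q j g)⁻¹ ∈ (RR hF u0 hu0).map j := by
    rintro g c hc hg _ ⟨x, hx, rfl⟩
    refine ⟨_, RR_conj_mem hF hu0 hu0 hc hg hx, ?_⟩
    rw [map_mul, map_mul, map_inv]; rfl
  have hP : ∀ {g : SU n F q} {c : F}, c ≠ 0 → act g u0 = c • u0 → ∀ x ∈ (PP q u0).map j,
      fj n F q j g * x * (fj n F q j g)⁻¹ ∈ (PP q u0).map j := by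
    rintro g c hc hg _ ⟨x, hx, rfl⟩
    have h1 := PP_conj g hx
    rw [hg, PP_smul hc] at h1
    refine ⟨_, h1, ?_⟩
    rw [map_mul, map_mul, map_inv]; rfl
  refine ⟨(S.tj _).symm, fun x => ⟨hX hc hg x, fun h => ?_⟩, fun x => ⟨hP hc hg x, fun h => ?_⟩, ?_⟩
  · have h1 := hX (inv_ne_zero hc) hgi _ h
    rw [map_inv] at h1
    have e : (fj n F q j g)⁻¹ * (fj n F q j g * x * (fj n F q j g)⁻¹) * (fj n F q j g)⁻¹⁻¹ = x := by group
    rwa [e] at h1
  · have h1 := hP (inv_ne_zero hc) hgi _ h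
    rw [map_inv] at h1
    have e : (fj n F q j g)⁻¹ * (fj n F q j g * x * (fj n F q j g)⁻¹) * (fj n F q j g)⁻¹⁻¹ = x := by group
    rwa [e] at h1
  · refine ⟨pr n F q (g * h0 * g⁻¹ * h0⁻¹), mem_PP.2 ⟨_, ?_, rfl⟩, ?_⟩
    · rw [act_mul, act_mul, act_mul, hhi, act_smul, hgi, smul_smul, act_smul, hh, smul_smul, act_smul, hg, smul_smul]
      have : b⁻¹ * c⁻¹ * b * c = 1 := by field_simp
      rw [this, one_smul]
    · rw [map_mul, map_mul, map_mul, map_inv, map_inv, map_mul, map_mul, map_mul, map_inv, map_inv]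
      rfl

/-- A double in the sense of `D7Ex` is a base. -/
theorem base_of {u0 : Fin n → F} (hu0 : hermForm n F q u0 u0 = 0) {W0 : Subgroup G}
    (h : IsDbl t ((RR hF u0 hu0).map j) ((PP q u0).map j) W0)
    (norm : ∀ g : SU n F q, ∀ c : F, c ≠ 0 → act g u0 = c • u0 → ∀ w ∈ W0,
      fj n F q j g * w * (fj n F q j g)⁻¹ ∈ W0) (sq : q = 2 → ∀ w ∈ W0, w * w = 1) :
    Base hF t j u0 hu0 W0 where
  X_le := h.XW
  cent := fun w hw g hg => h.WP w hw _ ⟨pr n F q g, mem_PP.2 ⟨g, hg, rfl⟩, rfl⟩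
  brk := by
    intro w hw
    obtain ⟨x, hx, e⟩ := h.brk w hw
    exact ⟨x, hx, by rw [e]; group⟩
  surj := by
    intro x hx
    obtain ⟨w, hw, e⟩ := h.surj _ (mem_map_of_mem j hx)
    exact ⟨w, hw, by rw [← e]; group⟩
  fix := h.cent
  norm := norm
  sq := sq

theorem q_even (hF : Fintype.card F = q ^ 2) : Even q := by
  have h1 : 2 ∣ Fintype.card F := by
    have h2 : ((Fintype.card F : ℕ) : F) = 0 := Nat.cast_card_eq_zero F
    exact (CharP.cast_eq_zero_iff F 2 _).1 h2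
  rw [hF] at h1
  exact even_iff_two_dvd.2 (Nat.prime_two.dvd_of_dvd_pow h1)

/-- **Existence, `q > 2`.** -/
theorem exists_dbl_big [Finite G] (hF : Fintype.card F = q ^ 2) (hn : 6 ≤ n) (hq : q ≠ 2) (S : Sit n F q t j)
    (perf : ∀ L : Subgroup G, ⁅L, L⁆ = L → (∀ x ∈ L, t * x = x * t) → L ≤ j.range) {u0 : Fin n → F} (h0 : u0 ≠ 0)
    (hu0 : hermForm n F q u0 u0 = 0) {y : G} (hyX : ∀ x ∈ (RR hF u0 hu0).map j, y * x * y⁻¹ ∈ (RR hF u0 hu0).map j)
    (hyt : t * (y * t * y⁻¹) ∈ (RR hF u0 hu0).map j) (hne : y * t * y⁻¹ ≠ t) : ∃ W, Dbl hF t j W := by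
  obtain ⟨f, H⟩ := exists_hyp hF h0 hu0
  obtain ⟨St, hlin⟩ := setup_point hF hn S perf H
  obtain ⟨h, hh, hfree⟩ := exists_HH_free hF (by omega) hq H
  have hyN : y ∈ St.N := ⟨hyX, fun x hx => conj_inv_mem hyX hx, hyt⟩
  have Htr : ∀ x ∈ (RR hF u0 hu0).map j, ∀ y ∈ (RR hF u0 hu0).map j, x ≠ 1 → y ≠ 1 →
      ∃ h ∈ (HH hF H).map j, h * x * h⁻¹ = y := by
    rintro _ ⟨x, hx, rfl⟩ _ ⟨z, hz, rfl⟩ hx1 hz1
    obtain ⟨a, ha, e⟩ := HH_trans hF H hx hz (fun h => hx1 (by rw [h, map_one])) (fun h => hz1 (by rw [h, map_one]))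
    exact ⟨j a, mem_map_of_mem _ ha, by rw [← e, map_mul, map_mul, map_inv]⟩
  -- a nontrivial element of `X`
  have hx1 : ∃ x ∈ RR hF u0 hu0, x ≠ 1 := by
    obtain ⟨x, hx, e⟩ := hyt
    refine ⟨x, hx, ?_⟩
    rintro rfl
    apply hne
    rw [map_one] at e
    calc y * t * y⁻¹ = (t * t) * (y * t * y⁻¹) := by rw [S.tt, one_mul]
      _ = t * (t * (y * t * y⁻¹)) := by group
      _ = t := by rw [← e, mul_one]
  have ex : ∀ x ∈ (RR hF u0 hu0).map j, ∃ b : G, (∀ p ∈ (PP q u0).map j, b * p = p * b) ∧ b * t * b⁻¹ = t * x := by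
    intro x hx
    refine St.exists_cent_of_big hlin Htr ⟨j h, mem_map_of_mem _ hh, ?_, ?_⟩ hyN hne hx
    · rintro _ ⟨p, hp, rfl⟩
      rw [← map_inv, ← map_inv, ← map_mul, ← map_mul, ← map_mul]
      exact mem_map_of_mem _ (HH_conj_PP hF H hh hp)
    · obtain ⟨x, hx, hx1⟩ := hx1
      refine ⟨j x, mem_map_of_mem _ hx, fun he => hx1 (hfree x hx ?_)⟩
      apply S.inj
      rw [map_mul, map_mul, map_inv]
      exact he
  have C := cent_point hF hn S h0 hu0 ex
  obtain ⟨b, hb, hbq, rfl⟩ := hh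
  have hact : act (hyp hF H b hb hbq) u0 = b • u0 := act_hyp_e hF H hb hbq
  have hnice : ∀ g : SU n F q, ∀ c : F, c ≠ 0 → act g u0 = c • u0 →
      Nice t ((RR hF u0 hu0).map j) ((PP q u0).map j) (fj n F q j (hyp hF H b hb hbq)) (fj n F q j g) :=
    fun g c hc hg => nice_point hF S hu0 hc hg hb hact
  have hh := hnice _ b hb hact
  have h2 := two_le hF
  have hpow : (fj n F q j (hyp hF H b hb hbq)) ^ (q - 1) = 1 := by
    rw [← map_pow]
    have h3 : ∀ k : ℕ, ∃ (hb' : b ^ k ≠ 0) (hbq' : (b ^ k) ^ q = b ^ k),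
        hyp hF H b hb hbq ^ k = hyp hF H (b ^ k) hb' hbq' := by
      intro k
      induction k with
      | zero => exact ⟨by simp, by simp, by
          rw [pow_zero]
          have := hyp_one hF H one_ne_zero (one_pow q)
          rw [← this]
          congr 1; rw [pow_zero]⟩
      | succ k ih =>
        obtain ⟨h1, h2, e⟩ := ih
        refine ⟨pow_ne_zero _ hb, by rw [← pow_mul, mul_comm, pow_mul, hbq], ?_⟩
        rw [pow_succ, e, hyp_mul]
        congr 1
        rw [pow_succ]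
    obtain ⟨h4, h5, e⟩ := h3 (q - 1)
    have hb1 : b ^ (q - 1) = 1 := by
      have h6 : b ^ (q - 1) * b = 1 * b := by
        rw [← pow_succ, Nat.sub_add_cancel (by omega), hbq, one_mul]
      exact mul_right_cancel₀ hb h6
    rw [e]
    have h7 : hyp hF H (b ^ (q - 1)) h4 h5 = 1 := by
      rw [← hyp_one hF H one_ne_zero (one_pow q)]
      congr 1
    rw [h7, map_one]
  have hodd : Odd (q - 1) := by
    have := q_even hF
    obtain ⟨k, hk⟩ := this
    exact ⟨k - 1, by omega⟩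
  have hfr : ∀ x ∈ (RR hF u0 hu0).map j, fj n F q j (hyp hF H b hb hbq) * x * (fj n F q j (hyp hF H b hb hbq))⁻¹ = x →
      x = 1 := by
    rintro _ ⟨x, hx, rfl⟩ he
    rw [hfree x hx (by
      apply S.inj
      rw [map_mul, map_mul, map_inv]
      exact he), map_one]
  have hD := C.isDbl_big hh hpow hodd hfr
  exact ⟨_, (base_of hu0 hD (fun g c hc hg w hw => C.nice_big hh _ (hnice g c hc hg) hw)
    (fun h => absurd h hq)).dbl S (by omega) h0⟩

/-- **Existence, `q = 2`.** -/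
theorem exists_dbl_two (hF : Fintype.card F = q ^ 2) (hn : 6 ≤ n) (S : Sit n F q t j) {u0 : Fin n → F}
    (h0 : u0 ≠ 0) (hu0 : hermForm n F q u0 u0 = 0) {y : G} {z : PSU n F q} (hz : z ∈ RR hF u0 hu0)
    (hzz : ∀ x ∈ RR hF u0 hu0, x = 1 ∨ x = z) (hy : y * t * y⁻¹ = t * j z) {p0 : PSU n F q} (hp0 : p0 ∈ PP q u0)
    (hyp : ∀ p ∈ PP q u0, y * j p * y⁻¹ = j (p0 * p * p0⁻¹)) : ∃ W, Dbl hF t j W := by
  have ex : ∀ x ∈ (RR hF u0 hu0).map j, ∃ b : G, (∀ p ∈ (PP q u0).map j, b * p = p * b) ∧ b * t * b⁻¹ = t * x := by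
    rintro _ ⟨x, hx, rfl⟩
    rcases hzz x hx with rfl | rfl
    · exact ⟨1, fun p _ => by rw [one_mul, mul_one], by rw [map_one]; group⟩
    · refine ⟨(j p0)⁻¹ * y, ?_, ?_⟩
      · rintro _ ⟨p, hp, rfl⟩
        have h1 := hyp p hp
        rw [map_mul, map_mul, map_inv] at h1
        calc (j p0)⁻¹ * y * j p = (j p0)⁻¹ * (y * j p * y⁻¹) * y := by group
          _ = j p * ((j p0)⁻¹ * y) := by rw [h1]; group
      · have h1 : j p0 * (t * j x) = t * j x * j p0 := by
          rw [← mul_assoc, ← S.tj, mul_assoc, mul_assoc, ← map_mul, ← map_mul, PP_comm_RR hF hu0 hp0 hx]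
        calc (j p0)⁻¹ * y * t * ((j p0)⁻¹ * y)⁻¹ = (j p0)⁻¹ * ((y * t * y⁻¹) * j p0) := by group
          _ = (j p0)⁻¹ * (j p0 * (t * j x)) := by rw [hy, h1]
          _ = t * j x := by group
  have C := cent_point hF hn S h0 hu0 ex
  have hz' : ∀ x ∈ (RR hF u0 hu0).map j, x = 1 ∨ x = j z := by
    rintro _ ⟨x, hx, rfl⟩
    rcases hzz x hx with rfl | rfl
    · left; exact map_one j
    · right; rfl
  have hnice : ∀ g : SU n F q, ∀ c : F, c ≠ 0 → act g u0 = c • u0 →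
      Nice t ((RR hF u0 hu0).map j) ((PP q u0).map j) (fj n F q j 1) (fj n F q j g) :=
    fun g c hc hg => nice_point hF S hu0 hc hg one_ne_zero (by rw [act_one, one_smul])
  exact ⟨_, (base_of hu0 (C.isDbl_two hz') (fun g c hc hg w hw => C.nice_two hz' (hnice g c hc hg) hw)
    (fun _ w hw => hw.2.1)).dbl S (by omega) h0⟩

end Cfsg.Agent.OddHalf.D7.Uni.Ex

end

-- merged: Cfsg.Agent.OddHalf.D7.Uni.RowStart
section

/-!
# ODD D7, `K ≅ PSU_n(q)`, `q > 2` even, `n ≥ 6`: the start of the row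

`exists_dbl` : from `Ctx`, `Std`, `Cyc`: `C(K) ∩ C(t) = ⟨t⟩`, the situation `Face.Sit` and a family `Face.Dbl`.
-/

set_option autoImplicit false
set_option linter.unusedSectionVars false

namespace Cfsg.Agent.OddHalf.D7.Uni.RowStart

open Subgroup
open scoped commutatorElement
open Cfsg Cfsg.Agent.LieClassical.HermBasic Cfsg.Agent.LieClassical.HermSiegel
  Cfsg.Agent.LieClassical.HermGen Cfsg.Agent.LieClassical.SUBasic Matrix
  Cfsg.Agent.ClassicalGeometry.PSUAutBasic Cfsg.Agent.ClassicalGeometry.PSUAutSylow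
  Cfsg.Agent.ClassicalGeometry.PSUAutUnip Cfsg.Agent.KFacts.Unit
  Cfsg.Agent.OddHalf.D7.Uni.Face

section K

variable {F : Type*} [Field F] [Fintype F] {q n : ℕ} [CharP F 2]

/-- an element commuting with one nontrivial element of `RR u` fixes the point -/
theorem eigen_of_commute (hF : Fintype.card F = q ^ 2) (hn : 3 ≤ n) {u : Fin n → F} (hu0 : u ≠ 0)
    (hu : hermForm n F q u u = 0) {y : PSU n F q} (hy : y ∈ RR hF u hu) (hy1 : y ≠ 1) {a : SU n F q}
    (hxy : pr n F q a * y = y * pr n F q a) : ∃ c : F, c ≠ 0 ∧ act a u = c • u := by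
  obtain ⟨μ, hμ, rfl⟩ := mem_RR.1 hy
  have hμ0 : μ ≠ 0 := by
    rintro rfl
    exact hy1 (by rw [transv_zero, map_one])
  have h1 : pr n F q (a * transv hF u hu μ hμ * a⁻¹) = pr n F q (transv hF u hu μ hμ) := by
    rw [map_mul, map_mul, map_inv, hxy, mul_inv_cancel_right]
  rw [transv, conj_siegel] at h1
  have h2 := siegel_pr_inj hF hn _ _ h1
  obtain ⟨f, -, huf, hfu⟩ := exists_partner hF hu0 hu
  have h3 := congrArg (fun g => act g f) h2
  simp only [act_siegel] at h3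
  rw [act_zero, smul_zero, smul_zero, herm_zero_right hF, sub_zero, sub_zero, add_zero, add_right_inj, hfu,
    mul_one] at h3
  have hne : μ * hermForm n F q f (act a u) ≠ 0 := by
    intro h0
    rw [h0, zero_smul] at h3
    rcases smul_eq_zero.1 h3.symm with h5 | h5
    · exact hμ0 h5
    · exact hu0 h5
  refine ⟨(μ * hermForm n F q f (act a u))⁻¹ * μ, mul_ne_zero (inv_ne_zero hne) hμ0, ?_⟩
  rw [mul_smul, ← h3, smul_smul, inv_mul_cancel₀ hne, one_smul]

/-- perfect subgroups centralising one nontrivial element of `RR u` lie in `PP u` -/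
theorem perfect_le_PP (hF : Fintype.card F = q ^ 2) (hn : 3 ≤ n) {u : Fin n → F} (hu0 : u ≠ 0)
    (hu : hermForm n F q u u = 0) {y : PSU n F q} (hy : y ∈ RR hF u hu) (hy1 : y ≠ 1)
    {L : Subgroup (PSU n F q)} (hL : ⁅L, L⁆ = L) (hLy : ∀ x ∈ L, x * y = y * x) : L ≤ PP q u := by
  rw [← hL, commutator_le]
  intro a ha b hb
  have ha' := hLy a ha
  have hb' := hLy b hb
  obtain ⟨g, rfl⟩ := pr_surjective a
  obtain ⟨h, rfl⟩ := pr_surjective b
  obtain ⟨c, hc, hcg⟩ := eigen_of_commute hF hn hu0 hu hy hy1 ha'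
  obtain ⟨d, hd, hdh⟩ := eigen_of_commute hF hn hu0 hu hy hy1 hb'
  have hgi : act g⁻¹ u = c⁻¹ • u := by
    have : act g⁻¹ (act g u) = u := act_inv_act g u
    rw [hcg, act_smul] at this
    rw [← this, smul_smul, inv_mul_cancel₀ hc, one_smul, this]
  have hhi : act h⁻¹ u = d⁻¹ • u := by
    have : act h⁻¹ (act h u) = u := act_inv_act h u
    rw [hdh, act_smul] at this
    rw [← this, smul_smul, inv_mul_cancel₀ hd, one_smul, this]
  refine mem_PP.2 ⟨⁅g, h⁆, ?_, map_commutatorElement _ _ _⟩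
  rw [commutatorElement_def]
  simp only [act_mul, act_smul, hhi, hgi, hdh, hcg, smul_smul]
  have : d⁻¹ * (c⁻¹ * (d * c)) = 1 := by field_simp
  rw [this, one_smul]

end K

section G

universe u

variable {F : Type*} [Field F] [Fintype F] {q n : ℕ} [CharP F 2] {G : Type u} [Group G]

/-- the embedding of `PSU` -/
def emb {K : Subgroup G} (e : ↥K ≃* PSU n F q) : PSU n F q →* G := K.subtype.comp e.symm.toMonoidHom

theorem emb_apply {K : Subgroup G} (e : ↥K ≃* PSU n F q) (x : PSU n F q) : emb e x = (e.symm x : G) := rfl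

theorem emb_mem {K : Subgroup G} (e : ↥K ≃* PSU n F q) (x : PSU n F q) : emb e x ∈ K := (e.symm x).2

theorem emb_range {K : Subgroup G} (e : ↥K ≃* PSU n F q) : (emb e).range = K := by
  ext x
  constructor
  · rintro ⟨y, rfl⟩; exact emb_mem e y
  · intro hx
    refine ⟨e ⟨x, hx⟩, ?_⟩
    rw [emb_apply, MulEquiv.symm_apply_apply]

theorem emb_inj {K : Subgroup G} (e : ↥K ≃* PSU n F q) : Function.Injective (emb e) :=
  K.subtype_injective.comp e.symm.injective

/-- `Face.Sit` from the start -/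
theorem sit [Finite G] {K : Subgroup G} {t : G} (e : ↥K ≃* PSU n F q) (S : Front.FE.Start K t t) :
    Sit n F q t (emb e) where
  inj := emb_inj e
  tt := S.tt
  tj := fun x => (S.toStart0.Kt _ (emb_mem e x)).symm
  tK := by
    intro x hx
    have h1 : t ∈ K := hx ▸ emb_mem e x
    exact S.t1 (S.cen t h1 fun y hy => S.toStart0.Kt y hy)
  norm := by
    intro c hc x
    have h1 : c * emb e x * c⁻¹ ∈ K := (mem_normalizer_iff.1 (S.nK c hc) _).1 (emb_mem e x)
    refine ⟨e ⟨_, h1⟩, ?_⟩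
    rw [emb_apply _ (e ⟨_, h1⟩), MulEquiv.symm_apply_apply]
  ker := by
    intro c hc h
    have h1 : c ∈ zpowers t := S.cK c hc fun x hx => by
      have h2 := h (e ⟨x, hx⟩)
      rw [emb_apply, MulEquiv.symm_apply_apply] at h2
      exact h2.symm
    obtain ⟨i, rfl⟩ := mem_zpowers_iff.1 h1
    rcases Int.even_or_odd' i with ⟨m, rfl | rfl⟩
    · left
      rw [_root_.zpow_mul, zpow_ofNat, pow_two, S.tt, _root_.one_zpow]
    · right
      rw [_root_.zpow_add, _root_.zpow_mul, zpow_ofNat, pow_two, S.tt, _root_.one_zpow, one_mul, zpow_one]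

/-- **The start of the row**, `q > 2`. -/
theorem exists_dbl (C : Iface.Ctx G) {K : Subgroup G} (S : Iface.Std G K) (hcyc : Iface.Cyc K)
    (hF : Fintype.card F = q ^ 2) (hn : 6 ≤ n) (hq : q ≠ 2) (e : ↥K ≃* PSU n F q)
    (hc : D7Out.TwChoice.CycOut (PSU n F q)) :
    ∃ t : G, Front.FE.Start K t t ∧ D7Out.TwChoice.CycT t t K ∧ Schreier.Basic.Sch ↥K ∧
      ∃ W, Dbl hF t (emb e) W := by
  have := C.fin
  have : Fact (Nat.Prime 2) := ⟨Nat.prime_two⟩
  obtain ⟨U⟩ : Nonempty (Sylow 2 (PSU n F q)) := inferInstance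
  obtain ⟨u, hu0, hu, hQU, hUP, hkf⟩ := KF.exists_kf hF hn U
  have hcen : center ↥K = ⊥ := by
    rw [eq_bot_iff]
    intro x hx
    have h1 : e x ∈ center (PSU n F q) := by
      rw [mem_center_iff]
      intro y
      rw [← e.apply_symm_apply y, ← map_mul, ← map_mul, mem_center_iff.1 hx]
    rw [center_eq_bot' hF hn hu0 hu, mem_bot] at h1
    rw [mem_bot]
    exact e.injective (by rw [h1, map_one])
  have hsch : Schreier.Basic.Sch ↥K :=
    Schreier.Basic.Sch.of_equiv e.symm (Schreier.PSU.sch hF (by omega) (by omega))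
  have hc' : D7Out.TwChoice.CycOut ↥K := D7Out.TwChoice.CycOut.of_equiv e.symm hc
  obtain ⟨t, T, m, z, St, O⟩ := D7Out.FrontCyc.front_ctx C S hcyc hcen (hkf.map e.symm) hsch hc'
  have hS := sit e St
  refine ⟨t, St, D7Out.TwChoice.cycT_of St.toStart0 hc', hsch, ?_⟩
  have perf : ∀ L : Subgroup G, ⁅L, L⁆ = L → (∀ x ∈ L, t * x = x * t) → L ≤ (emb e).range := by
    intro L hL hLt
    rw [emb_range]
    exact D7Out.FrGen.perf_le St.toStart0 hsch (fun x hx => (hLt x hx).symm) hL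
  have hZ : ((RR hF u hu).map e.symm.toMonoidHom).map K.subtype = (RR hF u hu).map (emb e) := by
    rw [Subgroup.map_map]; rfl
  have hzZ := O.sw.zZ
  rw [hZ] at hzZ
  obtain ⟨z0, hz0, hz0z⟩ := hzZ
  have hz01 : z0 ≠ 1 := by
    rintro rfl
    apply O.sw.z1
    rw [← hz0z, map_one]
  have hPt : ∀ p ∈ (PP q u : Subgroup (PSU n F q)).map (emb e), p * t = t * p := by
    rintro _ ⟨p, -, rfl⟩
    exact (hS.tj p).symm
  have hnP := O.sw.conj_P (P := (PP q u : Subgroup (PSU n F q)).map (emb e))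
    (by rw [← map_commutator, PP_perfect hF hn hu0 hu]) hPt
    (by
      rintro _ ⟨p, hp, rfl⟩
      rw [← hz0z, ← map_mul, ← map_mul, PP_comm_RR hF hu hp hz0])
    (by
      intro L hL hLt hLz
      have h1 := perf L hL fun x hx => (hLt x hx).symm
      set L0 := L.comap (emb e) with hL0
      have h2 : L0.map (emb e) = L := map_comap_eq_self h1
      have h3 : ⁅L0, L0⁆ = L0 := by
        apply Subgroup.map_injective hS.inj
        rw [map_commutator, h2, hL]
      rw [← h2]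
      refine map_mono (perfect_le_PP hF (by omega) hu0 hu hz0 hz01 h3 fun x hx => ?_)
      apply hS.inj
      rw [map_mul, map_mul, hz0z]
      exact hLz _ hx)
  have hnX := D7Out.FrontN.Swap.conj_Z (Z := (RR hF u hu).map (emb e)) hnP
    (map_mono ((RR_le_QQ hF hu).trans (QQ_le_PP hF hu)))
    (by
      rintro _ ⟨x, hx, rfl⟩ _ ⟨p, hp, rfl⟩
      rw [← map_mul, ← map_mul, PP_comm_RR hF hu hp hx])
    (by
      rintro _ ⟨g, hg, rfl⟩ h
      refine mem_map_of_mem _ (mem_RR_of_comm hF (by omega) hu0 hu hg fun s hs => ?_)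
      apply hS.inj
      rw [map_mul, map_mul]
      exact (h _ (mem_map_of_mem _ (QQ_le_PP hF hu hs))).symm)
  refine Ex.exists_dbl_big hF hn hq hS perf hu0 hu (y := m) hnX ?_ ?_
  · rw [O.sw.nt, ← mul_assoc, St.tt, one_mul, ← hz0z]
    exact mem_map_of_mem _ hz0
  · rw [O.sw.nt]
    intro h
    exact O.sw.z1 (mul_eq_left.1 h)

end G

end Cfsg.Agent.OddHalf.D7.Uni.RowStart

end

-- merged: Cfsg.Agent.KFacts.Unit.SheetTwoAut
section

/-!
# Two automorphism facts about `PSU n F 2`, `n ≥ 6`, relative to the centraliser of a transvection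

`aut`: an automorphism of 2-power order trivial on `PP / QQ` is conjugation by an element of `QQ`.
`ytrick`: an automorphism of `PP` fixing the transvection moves a transvection of `PP` to a conjugate.
-/

set_option autoImplicit false

namespace Cfsg.Agent.KFacts.Unit.SheetTwoAut

open Cfsg Matrix Cfsg.Agent.LieClassical.HermBasic Cfsg.Agent.LieClassical.HermSiegel
  Cfsg.Agent.LieClassical.HermGen Cfsg.Agent.LieClassical.SUBasic
  Cfsg.Agent.ClassicalGeometry.PSUAutBasic Cfsg.Agent.ClassicalGeometry.PSUAutSylow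
  Cfsg.Agent.ClassicalGeometry.PSUAutUnip Cfsg.Agent.ClassicalGeometry.PSUAutPhi
  Cfsg.Agent.ClassicalGeometry.PSUAutExt Cfsg.Agent.ClassicalGeometry.PSUAutSemi
  Cfsg.Agent.KFacts.Unit Cfsg.Agent.OddHalf.D7.Uni.PentGlue

open Cfsg.Agent.ClassicalGeometry.PSUAutCount (gm semiConj toAut herm_gm act_semiConj herm_semi
  gm_inv_mulVec gm_mulVec_inv gm_mul)

variable {F : Type*} [Field F] [Fintype F] {q n : ℕ} {e f : Fin n → F}

/-- Restriction of an automorphism to `PP`. -/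
theorem exists_res {u : Fin n → F} (α : MulAut (PSU n F q)) (h : ∀ x ∈ PP q u, α x ∈ PP q u) :
    ∃ β : MulAut ↥(PP q u : Subgroup (PSU n F q)), ∀ x, (β x : PSU n F q) = α x := by
  let b : ↥(PP q u : Subgroup (PSU n F q)) →* ↥(PP q u : Subgroup (PSU n F q)) :=
    { toFun := fun x => ⟨α x, h x x.2⟩
      map_one' := Subtype.ext (map_one α)
      map_mul' := fun x y => Subtype.ext (map_mul α _ _) }
  have hb : Function.Injective b := fun x y hxy =>
    Subtype.ext (α.injective (congrArg (fun z : ↥(PP q u : Subgroup (PSU n F q)) => (z : PSU n F q)) hxy))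
  exact ⟨MulEquiv.ofBijective b (Finite.injective_iff_bijective.1 hb), fun x => rfl⟩

/-- An automorphism of `PP` preserving the inclusion `QQ ≤ QQ` preserves `QQ`. -/
theorem presQ_of_le [CharP F 2] (hF : Fintype.card F = q ^ 2) (he : hermForm n F q e e = 0)
    {β : MulAut ↥(PP q e : Subgroup (PSU n F q))}
    (h : ∀ x : ↥(PP q e : Subgroup (PSU n F q)), (x : PSU n F q) ∈ QQ hF e he → (β x : PSU n F q) ∈ QQ hF e he) :
    PresQ hF he β := by
  intro x
  refine ⟨h x, fun hx => ?_⟩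
  let QP : Subgroup ↥(PP q e : Subgroup (PSU n F q)) := (QQ hF e he).subgroupOf (PP q e)
  have hle : QP.map (β : ↥(PP q e : Subgroup (PSU n F q)) →* ↥(PP q e : Subgroup (PSU n F q))) ≤ QP := by
    rintro _ ⟨w, hw, rfl⟩
    exact h w hw
  have hcard : Nat.card (QP.map (β : ↥(PP q e : Subgroup (PSU n F q)) →* ↥(PP q e : Subgroup (PSU n F q)))) =
      Nat.card QP := (Nat.card_congr (Subgroup.equivMapOfInjective _ _ β.injective).toEquiv).symm
  have heq := Subgroup.eq_of_le_of_card_ge hle hcard.ge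
  have h1 : β x ∈ QP := hx
  rw [← heq] at h1
  obtain ⟨w, hw, hwx⟩ := h1
  have : w = x := β.injective hwx
  rw [← this]
  exact hw

/-- **Every automorphism of `PP` preserves `QQ = O₂(PP)`.** -/
theorem presQ [CharP F 2] (hF : Fintype.card F = q ^ 2) (hn : 3 ≤ n) (H : IsFrame q e f)
    (β : MulAut ↥(PP q e : Subgroup (PSU n F q))) : PresQ hF H.ee β := by
  have : Fact (Nat.Prime 2) := ⟨Nat.prime_two⟩
  have he0 := frame_ne_zero H
  apply presQ_of_le
  have hQP := QQ_le_PP (n := n) hF H.ee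
  let N : Subgroup (PSU n F q) := (((QQ hF e H.ee).subgroupOf (PP q e)).map
    (β : ↥(PP q e : Subgroup (PSU n F q)) →* ↥(PP q e : Subgroup (PSU n F q)))).map (PP q e).subtype
  have hN : N ≤ QQ hF e H.ee := by
    apply le_QQ hF hn 2 H
    · refine IsPGroup.map (IsPGroup.map ?_ _) _
      have h1 : IsPGroup 2 (QQ hF e H.ee) := (isPGroup_siegG hF 2 H.ee).map _
      exact h1.comap_subtype
    · rintro g ⟨x, -, hx⟩
      obtain ⟨g', hg', hx'⟩ := mem_PP.1 x.2
      have h1 : pr n F q g = pr n F q g' := by rw [← hx, hx']; rfl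
      obtain ⟨ζ, hζ, h2⟩ := exists_center_mul h1
      obtain ⟨c, hc0, -, hc⟩ := exists_scalar_of_mem_center hF hn hζ
      rw [h2, act_mul, hc, act_smul] at hg'
      refine ⟨c⁻¹, inv_ne_zero hc0, ?_⟩
      conv_rhs => rw [← hg']
      rw [smul_smul, inv_mul_cancel₀ hc0, one_smul]
    · rintro g hg _ ⟨_, ⟨x, hx, rfl⟩, rfl⟩
      set p : ↥(PP q e : Subgroup (PSU n F q)) := ⟨pr n F q g, mem_PP.2 ⟨g, hg, rfl⟩⟩ with hp
      refine ⟨p * β x * p⁻¹, ⟨β⁻¹ p * x * (β⁻¹ p)⁻¹, ?_, ?_⟩, rfl⟩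
      · exact PP_conj_QQ hF H.ee (β⁻¹ p).2 hx
      · change β _ = _
        rw [map_mul, map_mul, map_inv, MulAut.apply_inv_self]
  intro x hx
  exact hN ⟨β x, ⟨x, hx, rfl⟩, rfl⟩

/-- **An automorphism of 2-power order trivial on `PP / QQ` is conjugation by an element of `QQ`.** -/
theorem aut [CharP F 2] (hF : Fintype.card F = 2 ^ 2) (hn : 6 ≤ n) (H : IsFrame 2 e f) (α : MulAut (PSU n F 2))
    (hα : IsPGroup 2 (Subgroup.zpowers α)) (h11 : (1 : F) + 1 ^ 2 = 0)
    (hαz : α (pr n F 2 (transv hF e H.ee 1 h11)) = pr n F 2 (transv hF e H.ee 1 h11))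
    (h : ∀ x ∈ PP 2 e, x⁻¹ * α x ∈ QQ hF e H.ee) : ∃ r ∈ QQ hF e H.ee, α = MulAut.conj r := by
  have he0 := frame_ne_zero H
  have hQP := QQ_le_PP (n := n) hF H.ee
  have hPP : ∀ x ∈ PP 2 e, α x ∈ PP 2 e := by
    intro x hx
    have h1 : x * (x⁻¹ * α x) ∈ PP 2 e := mul_mem hx (hQP (h x hx))
    rwa [mul_inv_cancel_left] at h1
  obtain ⟨β, hβ⟩ := exists_res α hPP
  have hPres : PresQ hF H.ee β := presQ hF (by omega) H β
  obtain ⟨φ, hφ, -⟩ := exists_indP_equiv hF (by omega) H hPres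
  -- `φ` is a scalar
  obtain ⟨κ, hκ⟩ := schur_coord hF (by omega) (by omega) (φ : coordSub F n (n - 2) →+ coordSub F n (n - 2)) (by
    intro s hss w
    set l := transv hF (s : Fin n → F) hss 1 h11 with hl
    have hse : hermForm n F 2 (e : Fin n → F) s = 0 := herm_eq_zero_swap hF ((H.mem s).1 s.2).1
    have hle : act l e = e := by rw [hl, act_transv, hse, mul_zero, zero_smul, add_zero]
    have hlv : ∀ v : coordSub F n (n - 2), prV hF H (act l v) = v + hermForm n F 2 (v : Fin n → F) s • s := by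
      intro v
      rw [hl, act_transv, one_mul, prV_add, prV_smul, prV_of_mem, prV_of_mem]
    obtain ⟨w1, μ1, h1, e1⟩ := mem_QQ.1 (h _ (mem_PP.2 ⟨l, hle, rfl⟩))
    have hle' : act (l * siegel hF e w1 μ1 h1) e = e := by rw [act_mul, act_siegel_self, hle]
    have hll : (β ⟨pr n F 2 l, mem_PP.2 ⟨l, hle, rfl⟩⟩ : PSU n F 2) = pr n F 2 (l * siegel hF e w1 μ1 h1) := by
      rw [hβ, map_mul, ← e1, mul_inv_cancel_left]
    have E := IndP.equivariant (by omega) H hφ hle hle' hll w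
    have h2 : prV hF H (act (l * siegel hF e w1 μ1 h1) (φ w)) = prV hF H (act l (φ w)) := by
      have h3 : act (siegel hF e w1 μ1 h1) (φ w : Fin n → F) =
          (φ w : Fin n → F) + (-hermForm n F 2 (φ w : Fin n → F) w1) • e := by
        rw [act_siegel, ((H.mem _).1 (φ w).2).1]
        simp
      rw [act_mul, h3, act_add, act_smul, hle, prV_add, prV_smul]
      have h5 : prV hF H e = 0 := by
        apply Subtype.ext
        rw [prV_coe, H.ef, H.ee, one_smul, zero_smul, sub_self, sub_zero]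
        rfl
      rw [h5, smul_zero, add_zero]
    rw [h2, hlv, hlv, map_add] at E
    exact add_left_cancel E)
  -- the scalar is one
  have hκ1 : κ = 1 := by
    obtain ⟨k, hk⟩ := hα ⟨α, Subgroup.mem_zpowers α⟩
    have hk' : α ^ 2 ^ k = 1 := congrArg Subtype.val hk
    have hpow : ∀ m : ℕ, IndP hF (β ^ m) (fun w => κ ^ m • w) := by
      intro m
      induction m with
      | zero =>
        have := IndP.one (n := n) (e := e) hF
        rw [pow_zero]
        intro w μ h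
        obtain ⟨μ', h', e1⟩ := this w μ h
        refine ⟨μ', ?_, ?_⟩
        · simp only [pow_zero, one_smul]
          exact h'
        · rw [e1]
          congr 1
          exact siegel_congr hF _ _ rfl (by simp) rfl
      | succ m ih =>
        have h1 := IndP.mul (α := β) hφ ih
        have h2 : (φ ∘ fun w : coordSub F n (n - 2) => κ ^ m • w) = fun w => κ ^ (m + 1) • w := by
          funext w
          change φ (κ ^ m • w) = _
          have := hκ (κ ^ m • w)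
          change φ (κ ^ m • w) = _ at this
          rw [this, smul_smul, pow_succ']
        rw [pow_succ', ← h2]
        exact h1
    have hβk : β ^ 2 ^ k = 1 := by
      ext x
      have h1 : ∀ m : ℕ, ((β ^ m) x : PSU n F 2) = (α ^ m) x := by
        intro m
        induction m with
        | zero => rfl
        | succ m ih => rw [pow_succ', pow_succ', MulAut.mul_apply, MulAut.mul_apply, hβ, ih]
      rw [h1, hk']
      rfl
    have h1 := hpow (2 ^ k)
    rw [hβk] at h1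
    have h2 := IndP.unique (by omega) H h1 (IndP.one hF)
    let i0 : Fin n := ⟨0, by omega⟩
    have hi0 : i0.val < n - 2 := by simp [i0]; omega
    have h3 := congrFun h2 (bas F n i0)
    change κ ^ 2 ^ k • bas F n i0 = bas F n i0 at h3
    have h4 : κ ^ 2 ^ k = 1 := by
      have h5 : κ ^ 2 ^ k • bas F n i0 = (1 : F) • bas F n i0 := by rw [one_smul]; exact h3
      exact smul_left_injective F (bas_ne_zero (F := F) hi0) h5
    have : Fact (Nat.Prime 2) := ⟨Nat.prime_two⟩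
    have h5 : (κ - 1) ^ 2 ^ k = 0 := by rw [sub_pow_char_pow, h4, one_pow, sub_self]
    exact sub_eq_zero.1 (eq_zero_of_pow_eq_zero h5)
  subst hκ1
  -- conclusion
  obtain ⟨s, hs, hconj⟩ := autCent_mod hF (by omega) he0 H.ee α (fun x hx => by
    obtain ⟨μ, hμ, rfl⟩ := mem_RR.1 hx
    rcases zero_or_one_of_trace hμ with rfl | rfl
    · rw [transv_zero, map_one, map_one]
    · exact hαz) (fun x hx => by
    obtain ⟨w1, μ1, h1, rfl⟩ := mem_QQ.1 hx
    obtain ⟨w', hw', μ', h', e2⟩ := exists_normal hF H h1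
    rw [e2]
    obtain ⟨μ2, h2, e3⟩ := hφ ⟨w', hw'⟩ μ' h'
    have h3 : φ ⟨w', hw'⟩ = ⟨w', hw'⟩ := by
      have := hκ ⟨w', hw'⟩
      rw [one_smul] at this
      exact this
    rw [hβ] at e3
    change α (pr n F 2 (siegel hF e w' μ' h')) = _ at e3
    have h4 : IsSiegel 2 e w' μ2 := by rw [h3] at h2; exact h2
    have h5 : siegel hF e (φ ⟨w', hw'⟩ : Fin n → F) μ2 h2 = siegel hF e w' μ2 h4 :=
      siegel_congr hF _ _ rfl (by rw [h3]) rfl
    have hν : (μ2 - μ') + (μ2 - μ') ^ 2 = 0 := by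
      have t1 := h4.tr
      have t2 := h'.tr
      rw [sub_pow_q hF]
      linear_combination t1 - t2
    refine mem_RR.2 ⟨μ2 - μ', hν, ?_⟩
    rw [e3, h5, mul_inv_eq_iff_eq_mul, ← map_mul, transv, siegel_mul]
    congr 1
    exact siegel_congr hF _ _ rfl (zero_add _).symm (by rw [herm_zero_right hF]; ring))
  exact ⟨pr n F 2 s, ⟨s, hs, rfl⟩, hconj⟩

/-- **The `y`-trick.** -/
theorem ytrick [CharP F 2] (hF : Fintype.card F = 2 ^ 2) (hn : 6 ≤ n) (H : IsFrame 2 e f)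
    (h11 : (1 : F) + 1 ^ 2 = 0) (hzP : pr n F 2 (transv hF e H.ee 1 h11) ∈ PP 2 e) :
    ∃ k : PSU n F 2, k * pr n F 2 (transv hF e H.ee 1 h11) * k⁻¹ ∈ PP 2 e ∧
      k * pr n F 2 (transv hF e H.ee 1 h11) * k⁻¹ ∉ QQ hF e H.ee ∧
      ∃ hw : k⁻¹ * pr n F 2 (transv hF e H.ee 1 h11) * k ∈ PP 2 e,
        ∀ β : MulAut ↥(PP 2 e : Subgroup (PSU n F 2)),
          (β ⟨pr n F 2 (transv hF e H.ee 1 h11), hzP⟩ : PSU n F 2) = pr n F 2 (transv hF e H.ee 1 h11) →
          ∃ p : PSU n F 2, p * pr n F 2 (transv hF e H.ee 1 h11) = pr n F 2 (transv hF e H.ee 1 h11) * p ∧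
            (β ⟨k⁻¹ * pr n F 2 (transv hF e H.ee 1 h11) * k, hw⟩ : PSU n F 2) =
              p * (k⁻¹ * pr n F 2 (transv hF e H.ee 1 h11) * k) * p⁻¹ := by
  have he0 := frame_ne_zero H
  set z := pr n F 2 (transv hF e H.ee 1 h11) with hz
  have hztv : z = pr n F 2 (tv hF e H.ee) := rfl
  obtain ⟨v, v', hve, hv'e, hvv, -, hvv'⟩ := exists_pair_of_iso hF (by omega) he0 H.ee
  have hev := herm_eq_zero_swap hF hve
  have hev' := herm_eq_zero_swap hF hv'e
  have hind : ∀ a b : F, a • e + b • v = 0 → a = 0 ∧ b = 0 := by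
    intro a b h
    have h1 := congrArg (fun x => hermForm n F 2 x v') h
    simp only [herm_add_left, herm_smul_left, hev', hvv', herm_zero_left] at h1
    have hb : b = 0 := by linear_combination h1
    rw [hb, zero_smul, add_zero] at h
    exact ⟨(smul_eq_zero.1 h).resolve_right he0, hb⟩
  obtain ⟨f1, E⟩ := exists_Frm_pair hF H.ee hvv hve hind
  obtain ⟨g, hg, -⟩ := exists_SL hF E (M := !![0, 1; 1, 0]) (by
    rw [Matrix.det_fin_two_of]
    have : (2 : F) = 0 := CharTwo.two_eq_zero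
    linear_combination -this)
  have hge : act g e = v := by
    have := hg 0
    simp only [Matrix.cons_val_zero, Fin.sum_univ_two, Matrix.cons_val_one, Matrix.of_apply,
      Matrix.cons_val_fin_one, zero_smul, one_smul, zero_add] at this
    exact this
  have hgv : act g v = e := by
    have := hg 1
    simp only [Matrix.cons_val_zero, Fin.sum_univ_two, Matrix.cons_val_one, Matrix.of_apply,
      Matrix.cons_val_fin_one, zero_smul, one_smul, add_zero] at this
    exact this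
  have hge' : act g⁻¹ e = v := by rw [← hgv, act_inv_act]
  have hk : pr n F 2 g * z * (pr n F 2 g)⁻¹ = pr n F 2 (tv hF v hvv) := by
    rw [hztv, ← map_inv, ← map_mul, ← map_mul, conj_tv hF H.ee hvv g hge]
  have hk' : (pr n F 2 g)⁻¹ * z * pr n F 2 g = pr n F 2 (tv hF v hvv) := by
    have h1 := conj_tv hF H.ee hvv g⁻¹ hge'
    rw [inv_inv] at h1
    rw [hztv, ← map_inv, ← map_mul, ← map_mul, h1]
  have hvP : pr n F 2 (tv hF v hvv) ∈ PP 2 e := by
    refine mem_PP.2 ⟨_, ?_, rfl⟩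
    rw [act_tv, hev, zero_smul, add_zero]
  refine ⟨pr n F 2 g, by rw [hk]; exact hvP, ?_, by rw [hk']; exact hvP, ?_⟩
  · rw [hk]
    intro h0
    obtain ⟨w1, μ1, h1, e1⟩ := mem_QQ.1 h0
    have e2 := siegel_pr_inj hF (by omega) _ _ e1
    have e3 := congrArg (fun g => act g v') e2
    simp only [act_siegel] at e3
    have hv'v : hermForm n F 2 v' v = 1 := by rw [herm_swap hF v v', hvv', one_pow]
    rw [hv'v, hv'e, smul_zero, add_zero, herm_zero_right hF, sub_zero, one_mul, one_smul, mul_zero, zero_sub,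
      zero_smul, add_zero, add_right_inj] at e3
    have := (hind (hermForm n F 2 v' w1) 1 (by rw [e3]; module)).2
    exact one_ne_zero this
  · intro β hβz
    have hPres := presQ hF (by omega) H β
    obtain ⟨α, hα⟩ := ext_frame hF hn H hPres
    have hαz : α z = z := by
      have h1 := hα ⟨z, hzP⟩
      rw [← h1]
      exact hβz
    obtain ⟨A, ρ, rfl⟩ := Cfsg.Agent.ClassicalGeometry.PSUAutMain.exists_toAut hF (by omega) (by omega) α
    obtain ⟨c, hc0, hc⟩ := scalar_of_fix_transv hF (by omega) A ρ he0 one_ne_zero (isSiegel_zero H.ee one_tr) hαz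
    set v2 := sg A ρ v with hv2
    have hv2v2 : hermForm n F 2 v2 v2 = 0 := by rw [hv2, herm_sg, hvv, map_zero]
    have hv2e : hermForm n F 2 v2 e = 0 := by
      have h1 : hermForm n F 2 v2 (sg A ρ e) = 0 := by rw [hv2, herm_sg, hve, map_zero]
      rw [hc, herm_smul_right] at h1
      exact (mul_eq_zero.1 h1).resolve_left (pow_ne_zero _ hc0)
    have hind2 : ∀ a b : F, a • e + b • v2 = 0 → a = 0 ∧ b = 0 := by
      intro a b h
      have h0 : hermForm n F 2 e (sg A ρ v') = 0 := by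
        have h1 : hermForm n F 2 (sg A ρ e) (sg A ρ v') = 0 := by rw [herm_sg, hev', map_zero]
        rw [hc, herm_smul_left] at h1
        exact (mul_eq_zero.1 h1).resolve_left hc0
      have h1 := congrArg (fun x => hermForm n F 2 x (sg A ρ v')) h
      simp only [herm_add_left, herm_smul_left, h0, hv2, herm_sg, hvv', herm_zero_left, map_one] at h1
      have hb : b = 0 := by linear_combination h1
      rw [hb, zero_smul, add_zero] at h
      exact ⟨(smul_eq_zero.1 h).resolve_right he0, hb⟩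
    obtain ⟨f2, E2⟩ := exists_Frm_pair hF H.ee hv2v2 hv2e hind2
    obtain ⟨g1, hg1, -⟩ := exists_map_Frm hF (by omega) E E2
    have hg1e : act g1 e = e := hg1 0
    have hg1v : act g1 v = v2 := hg1 1
    refine ⟨pr n F 2 g1, ?_, ?_⟩
    · rw [← mul_inv_eq_iff_eq_mul]
      change pr n F 2 g1 * z * (pr n F 2 g1)⁻¹ = z
      rw [hztv, ← map_inv, ← map_mul, ← map_mul, conj_tv hF H.ee H.ee g1 hg1e]
    · rw [hα]
      change toAut A ρ ((pr n F 2 g)⁻¹ * z * pr n F 2 g) = _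
      rw [hk', toAut_tv hF hvv hv2v2 A ρ hv2.symm, ← map_inv, ← map_mul, ← map_mul, conj_tv hF hvv hv2v2 g1 hg1v]

end Cfsg.Agent.KFacts.Unit.SheetTwoAut

end

-- merged: Cfsg.Agent.KFacts.SheetMQuot
section

/-!
# The sheet of case (M): `P = R φ(M)` for a quasisimple group `M`

`QData P R φ`: `R` normal in `P`, `P = R φ(M)`, and the proper normal subgroups of `M` are central.
`QData.hq`: the hypothesis of `CaseM.big_of_quasisimple`.
`QData.idx`: `P` has no proper subgroup of index `≤ w` if `2 ^ a` divides `|M|` and not `w !`.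
-/

set_option autoImplicit false

namespace Cfsg.Agent.KFacts.SheetMQuot

open Subgroup Cfsg.Agent.OddHalf.D8.Sheet Cfsg.Agent.OddHalf.CaseM
open scoped commutatorElement

variable {K M : Type*} [Group K] [Group M]

structure QData (P R : Subgroup K) (φ : M →* K) : Prop where
  RP : R ≤ P
  Rn : ∀ x ∈ P, ∀ r ∈ R, x * r * x⁻¹ ∈ R
  mem : ∀ m, φ m ∈ P
  dec : ∀ x ∈ P, ∃ r ∈ R, ∃ m, x = r * φ m
  simple : ∀ N : Subgroup M, N.Normal → N ≤ center M ∨ N = ⊤

namespace QData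

variable {P R : Subgroup K} {φ : M →* K}

/-- the proper normal subgroups of `P` containing `R` are central modulo `R` -/
theorem cases (Q : QData P R φ) (N : Subgroup K) (hRN : R ≤ N)
    (hn : ∀ p ∈ P, ∀ n ∈ N, p * n * p⁻¹ ∈ N) :
    (N.comap φ ≤ center M) ∨ P ≤ N := by
  have h1 : (N.comap φ).Normal := by
    constructor
    intro n hn' m
    rw [mem_comap, map_mul, map_mul, map_inv]
    exact hn _ (Q.mem m) _ hn'
  rcases Q.simple _ h1 with h2 | h2
  · exact Or.inl h2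
  · right
    intro x hx
    obtain ⟨r, hr, m, rfl⟩ := Q.dec x hx
    refine mul_mem (hRN hr) ?_
    have : m ∈ N.comap φ := by rw [h2]; exact mem_top _
    exact this

theorem hq (Q : QData P R φ) : ∀ N : Subgroup K, N ≤ P → R ≤ N → (∀ p ∈ P, ∀ n ∈ N, p * n * p⁻¹ ∈ N) →
    ⁅N, P⁆ ≤ R ∨ N = P := by
  intro N hNP hRN hn
  rcases Q.cases N hRN hn with h | h
  · left
    rw [commutator_le]
    intro x hx y hy
    obtain ⟨r, hr, a, rfl⟩ := Q.dec x (hNP hx)
    obtain ⟨s, hs, b, rfl⟩ := Q.dec y hy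
    have ha : a ∈ center M := by
      apply h
      have h1 := mul_mem (inv_mem (hRN hr)) hx
      rwa [inv_mul_cancel_left] at h1
    have hab : φ a * φ b = φ b * φ a := by
      rw [← map_mul, ← map_mul, mem_center_iff.1 ha b]
    have h1 : φ a * s * (φ a)⁻¹ ∈ R := Q.Rn _ (Q.mem a) _ hs
    have h2 : φ b * r * (φ b)⁻¹ ∈ R := Q.Rn _ (Q.mem b) _ hr
    have h3 : ⁅r * φ a, s * φ b⁆ = r * (φ a * s * (φ a)⁻¹) * (φ b * r * (φ b)⁻¹)⁻¹ * s⁻¹ := by
      rw [commutatorElement_def]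
      calc r * φ a * (s * φ b) * (r * φ a)⁻¹ * (s * φ b)⁻¹
          = r * (φ a * s * (φ a)⁻¹) * (φ a * φ b) * (φ a)⁻¹ * r⁻¹ * (φ b)⁻¹ * s⁻¹ := by group
        _ = r * (φ a * s * (φ a)⁻¹) * (φ b * φ a) * (φ a)⁻¹ * r⁻¹ * (φ b)⁻¹ * s⁻¹ := by rw [hab]
        _ = _ := by group
    rw [h3]
    exact mul_mem (mul_mem (mul_mem hr h1) (inv_mem h2)) (inv_mem hs)
  · exact Or.inr (le_antisymm hNP h)

/-- **`(idx)`** -/
theorem idx [Finite K] [Finite M] (Q : QData P R φ) (perf : ⁅P, P⁆ = P) (R2 : IsPGroup 2 R)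
    (hZ : Odd (Nat.card (center M))) {a w : ℕ} (ha : 2 ^ a ∣ Nat.card M) (hw : ¬ 2 ^ a ∣ Nat.factorial w) :
    ∀ H : Subgroup K, H ≤ P → H.relIndex P ≤ w → H = P := by
  intro H hHP hH
  have : Fact (Nat.Prime 2) := ⟨Nat.prime_two⟩
  have hmapR : (R.subgroupOf P).map P.subtype = R := by
    rw [subgroupOf_map_subtype, inf_of_le_left Q.RP]
  have hRn : (R.subgroupOf P).Normal := ⟨fun r hr g => Q.Rn g g.2 r hr⟩
  set N := (H.subgroupOf P).normalCore with hN
  have hNn : N.Normal := normalCore_normal _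
  have h1 : N.index ∣ Nat.factorial w := by
    have h2 : N.index ∣ Nat.factorial (H.subgroupOf P).index := by
      rw [hN, normalCore_eq_ker, index_ker, index_eq_card, ← Nat.card_perm]
      exact card_subgroup_dvd_card _
    exact h2.trans (Nat.factorial_dvd_factorial hH)
  set N1 := N ⊔ R.subgroupOf P with hN1
  have hN1n : N1.Normal := inferInstance
  have hperf' : commutator P = ⊤ := by
    rw [_root_.commutator_def]
    apply map_injective P.subtype_injective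
    rw [map_commutator, ← MonoidHom.range_eq_map, range_subtype, perf]
  have key : N1 = ⊤ → H = P := by
    intro htop
    -- `P / N` is a perfect 2-group
    let π := QuotientGroup.mk' N
    have hsurj : (R.subgroupOf P).map π = ⊤ := by
      have h3 := congrArg (Subgroup.map π) htop
      rw [hN1, Subgroup.map_sup, (QuotientGroup.map_mk'_self N), bot_sup_eq,
        ← MonoidHom.range_eq_map, MonoidHom.range_eq_top.2 (QuotientGroup.mk'_surjective _)] at h3
      exact h3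
    have hR2' : IsPGroup 2 (R.subgroupOf P) := R2.comap_subtype
    have h2g : IsPGroup 2 ((R.subgroupOf P).map π) := hR2'.map π
    rw [hsurj] at h2g
    have hperf'' : ⁅(⊤ : Subgroup (P ⧸ N)), (⊤ : Subgroup (P ⧸ N))⁆ = (⊤ : Subgroup (P ⧸ N)) := by
      have h4 := congrArg (Subgroup.map π) hperf'
      rw [_root_.commutator_def, map_commutator, ← MonoidHom.range_eq_map,
        MonoidHom.range_eq_top.2 (QuotientGroup.mk'_surjective _)] at h4
      exact h4
    have h5 := eq_bot_of_perfect_two hperf'' h2g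
    apply le_antisymm hHP
    intro x hx
    have h6 : π ⟨x, hx⟩ ∈ (⊤ : Subgroup (P ⧸ N)) := mem_top _
    rw [h5, mem_bot] at h6
    have h7 : (⟨x, hx⟩ : P) ∈ N := (QuotientGroup.eq_one_iff (N := N) _).1 h6
    exact mem_subgroupOf.1 (normalCore_le _ h7)
  rcases Q.cases (N1.map P.subtype) (by rw [← hmapR]; exact map_mono le_sup_right) (by
      rintro p hp _ ⟨n, hn, rfl⟩
      exact ⟨⟨p, hp⟩ * n * ⟨p, hp⟩⁻¹, hN1n.conj_mem n hn ⟨p, hp⟩, rfl⟩) with h2 | h2
  · exfalso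
    apply hw
    refine dvd_trans ?_ h1
    -- the map into `P`
    let ψ : M →* P := φ.codRestrict P Q.mem
    have h3 : N1.comap ψ ≤ center M := by
      intro m hm
      apply h2
      exact ⟨ψ m, hm, rfl⟩
    have h4 : Odd (Nat.card (N1.comap ψ)) := hZ.of_dvd_nat (card_dvd_of_le h3)
    have h5 : 2 ^ a ∣ (N1.comap ψ).index := by
      rw [← (N1.comap ψ).card_mul_index] at ha
      exact (Nat.Coprime.pow_left a (Nat.coprime_two_left.2 h4)).dvd_of_dvd_mul_left ha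
    refine h5.trans ?_
    rw [index_comap]
    exact (relIndex_dvd_index_of_normal _ _).trans (index_dvd_of_le le_sup_left)
  · apply key
    rw [eq_top_iff]
    intro x _
    obtain ⟨y, hy, hyx⟩ := h2 x.2
    have : y = x := Subtype.ext hyx
    rwa [← this]

end QData

end Cfsg.Agent.KFacts.SheetMQuot

end

-- merged: Cfsg.Agent.KFacts.Unit.SheetTwoM
section

/-!
# The sheet of case (M) for `PSU n F 2`, `n ≥ 6`

`qdata` : `PP q e = QQ e · SU_{n-2}(q)` (all even `q`).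
`sheetM` : `SheetM (PP 2 e) (QQ hF e H.ee)` from `SheetE z (PP 2 e) (QQ hF e H.ee)`.
-/

set_option autoImplicit false

namespace Cfsg.Agent.KFacts.Unit

open Cfsg Cfsg.Agent.LieClassical.HermBasic Cfsg.Agent.LieClassical.HermSiegel
  Cfsg.Agent.LieClassical.HermGen Cfsg.Agent.LieClassical.HermSimple Cfsg.Agent.LieClassical.SUBasic Matrix
  Cfsg.Agent.ClassicalGeometry.PSUAutBasic Cfsg.Agent.ClassicalGeometry.PSUAutSylow
  Cfsg.Agent.ClassicalGeometry.PSUAutUnip Cfsg.Agent.ClassicalGeometry.PSUAutPhi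
open Cfsg.Agent.OddHalf.D8.Sheet Cfsg.Agent.OddHalf.CaseM Cfsg.Agent.KFacts.SheetMQuot

variable {F : Type*} [Field F] [Fintype F] {q : ℕ}

section General

variable {m : ℕ}

omit [Fintype F] in
theorem frame_castAdd {e f : Fin (m + 2) → F} (H : IsFrame q e f) (i : Fin m) :
    e (Fin.castAdd 2 i) = 0 := by
  have h1 := ((H.mem (Pi.single (Fin.castAdd 2 i) 1)).1 (single_mem_coordSub (by simp) 1)).1
  rw [herm_single_left, one_mul] at h1
  exact eq_zero_of_pow_eq_zero h1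

omit [Fintype F] in
theorem mem_coordSub_append (v : Fin m → F) : Fin.append v (0 : Fin 2 → F) ∈ coordSub F (m + 2) m := by
  intro i hi
  refine Fin.addCases (motive := fun i => m ≤ i.val → Fin.append v (0 : Fin 2 → F) i = 0) (fun j hj => ?_)
    (fun j _ => ?_) i hi
  · exfalso
    rw [Fin.val_castAdd] at hj
    omega
  · rw [Fin.append_right]; rfl

omit [Fintype F] in
theorem eq_append {w : Fin (m + 2) → F} (hw : w ∈ coordSub F (m + 2) m) :
    w = Fin.append (fun i => w (Fin.castAdd 2 i)) (0 : Fin 2 → F) := by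
  apply ext_fin
  · intro i; rw [Fin.append_left]
  · intro i
    rw [Fin.append_right]
    exact hw _ (by simp)

/-- the group `SU_m(q)` in `PSU_{m+2}(q)` -/
def lev (m : ℕ) (F : Type*) [Field F] (q : ℕ) : SU m F q →* PSU (m + 2) F q := (pr (m + 2) F q).comp (emb 2)

/-- **`P = Q · SU_m(q)`.** -/
theorem qdata [CharP F 2] (hF : Fintype.card F = q ^ 2) (hm : 4 ≤ m) {e f : Fin (m + 2) → F} (H : IsFrame q e f) :
    QData (PP q e) (QQ hF e H.ee) (lev m F q) where
  RP := QQ_le_PP hF H.ee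
  Rn x hx r hr := PP_conj_QQ hF H.ee hx hr
  mem g := mem_PP.2 ⟨emb 2 g, emb_fix g (frame_castAdd H), rfl⟩
  dec x hx := by
    obtain ⟨g, hg, rfl⟩ := mem_PP.1 hx
    have hfe : hermForm (m + 2) F q f e = 1 := frame_fe hF H
    obtain ⟨c, μ, hs, hact⟩ := exists_siegel_map hF H.ee (v := f) (v' := act g f)
      (by rw [herm_act]) (by conv_rhs => rw [← hg, herm_act]) (by rw [hfe]; exact one_ne_zero)
    set s := siegel hF e (c • (act g f - f)) μ hs with hsdef
    have hse : act s⁻¹ e = e := ((act_eq_iff s).1 (act_siegel_self hF hs)).symm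
    have h2 : s⁻¹ * g ∈ (fixGrp (m + 2 - 2) : Subgroup (SU (m + 2) F q)) :=
      mem_fixGrp_of_frame hF H (by rw [act_mul, hg, hse]) (by rw [act_mul, ← hact, act_inv_act])
    obtain ⟨a, ha⟩ := exists_emb (m := m) (d := 2) hF h2
    refine ⟨pr (m + 2) F q s, mem_QQ.2 ⟨_, _, hs, rfl⟩, a, ?_⟩
    change pr (m + 2) F q g = pr (m + 2) F q s * pr (m + 2) F q (emb 2 a)
    rw [ha, ← map_mul, mul_inv_cancel_left]
  simple N hN := by
    by_cases h : N ≤ Subgroup.center (SU m F q)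
    · exact Or.inl h
    · right
      exact normal_eq_top_of_perfect hF (by omega)
        (LieClassical.HermPerfect.commutator_SU_eq_top hF (by omega) (by omega)) h

/-- the centre of `SU_m(q)` has odd order -/
theorem odd_center [CharP F 2] (hF : Fintype.card F = q ^ 2) (hm : 3 ≤ m) :
    Odd (Nat.card (Subgroup.center (SU m F q))) := by
  rw [← Nat.not_even_iff_odd, even_iff_two_dvd]
  intro h2
  have : Fact (Nat.Prime 2) := ⟨Nat.prime_two⟩
  obtain ⟨⟨x, hx⟩, hxo⟩ := exists_prime_orderOf_dvd_card' 2 h2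
  obtain ⟨c, hcn, hcq, hxc⟩ := (mem_center_SU_iff hF hm x).1 hx
  have h1 : x * x = 1 := by
    have := pow_orderOf_eq_one (⟨x, hx⟩ : Subgroup.center (SU m F q))
    rw [hxo, pow_two] at this
    exact congrArg Subtype.val this
  have h3 : x ≠ 1 := by
    rintro rfl
    have : orderOf (⟨1, hx⟩ : Subgroup.center (SU m F q)) = 1 := orderOf_eq_one_iff.2 rfl
    omega
  have hact : ∀ v, act x v = c • v := by
    intro v
    rw [hxc, act_def]
    funext i
    simp [mat, suScalar]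
  have h4 : c * c = 1 := by
    let i0 : Fin m := ⟨0, by omega⟩
    have h5 := congrArg (fun g => act g (Pi.single i0 1) i0) h1
    simp only [act_mul, act_one, hact, Pi.smul_apply, smul_eq_mul, Pi.single_eq_same, mul_one] at h5
    exact h5
  have h5 : c = 1 := by
    have h6 : (c - 1) * (c - 1) = 0 := by
      have h7 : (2 : F) = 0 := CharTwo.two_eq_zero
      linear_combination h4 - (c - 1) * h7
    exact sub_eq_zero.1 (mul_self_eq_zero.1 h6)
  apply h3
  apply ext_act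
  intro v
  rw [hact, h5, one_smul, act_one]

theorem pow_dvd_card (hF : Fintype.card F = q ^ 2) (hm : 1 ≤ m) :
    q ^ (m * (m - 1) / 2) ∣ Nat.card (SU m F q) := by
  have h1 := Cfsg.Agent.S0278.result hF m hm
  have h2 : q ^ (m * (m - 1) / 2) ∣ (q + 1) * Nat.card (SU m F q) := by
    rw [h1]; exact dvd_mul_right _ _
  have h3 : Nat.Coprime (q ^ (m * (m - 1) / 2)) (q + 1) := by
    apply Nat.Coprime.pow_left
    simp
  exact h3.dvd_of_dvd_mul_left h2

end General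

section Two

variable [CharP F 2]

theorem card_QQ_le {m : ℕ} (hF : Fintype.card F = 2 ^ 2) {e f : Fin (m + 2) → F} (H : IsFrame 2 e f) :
    Nat.card (QQ hF e H.ee) ≤ 2 ^ (2 * m + 1) := by
  classical
  have h2 : (2 : F) = 0 := CharTwo.two_eq_zero
  have horth : ∀ v : Fin m → F, hermForm (m + 2) F 2 (Fin.append v (0 : Fin 2 → F)) e = 0 := fun v =>
    ((H.mem _).1 (mem_coordSub_append v)).1
  have hex : ∀ v : Fin m → F, ∃ μ, IsSiegel 2 e (Fin.append v (0 : Fin 2 → F)) μ := fun v =>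
    exists_isSiegel_of_orth hF H.ee (horth v)
  choose μ0 hμ0 using hex
  have hb : ∀ (v : Fin m → F) (b : Bool), IsSiegel 2 e (Fin.append v (0 : Fin 2 → F))
      (μ0 v + if b then 1 else 0) := by
    intro v b
    refine ⟨H.ee, horth v, ?_⟩
    cases b
    · simpa using (hμ0 v).tr
    · simp only [if_true]
      have := (hμ0 v).tr
      linear_combination this + (1 + μ0 v) * h2
  let g : (Fin m → F) × Bool → QQ hF e H.ee := fun p =>
    ⟨pr (m + 2) F 2 (siegel hF e _ _ (hb p.1 p.2)), mem_QQ.2 ⟨_, _, hb p.1 p.2, rfl⟩⟩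
  have hg : Function.Surjective g := by
    rintro ⟨x, hx⟩
    obtain ⟨w, μ, h, rfl⟩ := mem_QQ.1 hx
    have H' : Hyp 2 e f := ⟨H.ee, H.ff, H.ef⟩
    obtain ⟨a, h', he⟩ := exists_norm_siegel hF H' h
    have hw : prN 2 e f w ∈ coordSub F (m + 2) m := (H.mem _).2 ⟨prN_e hF H' w, prN_f H' w⟩
    obtain ⟨v, hv⟩ : ∃ v : Fin m → F, prN 2 e f w = Fin.append v (0 : Fin 2 → F) := ⟨_, eq_append hw⟩
    have hd : (a - μ0 v) * (a - μ0 v + 1) = 0 := by
      have h1 := h'.tr
      have h3 := (hμ0 v).tr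
      rw [hv] at h1
      linear_combination h1 - h3 + (-a * μ0 v + μ0 v ^ 2 - μ0 v + μ0 v) * h2
    have hcase : a = μ0 v + (if (false : Bool) then 1 else 0) ∨ a = μ0 v + (if (true : Bool) then 1 else 0) := by
      rcases mul_eq_zero.1 hd with h1 | h1
      · left
        simp only [Bool.false_eq_true, if_false, add_zero]
        exact sub_eq_zero.1 h1
      · right
        simp only [if_true]
        linear_combination h1 - h2
    have key : ∀ b : Bool, a = μ0 v + (if b then 1 else 0) →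
        g (v, b) = ⟨pr (m + 2) F 2 (siegel hF e w μ h), hx⟩ := by
      intro b hab
      apply Subtype.ext
      change pr (m + 2) F 2 (siegel hF e _ _ (hb v b)) = pr (m + 2) F 2 (siegel hF e w μ h)
      rw [he]
      congr 1
      exact siegel_congr hF _ _ rfl hv.symm hab.symm
    rcases hcase with h1 | h1
    · exact ⟨_, key _ h1⟩
    · exact ⟨_, key _ h1⟩
  have h3 := Nat.card_le_card_of_surjective g hg
  refine h3.trans (le_of_eq ?_)
  rw [Nat.card_prod, Nat.card_fun, Nat.card_eq_fintype_card, Nat.card_eq_fintype_card, Nat.card_eq_fintype_card,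
    Fintype.card_fin, Fintype.card_bool, hF, ← pow_mul, pow_succ]

/-- **The sheet of case (M).** -/
theorem sheetM {n : ℕ} (hF : Fintype.card F = 2 ^ 2) (hn : 6 ≤ n) {e f : Fin n → F} (H : IsFrame 2 e f)
    {z : PSU n F 2} (h : SheetE z (PP 2 e) (QQ hF e H.ee)) : SheetM (PP 2 e) (QQ hF e H.ee) := by
  obtain ⟨m, rfl⟩ : ∃ m, n = m + 2 := ⟨n - 2, by omega⟩
  have he0 : e ≠ 0 := by
    rintro rfl
    have := H.ef
    rw [herm_zero_left] at this
    exact zero_ne_one this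
  have Q := qdata hF (by omega) H
  refine ⟨big_of_quasisimple h Q.hq, ⟨m, card_QQ_le hF H, ?_⟩, ?_⟩
  · refine Q.idx h.perf h.R2 (odd_center hF (by omega)) (a := m * (m - 1) / 2) (pow_dvd_card hF (by omega)) ?_
    intro hdvd
    have : Fact (Nat.Prime 2) := ⟨Nat.prime_two⟩
    have h1 := (padicValNat_dvd_iff_le (p := 2) (Nat.factorial_pos m).ne').1 hdvd
    have h2 := padicValNat_factorial_lt_of_ne_zero 2 (n := m) (by omega)
    have h3 : m ≤ m * (m - 1) / 2 := by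
      rw [Nat.le_div_iff_mul_le (by norm_num)]
      exact Nat.mul_le_mul_left m (by omega)
    omega
  · intro α hodd hα
    obtain ⟨x, hx, rfl⟩ := autCent_point hF (by omega) he0 H.ee α (fun x hx => hα x (QQ_le_PP hF H.ee hx))
    have h1 : x * x = 1 := by
      obtain ⟨μ, hμ, rfl⟩ := mem_RR.1 hx
      have h2 : transv hF e H.ee μ hμ * transv hF e H.ee μ hμ = 1 := by
        apply ext_act
        intro v
        rw [act_mul, act_one, act_transv, act_transv, herm_add_left, herm_smul_left, H.ee, mul_zero, add_zero,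
          add_assoc, ← add_smul, CharTwo.add_self_eq_zero, zero_smul, add_zero]
      rw [← map_mul, h2, map_one]
    have h2 : (MulAut.conj x) ^ 2 = 1 := by rw [← map_pow, pow_two, h1, map_one]
    have h3 := orderOf_dvd_of_pow_eq_one h2
    have h4 : orderOf (MulAut.conj x) = 1 := by
      rcases (Nat.dvd_prime Nat.prime_two).1 h3 with h5 | h5
      · exact h5
      · rw [h5] at hodd
        exact absurd hodd (by decide)
    exact orderOf_eq_one_iff.1 h4

end Two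

end Cfsg.Agent.KFacts.Unit

end

-- merged: Cfsg.Agent.OddHalf.D7.Uni.RowTwo
section

/-!
# ODD D7, `K ≅ PSU_n(2)`, `n ≥ 6`: the row by the nodes D8 (E), (M)
-/

set_option autoImplicit false

namespace Cfsg.Agent.OddHalf.D7.Uni.RowTwo

open Cfsg Cfsg.Agent.LieClassical.HermBasic Cfsg.Agent.LieClassical.HermSiegel
  Cfsg.Agent.LieClassical.HermGen Cfsg.Agent.LieClassical.SUBasic Matrix
  Cfsg.Agent.ClassicalGeometry.PSUAutBasic Cfsg.Agent.ClassicalGeometry.PSUAutSylow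
  Cfsg.Agent.ClassicalGeometry.PSUAutUnip Cfsg.Agent.KFacts.Unit
  Cfsg.Agent.KFacts.Unit.SheetTwo Cfsg.Agent.OddHalf.D8.Sheet

universe u

variable {F : Type*} [Field F] [Fintype F] {n : ℕ} [CharP F 2] {e f : Fin n → F}

theorem autFacts (hF : Fintype.card F = 2 ^ 2) (hn : 6 ≤ n) (H : IsFrame 2 e f) : AutFacts hF H where
  aut := fun α hα hαz h => SheetTwoAut.aut hF hn H α hα h11 hαz h
  ytrick := SheetTwoAut.ytrick hF hn H h11 (QQ_le_PP hF H.ee (RR_le_QQ hF H.ee (zt_mem hF H.ee)))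

theorem sheetE (hF : Fintype.card F = 2 ^ 2) (hn : 6 ≤ n) (H : IsFrame 2 e f) :
    SheetE (zt hF H.ee) (PP 2 e) (QQ hF e H.ee) := SheetTwo.sheetE hF hn H (autFacts hF hn H)

/-- `PSU_n(2)`, `n ≥ 6`. -/
def FamUTwo (X : Type u) [Group X] : Prop :=
  ∃ (F : Type) (_ : Field F) (_ : Fintype F) (n : ℕ), Fintype.card F = 2 ^ 2 ∧ 6 ≤ n ∧ Nonempty (X ≃* PSU n F 2)

/-- the facts for `MainE.row_of` -/
theorem facts (K : Type u) [Group K] (_ : Finite K) (h : FamUTwo K) :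
    ∃ (z : K) (P R : Subgroup K), SheetE z P R ∧ CaseM.SheetM P R := by
  obtain ⟨F, _, _, n, hF, hn, ⟨i⟩⟩ := h
  have : CharP F 2 := by
    have : Fact (Nat.Prime 2) := ⟨Nat.prime_two⟩
    exact charP_of_card_eq_prime_pow hF
  obtain ⟨e, f, H⟩ := exists_frame (F := F) (q := 2) (n := n) hF (by omega)
  have h1 := sheetE hF hn H
  exact ⟨_, _, _, D8.SheetMap.sheetE_map i.symm h1, D8.SheetMMap.sheetM_map i.symm (sheetM hF hn H h1)⟩

/-- **the row `PSU_n(2)`, `n ≥ 6`** -/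
theorem row (hM : D8.MainE.NoComp.{u} (fun _ _ _ P R => CaseM.SheetM P R)) :
    D7.Cases.Node.{u} @FamUTwo.{u} := D8.MainE.row_of hM facts

end Cfsg.Agent.OddHalf.D7.Uni.RowTwo

end

-- merged: Cfsg.Agent.OddHalf.D7.Uni.FaceInv
section

/-!
# ODD D7, `K = PSU_n(q)`, `q` even: invariance of `U*` and its centre

`conj_W`, `conj_Rt`: `c ∈ C(t)` normalising `X_u` normalises `W_u`, `R_u`. `conj_US`: `c ∈ C(t)` normalising the root
groups of a Witt frame normalises `U*`. `W_cent`: `W_{e 0}` centralises `U*`.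
-/

set_option autoImplicit false
set_option linter.unusedSectionVars false

namespace Cfsg.Agent.OddHalf.D7.Uni.FaceInv

open Cfsg Cfsg.Agent.LieClassical.HermBasic Cfsg.Agent.LieClassical.HermSiegel
  Cfsg.Agent.LieClassical.HermGen Cfsg.Agent.LieClassical.SUBasic
  Cfsg.Agent.ClassicalGeometry.PSUAutBasic Cfsg.Agent.ClassicalGeometry.PSUAutSylow
  Cfsg.Agent.ClassicalGeometry.PSUAutUnip Cfsg.Agent.ClassicalGeometry.PSUAutPhi
  Cfsg.Agent.KFacts.Unit Cfsg.Agent.KFacts.Unit.Flag Cfsg.Agent.KFacts.Unit.FlagMap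
  Cfsg.Agent.OddHalf.D7.Uni.Face Cfsg.Agent.OddHalf.D7.Uni.Norm Cfsg.Agent.OddHalf.D7.Uni.Layers
  Cfsg.Agent.OddHalf.D7.Uni.FrameLayers Cfsg.Agent.OddHalf.D7.Uni.FaceR Cfsg.Agent.OddHalf.D7.Uni.FaceFrame
  Cfsg.Agent.OddHalf.D7.Uni.Equiv

variable {F : Type*} [Field F] [Fintype F] {q n : ℕ} {G : Type*} [Group G]
  {hF : Fintype.card F = q ^ 2} {t : G} {j : PSU n F q →* G} {W : (Fin n → F) → Subgroup G}

/-- An element of `C(t)` which normalises `X_u` moves `u` to a multiple of `u`. -/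
theorem exists_mv (S : Sit n F q t j) (hn : 4 ≤ n) {c : G} (hc : c * t = t * c) {u : Fin n → F} (hu0 : u ≠ 0)
    (hu : hermForm n F q u u = 0) (h1 : ∀ x ∈ XP hF j u hu, c * x * c⁻¹ ∈ XP hF j u hu)
    (h2 : ∀ x ∈ XP hF j u hu, c⁻¹ * x * c ∈ XP hF j u hu) :
    ∃ (ρ : F ≃+* F) (b : F) (_ : b ≠ 0) (hu' : hermForm n F q (b • u) (b • u) = 0),
      Mv hF t j c ρ u (b • u) hu hu' := by
  obtain ⟨A, ρ, Sm⟩ := exists_semi S hF hn hc
  have hu' : hermForm n F q (sg A ρ u) (sg A ρ u) = 0 := by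
    rw [sg, Cfsg.Agent.ClassicalGeometry.PSUAutCount.herm_semi, hu, map_zero]
  have M := Sm.mv (hF := hF) hu hu'
  have hu0' : sg A ρ u ≠ 0 := fun h => hu0 (sg_eq_zero A ρ h)
  have hle : RR hF (sg A ρ u) hu' = RR hF u hu := by
    apply le_antisymm
    · intro y hy
      obtain ⟨x, hx, e⟩ := M.rr' y hy
      obtain ⟨z, hz, e2⟩ := h1 _ ⟨x, hx, rfl⟩
      have e3 : j z = j y := by rw [e2, ← e]; group
      rwa [← S.inj e3]
    · intro y hy
      obtain ⟨x, hx, e⟩ := h2 _ ⟨y, hy, rfl⟩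
      obtain ⟨z, hz, e2⟩ := M.rr x hx
      have e3 : j z = j y := by rw [← e2, e]; group
      rwa [← S.inj e3]
  obtain ⟨b, hb, he⟩ := (RR_eq_iff hF (by omega) hu0 hu0' hu hu').1 hle.symm
  have key : ∀ (v : Fin n → F) (hv : hermForm n F q v v = 0), v = b • u → Mv hF t j c ρ u v hu hv →
      ∃ (hu' : hermForm n F q (b • u) (b • u) = 0), Mv hF t j c ρ u (b • u) hu hu' := by
    rintro v hv rfl M
    exact ⟨hv, M⟩
  obtain ⟨h3, h4⟩ := key _ hu' he M
  exact ⟨ρ, b, hb, h3, h4⟩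

theorem conj_W [CharP F 2] (D : Dbl hF t j W) (hn : 6 ≤ n) {c : G} (hc : c * t = t * c) {u : Fin n → F} (hu0 : u ≠ 0)
    (hu : hermForm n F q u u = 0) (h1 : ∀ x ∈ XP hF j u hu, c * x * c⁻¹ ∈ XP hF j u hu)
    (h2 : ∀ x ∈ XP hF j u hu, c⁻¹ * x * c ∈ XP hF j u hu) : ∀ w ∈ W u, c * w * c⁻¹ ∈ W u := by
  intro w hw
  obtain ⟨ρ, b, hb, hu', M⟩ := exists_mv D.toSit (by omega) hc hu0 hu h1 h2
  have h3 := M.conj_W D (by omega) hu0 (smul_ne_zero hb hu0) hw
  rwa [D.smul hu0 hu hb] at h3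

theorem conj_Rt [CharP F 2] (D : Dbl hF t j W) (hn : 6 ≤ n) {c : G} (hc : c * t = t * c) {u : Fin n → F} (hu0 : u ≠ 0)
    (hu : hermForm n F q u u = 0) (h1 : ∀ x ∈ XP hF j u hu, c * x * c⁻¹ ∈ XP hF j u hu)
    (h2 : ∀ x ∈ XP hF j u hu, c⁻¹ * x * c ∈ XP hF j u hu) : ∀ r ∈ Rt hF j W u, c * r * c⁻¹ ∈ Rt hF j W u := by
  intro r hr
  obtain ⟨ρ, b, hb, hu', M⟩ := exists_mv D.toSit (by omega) hc hu0 hu h1 h2
  have hbu0 : b • u ≠ 0 := smul_ne_zero hb hu0
  rw [Rt_eq hF j W hu] at hr ⊢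
  have h3 := M.conj_R D (by omega) hu0 hbu0 rfl rfl (rdata D (D.cm hn) hn hu0 hu) (rdata D (D.cm hn) hn hbu0 hu') hr
  have h4 : c * r * c⁻¹ ∈ RP hF j W (b • u) hu' := h3
  rwa [RP_smul D (D.cm hn) hn hu0 hu hb hu'] at h4

section frame

variable {m : ℕ} {e f : ℕ → Fin n → F} {ρ : ℕ → SU n F q}

/-- **`c ∈ C(t)` normalising the root groups of the frame normalises `U*`.** -/
theorem conj_US [CharP F 2] (D : Dbl hF t j W) (hn : 6 ≤ n) (h : Flag.Fr q m e f) (Rh : Rho q m e f ρ) (hm : 3 ≤ m)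
    {c : G} (hc : c * t = t * c)
    (hX : ∀ i < m, (∀ y ∈ Xd hF j (e i), c * y * c⁻¹ ∈ Xd hF j (e i)) ∧
      (∀ y ∈ Xd hF j (e i), c⁻¹ * y * c ∈ Xd hF j (e i)) ∧ ∀ y ∈ Xd hF j (f i), c⁻¹ * y * c ∈ Xd hF j (f i))
    {x : G} (hx : x ∈ US (Rt hF j W) j m e ρ) : c * x * c⁻¹ ∈ US (Rt hF j W) j m e ρ := by
  refine FaceFrame.conj_US (rf D hn) (by omega) h Rh hm (fun k hk r hr => ?_) (fun i hi => (hX i hi).2) hx
  have h1 := (hX k hk).1
  have h2 := (hX k hk).2.1
  rw [Xd_eq (h.ee k hk k hk)] at h1 h2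
  exact conj_Rt D hn hc (h.ne_zero hk) (h.ee k hk k hk) h1 h2 r hr

/-- **The groups `W_u`, `W_x` commute for `x ⟂ u`.** -/
theorem W_all [CharP F 2] (D : Dbl hF t j W) (hn : 6 ≤ n) {u x : Fin n → F} (hu0 : u ≠ 0)
    (hu : hermForm n F q u u = 0) (hx0 : x ≠ 0) (hx : hermForm n F q x x = 0) (hxu : hermForm n F q x u = 0) {w v : G}
    (hw : w ∈ W u) (hv : v ∈ W x) : w * v = v * w := by
  by_cases hc : ∃ c : F, x = c • u
  · obtain ⟨c, rfl⟩ := hc
    have hc : c ≠ 0 := by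
      rintro rfl
      exact hx0 (zero_smul _ _)
    rw [D.smul hu0 hu hc] at hv
    exact D.ab (by omega) (D.pr hn) hu0 hu hw hv
  · push Not at hc
    obtain ⟨p', r', H⟩ := exists_P2_of (q := q) hF hu hx (herm_eq_zero_swap hF hxu)
      (KFacts.UniTwo.indep_of_ne hx0 hc hu0)
    exact D.pr hn _ _ _ _ H w hw v hv

/-- **`W_{e 0}` centralises `U*`.** -/
theorem W_cent [CharP F 2] (D : Dbl hF t j W) (hn : 6 ≤ n) (h : Flag.Fr q m e f) (Rh : Rho q m e f ρ) (hm : 3 ≤ m)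
    {w x : G} (hw : w ∈ W (e 0)) (hx : x ∈ US (Rt hF j W) j m e ρ) : w * x = x * w :=
  comm_W_US (rf D hn) (by omega) h Rh hm (fun _ hx0 hx hxu _ hw _ hv =>
    W_all D hn (h.ne_zero (by omega)) (h.ee 0 (by omega) 0 (by omega)) hx0 hx hxu hw hv) hw hx

/-- `W_{e 0} ≤ U*` -/
theorem W_le_US [CharP F 2] (D : Dbl hF t j W) (hn : 6 ≤ n) (h : Flag.Fr q m e f) (hm : 3 ≤ m) :
    W (e 0) ≤ US (Rt hF j W) j m e ρ := by
  intro w hw
  refine Chain.le_pr _ (i := 0) (by omega) ?_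
  rw [Frame.mem_Tj]
  exact ⟨((rf D hn).pt (h.ne_zero (by omega)) (h.ee 0 (by omega) 0 (by omega))).WR hw,
    fun i hi => absurd hi (Nat.not_lt_zero i)⟩

/-- `|W_u| = |X_u|²` -/
theorem card_W [CharP F 2] (D : Dbl hF t j W) (hn : 6 ≤ n) {u : Fin n → F} (hu0 : u ≠ 0)
    (hu : hermForm n F q u u = 0) : Nat.card (W u) = Nat.card (XP hF j u hu) ^ 2 :=
  (rdata D (D.cm hn) hn hu0 hu).card_W

end frame

end Cfsg.Agent.OddHalf.D7.Uni.FaceInv

end

-- merged: Cfsg.Agent.OddHalf.D7.Uni.Grow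
section

/-!
# ODD D7, `K = PSU_n(q)`, `q` even, `n ≥ 6`: the growth `U ≤ U*` in one statement

`Gr t U Us T W X`: the fields of `D7Out.TwEnd.Dat` which come from the growth. `gr`: they hold for the doubled unipotent
group `Us = FaceFrame.US` of a Witt frame, `T = U P`, `P ≤ C(t)` normalising the root groups of the frame.
-/

set_option autoImplicit false
set_option linter.unusedSectionVars false

namespace Cfsg.Agent.OddHalf.D7.Uni.Grow

open Cfsg Cfsg.Agent.LieClassical.HermBasic Cfsg.Agent.LieClassical.HermSiegel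
  Cfsg.Agent.LieClassical.HermGen Cfsg.Agent.LieClassical.SUBasic
  Cfsg.Agent.ClassicalGeometry.PSUAutBasic Cfsg.Agent.ClassicalGeometry.PSUAutSylow
  Cfsg.Agent.ClassicalGeometry.PSUAutUnip Cfsg.Agent.ClassicalGeometry.PSUAutPhi
  Cfsg.Agent.KFacts.Unit Cfsg.Agent.KFacts.Unit.Flag Cfsg.Agent.KFacts.Unit.FlagMap
  Cfsg.Agent.OddHalf.D7.Uni.Face Cfsg.Agent.OddHalf.D7.Uni.Norm Cfsg.Agent.OddHalf.D7.Uni.Layers
  Cfsg.Agent.OddHalf.D7.Uni.FrameLayers Cfsg.Agent.OddHalf.D7.Uni.FaceR Cfsg.Agent.OddHalf.D7.Uni.FaceFrame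
  Cfsg.Agent.OddHalf.D7.Uni.FaceInv

/-- The fields of `TwEnd.Dat` which come from the growth. -/
structure Gr {G : Type*} [Group G] (t : G) (U Us T W X : Subgroup G) : Prop where
  U_Us : U ≤ Us
  Us2 : IsPGroup 2 Us
  T_Us : ∀ x ∈ T, ∀ y ∈ Us, x * y * x⁻¹ ∈ Us
  CUs : ∀ x ∈ Us, x * t = t * x → x ∈ U
  W_Us : W ≤ Us
  W_cent : ∀ w ∈ W, ∀ x ∈ Us, w * x = x * w
  hfree : ∀ x ∈ Us, t * x * (t * x) = 1 → ∃ y ∈ Us, y * t * y⁻¹ = t * x
  cardW : Nat.card W = Nat.card X ^ 2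
  X_ne : X ≠ ⊥

variable {F : Type*} [Field F] [Fintype F] {q n : ℕ} {G : Type*} [Group G]
  {hF : Fintype.card F = q ^ 2} {t : G} {j : PSU n F q →* G} {W : (Fin n → F) → Subgroup G}
  {m : ℕ} {e f : ℕ → Fin n → F}

/-- **The growth.** -/
theorem gr [CharP F 2] (D : Dbl hF t j W) (hn : 6 ≤ n) (h : Flag.Fr q m e f) (hm : 3 ≤ m) {T P : Subgroup G}
    (hT : ∀ x ∈ T, ∃ u ∈ (Chain.pr (QS q e f) m).map (fj n F q j), ∃ p ∈ P, x = u * p)
    (hPt : ∀ p ∈ P, p * t = t * p)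
    (hPe : ∀ p ∈ P, ∀ i (hi : i < m), ∀ y ∈ XP hF j (e i) (h.ee i hi i hi), p * y * p⁻¹ ∈ XP hF j (e i) (h.ee i hi i hi))
    (hPf : ∀ p ∈ P, ∀ i (hi : i < m), ∀ y ∈ XP hF j (f i) (h.ff i hi i hi),
      p * y * p⁻¹ ∈ XP hF j (f i) (h.ff i hi i hi)) :
    ∃ Us : Subgroup G, Gr t ((Chain.pr (QS q e f) m).map (fj n F q j)) Us T (W (e 0))
      (XP hF j (e 0) (h.ee 0 (by omega) 0 (by omega))) := by
  obtain ⟨ρ, Rh⟩ := exists_rho hF h
  have RD := rf D hn
  have tt := D.tt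
  have ht : t⁻¹ = t := inv_eq_of_mul_eq_one_left tt
  have hU : ∀ x, x ∈ (Chain.pr (QS q e f) m).map (fj n F q j) ↔ x ∈ US (Rt hF j W) j m e ρ ∧ t * x * t = x :=
    fun x => mem_U_iff RD (by omega) h Rh hm
  have hPi : ∀ p ∈ P, ∀ x ∈ US (Rt hF j W) j m e ρ, p * x * p⁻¹ ∈ US (Rt hF j W) j m e ρ := by
    intro p hp x hx
    have hpi := inv_mem hp
    refine FaceInv.conj_US D hn h Rh hm (hPt p hp) (fun i hi => ⟨?_, ?_, ?_⟩) hx
    · rw [Xd_eq (h.ee i hi i hi)]
      exact hPe p hp i hi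
    · rw [Xd_eq (h.ee i hi i hi)]
      intro y hy
      have := hPe _ hpi i hi y hy
      rwa [inv_inv] at this
    · rw [Xd_eq (h.ff i hi i hi)]
      intro y hy
      have := hPf _ hpi i hi y hy
      rwa [inv_inv] at this
  refine ⟨US (Rt hF j W) j m e ρ, ?_⟩
  refine
    { U_Us := fun x hx => ((hU x).1 hx).1
      Us2 := isPGroup_US RD (by omega) h Rh hm
      T_Us := ?_
      CUs := ?_
      W_Us := FaceInv.W_le_US D hn h hm
      W_cent := fun w hw x hx => FaceInv.W_cent D hn h Rh hm hw hx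
      hfree := ?_
      cardW := card_W D hn (h.ne_zero (by omega)) (h.ee 0 (by omega) 0 (by omega))
      X_ne := ?_ }
  · intro x hx y hy
    obtain ⟨u, hu, p, hp, rfl⟩ := hT x hx
    have h1 := hPi p hp y hy
    have h2 := ((hU u).1 hu).1
    have e1 : u * p * y * (u * p)⁻¹ = u * (p * y * p⁻¹) * u⁻¹ := by group
    rw [e1]
    exact mul_mem (mul_mem h2 h1) (inv_mem h2)
  · intro x hx hxt
    refine (hU x).2 ⟨hx, ?_⟩
    rw [← hxt, mul_assoc, tt, mul_one]
  · intro x hx hxx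
    obtain ⟨y, hy, e1⟩ := exists_conj_US RD (by omega) h Rh hm hx hxx
    exact ⟨y, hy, e1.symm⟩
  · intro h0
    obtain ⟨x, hx, hx1⟩ := XP_ne hF (h.ee 0 (by omega) 0 (by omega)) D.toSit (by omega) (h.ne_zero (by omega))
    rw [h0] at hx
    exact hx1 (Subgroup.mem_bot.1 hx)

end Cfsg.Agent.OddHalf.D7.Uni.Grow

end

-- merged: Cfsg.Agent.OddHalf.D7Out.ConstU
section

/-!
# ODD D7, outer 2-part, `K = U_n(q)`, `q ≥ 4`: the constant of a field involution (helper991; text: helper490 #11669)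

`W` the double of `X`, `a` an element of the double of `Q` with `[a, t] = a₀`, `κ ∈ C_G(t)` trivial on `W`; `g ∈ C_G(t)`
centralises `a` modulo `W` and acts on `κ` like the inversion. `cent_or` : `g` or `t g` centralises `W`.
-/

set_option autoImplicit false

namespace Cfsg.Agent.OddHalf.D7Out.ConstU

variable {G : Type*} [Group G]

/-- the commutator used -/
def cm (f w : G) : G := f⁻¹ * w⁻¹ * f * w

theorem conj_cm (k f w : G) : k * cm f w * k⁻¹ = cm (k * f * k⁻¹) (k * w * k⁻¹) := by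
  unfold cm; group

theorem cm_inv (f w : G) : (cm f w)⁻¹ = cm w f := by
  unfold cm; group

/-- The doubled centre `W` of `R`. -/
structure Wt (t g : G) (X W : Subgroup G) : Prop where
  tt : t * t = 1
  gt : g * t = t * g
  XW : X ≤ W
  Wab : ∀ v ∈ W, ∀ w ∈ W, v * w = w * v
  Wsq : ∀ w ∈ W, w * w = 1
  brk : ∀ w ∈ W, ∃ x ∈ X, t * w * t = w * x
  cent : ∀ w ∈ W, t * w * t = w → w ∈ X
  Xt : ∀ x ∈ X, t * x * t = x
  gX : ∀ x ∈ X, g * x * g⁻¹ = x

/-- The element `a`. -/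
structure El (t g : G) (X W : Subgroup G) (a a0 κ : G) : Prop where
  aW : ∀ w ∈ W, a * w = w * a
  a0W : ∀ w ∈ W, a0 * w = w * a0
  κW : ∀ w ∈ W, κ * w = w * κ
  κt : κ * t = t * κ
  ta : t * a * t = a * a0
  ta0 : t * a0 * t = a0
  ab : cm a (κ * a * κ⁻¹) ∈ W
  a0b : cm a0 (κ * a * κ⁻¹) ∈ W
  a0b' : cm a0 (κ⁻¹ * a * κ) ∈ W
  x0 : cm a0 (κ * a0 * κ⁻¹) ∈ X
  ga : ∃ w ∈ W, g * a * g⁻¹ = a * w
  ga0 : ∃ w ∈ W, g * a0 * g⁻¹ = a0 * w
  gκ : ∃ w ∈ W, g * (κ * a * κ⁻¹) * g⁻¹ = κ⁻¹ * a * κ * w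

variable {t g : G} {X W : Subgroup G} {a a0 κ : G}

section cm

variable {W : Subgroup G}

theorem cm_mul_left {f f' w : G} (h1 : cm f w ∈ W) (h2 : ∀ z ∈ W, f' * z = z * f') :
    cm (f * f') w = cm f w * cm f' w := by
  have h3 := h2 _ h1
  unfold cm at *
  calc (f * f')⁻¹ * w⁻¹ * (f * f') * w = f'⁻¹ * ((f⁻¹ * w⁻¹ * f * w) * f') * (f'⁻¹ * w⁻¹ * f' * w) := by group
    _ = f'⁻¹ * (f' * (f⁻¹ * w⁻¹ * f * w)) * (f'⁻¹ * w⁻¹ * f' * w) := by rw [h3]
    _ = _ := by group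

theorem cm_mul_right {f w w' : G} (h1 : cm f w ∈ W) (h2 : ∀ z ∈ W, w' * z = z * w') :
    cm f (w * w') = cm f w' * cm f w := by
  have h3 := h2 _ h1
  unfold cm at *
  calc f⁻¹ * (w * w')⁻¹ * f * (w * w') = (f⁻¹ * w'⁻¹ * f) * ((f⁻¹ * w⁻¹ * f * w) * w') := by group
    _ = (f⁻¹ * w'⁻¹ * f) * (w' * (f⁻¹ * w⁻¹ * f * w)) := by rw [h3]
    _ = _ := by group

theorem cm_one_of_comm {f w : G} (h : f * w = w * f) : cm f w = 1 := by
  unfold cm
  rw [mul_assoc, h]; group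

/-- central factors do not matter -/
theorem cm_central {f w z z' : G} (hz : z ∈ W) (hz' : z' ∈ W) (hf : ∀ z ∈ W, f * z = z * f)
    (hw : ∀ z ∈ W, w * z = z * w) (hW : ∀ v ∈ W, ∀ w ∈ W, v * w = w * v) : cm (f * z) (w * z') = cm f w := by
  have e1 : z * w = w * z := (hw z hz).symm
  have e2 : f * z' = z' * f := hf z' hz'
  have e3 : z' * z = z * z' := hW _ hz' _ hz
  have h1 : (f * z) * (w * z') = (w * z')  * (f * z) * cm f w := by
    have h2 : f * w = w * f * cm f w := by unfold cm; group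
    have h3 : ∀ y ∈ W, y * cm f w = cm f w * y := by
      intro y hy
      have k1 := hf y hy
      have k2 := hw y hy
      have c1 : Commute y f := k1.symm
      have c2 : Commute y w := k2.symm
      exact (((c1.inv_right.mul_right c2.inv_right).mul_right c1).mul_right c2).eq
    calc f * z * (w * z') = f * (z * w) * z' := by group
      _ = (f * w) * (z * z') := by rw [e1]; group
      _ = w * f * (cm f w * (z * z')) := by rw [h2]; group
      _ = w * f * ((z' * z) * cm f w) := by rw [← h3 _ (mul_mem hz hz'), e3]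
      _ = w * (f * z') * z * cm f w := by group
      _ = _ := by rw [e2]; group
  unfold cm at *
  calc (f * z)⁻¹ * (w * z')⁻¹ * (f * z) * (w * z') = ((w * z') * (f * z))⁻¹ * ((f * z) * (w * z')) := by group
    _ = _ := by rw [h1]; group

end cm

/-- The two elements of `W`. -/
theorem exists_pair (B : Wt t g X W) (E : El t g X W a a0 κ) : ∃ w1 ∈ W, ∃ w2 ∈ W, ∃ y ∈ X,
    t * w1 * t = w1 * cm a0 (κ * a0 * κ⁻¹) ∧ g * w1 * g⁻¹ = w1 * y ∧
    t * w2 * t = w2 * (y * cm a0 (κ * a0 * κ⁻¹)) ∧ g * w2 * g⁻¹ = w2 := by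
  have ti : t⁻¹ = t := inv_eq_of_mul_eq_one_left B.tt
  have κW' : ∀ w ∈ W, κ⁻¹ * w = w * κ⁻¹ := fun w hw => by
    have : Commute κ w := E.κW w hw
    exact this.inv_left.eq
  have bW : ∀ w ∈ W, (κ * a * κ⁻¹) * w = w * (κ * a * κ⁻¹) := fun w hw => by
    have h1 : Commute κ w := E.κW w hw
    have h2 : Commute a w := E.aW w hw
    exact ((h1.mul_left h2).mul_left h1.inv_left).eq
  have bW' : ∀ w ∈ W, (κ⁻¹ * a * κ) * w = w * (κ⁻¹ * a * κ) := fun w hw => by
    have h1 : Commute κ w := E.κW w hw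
    have h2 : Commute a w := E.aW w hw
    exact ((h1.inv_left.mul_left h2).mul_left h1).eq
  have b0W : ∀ w ∈ W, (κ * a0 * κ⁻¹) * w = w * (κ * a0 * κ⁻¹) := fun w hw => by
    have h1 : Commute κ w := E.κW w hw
    have h2 : Commute a0 w := E.a0W w hw
    exact ((h1.mul_left h2).mul_left h1.inv_left).eq
  have κw : ∀ w ∈ W, κ * w * κ⁻¹ = w := fun w hw => by rw [E.κW w hw, mul_inv_cancel_right]
  have tb : t * (κ * a * κ⁻¹) * t = (κ * a * κ⁻¹) * (κ * a0 * κ⁻¹) := by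
    have h1 : Commute κ t := E.κt
    have h2 := h1.inv_left.eq
    calc t * (κ * a * κ⁻¹) * t = (t * κ) * a * (κ⁻¹ * t) := by group
      _ = (κ * t) * a * (t * κ⁻¹) := by rw [E.κt, h2]
      _ = κ * (t * a * t) * κ⁻¹ := by group
      _ = _ := by rw [E.ta]; group
  have winv : ∀ w ∈ W, w⁻¹ = w := fun w hw => inv_eq_of_mul_eq_one_left (B.Wsq w hw)
  -- `c(a, b) = c(a, b')`
  have hab : cm a (κ⁻¹ * a * κ) = cm a (κ * a * κ⁻¹) := by
    have h1 := κw _ E.ab
    have h2 : κ⁻¹ * cm a (κ * a * κ⁻¹) * κ = cm a (κ * a * κ⁻¹) := by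
      rw [κW' _ E.ab]; group
    have h3 : κ⁻¹ * cm a (κ * a * κ⁻¹) * κ = cm (κ⁻¹ * a * κ) a := by unfold cm; group
    rw [h3] at h2
    rw [← cm_inv, h2, winv _ E.ab]
  have hab0 : cm a (κ * a0 * κ⁻¹) = cm a0 (κ⁻¹ * a * κ) := by
    have h2 : κ * cm a0 (κ⁻¹ * a * κ) * κ⁻¹ = cm a0 (κ⁻¹ * a * κ) := κw _ E.a0b'
    have h3 : κ * cm a0 (κ⁻¹ * a * κ) * κ⁻¹ = cm (κ * a0 * κ⁻¹) a := by unfold cm; group
    rw [h3] at h2
    rw [← cm_inv, h2, winv _ E.a0b']
  have hab0W : cm a (κ * a0 * κ⁻¹) ∈ W := by rw [hab0]; exact E.a0b'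
  obtain ⟨z1, hz1, e1⟩ := E.ga
  obtain ⟨z2, hz2, e2⟩ := E.ga0
  obtain ⟨z3, hz3, e3⟩ := E.gκ
  have x0W := B.XW E.x0
  -- `w1`
  have t1 : t * cm a0 (κ * a * κ⁻¹) * t = cm a0 (κ * a * κ⁻¹) * cm a0 (κ * a0 * κ⁻¹) := by
    have h1 := conj_cm t a0 (κ * a * κ⁻¹)
    rw [ti, E.ta0, tb, cm_mul_right E.a0b b0W] at h1
    rw [h1, B.Wab _ x0W _ E.a0b]
  have g1 : g * cm a0 (κ * a * κ⁻¹) * g⁻¹ = cm a0 (κ⁻¹ * a * κ) := by
    rw [conj_cm, e2, e3, cm_central hz2 hz3 E.a0W bW' B.Wab]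
  have g2 : g * cm a (κ * a * κ⁻¹) * g⁻¹ = cm a (κ * a * κ⁻¹) := by
    rw [conj_cm, e1, e3, cm_central hz1 hz3 E.aW bW' B.Wab, hab]
  have t2 : t * cm a (κ * a * κ⁻¹) * t = cm a (κ * a * κ⁻¹) *
      (cm a0 (κ⁻¹ * a * κ) * cm a0 (κ * a * κ⁻¹) * cm a0 (κ * a0 * κ⁻¹)) := by
    have h1 := conj_cm t a (κ * a * κ⁻¹)
    have h2 : cm a (κ * a * κ⁻¹ * (κ * a0 * κ⁻¹)) ∈ W := by
      rw [cm_mul_right E.ab b0W]; exact mul_mem hab0W E.ab
    rw [ti, E.ta, tb, cm_mul_left h2 E.a0W, cm_mul_right E.ab b0W, cm_mul_right E.a0b b0W, hab0] at h1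
    rw [h1, B.Wab _ E.a0b' _ E.ab, B.Wab _ x0W _ E.a0b]
    group
  -- `y`
  refine ⟨_, E.a0b, _, E.ab, cm a0 (κ * a * κ⁻¹) * cm a0 (κ⁻¹ * a * κ), ?_, t1, ?_, ?_, g2⟩
  · -- `y ∈ X`
    apply B.cent _ (mul_mem E.a0b E.a0b')
    have t3 : t * cm a0 (κ⁻¹ * a * κ) * t = cm a0 (κ⁻¹ * a * κ) * cm a0 (κ * a0 * κ⁻¹) := by
      -- `g w1 g⁻¹`
      rw [← g1]
      have gt' : g⁻¹ * t = t * g⁻¹ := by
        have : Commute g t := B.gt
        exact this.inv_left.eq
      calc t * (g * cm a0 (κ * a * κ⁻¹) * g⁻¹) * t = (t * g) * cm a0 (κ * a * κ⁻¹) * (g⁻¹ * t) := by group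
        _ = (g * t) * cm a0 (κ * a * κ⁻¹) * (t * g⁻¹) := by rw [B.gt, gt']
        _ = g * (t * cm a0 (κ * a * κ⁻¹) * t) * g⁻¹ := by group
        _ = g * cm a0 (κ * a * κ⁻¹) * g⁻¹ * (g * cm a0 (κ * a0 * κ⁻¹) * g⁻¹) := by rw [t1]; group
        _ = _ := by rw [B.gX _ E.x0]
    calc t * (cm a0 (κ * a * κ⁻¹) * cm a0 (κ⁻¹ * a * κ)) * t
        = (t * cm a0 (κ * a * κ⁻¹) * t) * (t * cm a0 (κ⁻¹ * a * κ) * t) := by
          calc t * (cm a0 (κ * a * κ⁻¹) * cm a0 (κ⁻¹ * a * κ)) * t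
              = t * cm a0 (κ * a * κ⁻¹) * 1 * cm a0 (κ⁻¹ * a * κ) * t := by group
            _ = t * cm a0 (κ * a * κ⁻¹) * (t * t) * cm a0 (κ⁻¹ * a * κ) * t := by rw [B.tt]
            _ = _ := by group
      _ = cm a0 (κ * a * κ⁻¹) * cm a0 (κ * a0 * κ⁻¹) * (cm a0 (κ⁻¹ * a * κ) * cm a0 (κ * a0 * κ⁻¹)) := by
          rw [t1, t3]
      _ = cm a0 (κ * a * κ⁻¹) * (cm a0 (κ * a0 * κ⁻¹) * cm a0 (κ⁻¹ * a * κ)) * cm a0 (κ * a0 * κ⁻¹) := by group
      _ = cm a0 (κ * a * κ⁻¹) * (cm a0 (κ⁻¹ * a * κ) * cm a0 (κ * a0 * κ⁻¹)) * cm a0 (κ * a0 * κ⁻¹) := by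
          rw [B.Wab _ x0W _ E.a0b']
      _ = cm a0 (κ * a * κ⁻¹) * cm a0 (κ⁻¹ * a * κ) * (cm a0 (κ * a0 * κ⁻¹) * cm a0 (κ * a0 * κ⁻¹)) := by group
      _ = _ := by rw [B.Wsq _ x0W, mul_one]
  · rw [g1, ← mul_assoc, B.Wsq _ E.a0b, one_mul]
  · rw [t2, B.Wab _ E.a0b' _ E.a0b]

/-- A torus: transitive on `X`, commuting with `g` on `W`. -/
structure Tor (t g : G) (X W H : Subgroup G) : Prop where
  ht : ∀ h ∈ H, h * t = t * h
  hX : ∀ h ∈ H, ∀ x ∈ X, h * x * h⁻¹ ∈ X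
  hW : ∀ h ∈ H, ∀ w ∈ W, h * w * h⁻¹ ∈ W
  comm : ∀ h ∈ H, ∀ w ∈ W, g * (h * w * h⁻¹) * g⁻¹ = h * (g * w * g⁻¹) * h⁻¹
  tr : ∀ x ∈ X, ∀ y ∈ X, x ≠ 1 → y ≠ 1 → ∃ h ∈ H, h * x * h⁻¹ = y

/-- **Lemma C for `U_n`**: `g` or `t g` centralises `W`. -/
theorem cent_or {H : Subgroup G} (B : Wt t g X W) (E : El t g X W a a0 κ) (T : Tor t g X W H)
    (hne : cm a0 (κ * a0 * κ⁻¹) ≠ 1) : (∀ w ∈ W, g * w = w * g) ∨ (∀ w ∈ W, (t * g) * w = w * (t * g)) := by
  have ti : t⁻¹ = t := inv_eq_of_mul_eq_one_left B.tt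
  obtain ⟨w1, hw1, w2, hw2, y, hy, e1, e2, e3, e4⟩ := exists_pair B E
  have hx := E.x0
  generalize cm a0 (κ * a0 * κ⁻¹) = x at *
  have tmul : ∀ b c : G, t * (b * c) * t = (t * b * t) * (t * c * t) := fun b c => by
    calc t * (b * c) * t = t * b * 1 * c * t := by group
      _ = t * b * (t * t) * c * t := by rw [B.tt]
      _ = _ := by group
  have hconj : ∀ h ∈ H, ∀ w z, t * w * t = w * z → t * (h * w * h⁻¹) * t = (h * w * h⁻¹) * (h * z * h⁻¹) := by
    intro h hh w z e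
    have h1 : Commute h t := T.ht h hh
    calc t * (h * w * h⁻¹) * t = (t * h) * w * (h⁻¹ * t) := by group
      _ = (h * t) * w * (t * h⁻¹) := by rw [h1.eq, h1.inv_left.eq]
      _ = h * (t * w * t) * h⁻¹ := by group
      _ = _ := by rw [e]; group
  -- two elements of `W` with the same `[w, t]`
  have same : ∀ w ∈ W, ∀ w' ∈ W, ∀ z, t * w * t = w * z → t * w' * t = w' * z → ∃ v ∈ X, w = w' * v := by
    intro w hw w' hw' z hz hz'
    have hzW : z ∈ W := by
      obtain ⟨z', hz'', e⟩ := B.brk w hw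
      have : z = z' := mul_left_cancel (hz.symm.trans e)
      rw [this]; exact B.XW hz''
    refine ⟨w'⁻¹ * w, B.cent _ (mul_mem (inv_mem hw') hw) ?_, by group⟩
    have h1 : t * w'⁻¹ * t = (w' * z)⁻¹ := by
      rw [← hz', mul_inv_rev, mul_inv_rev, ti]; group
    rw [tmul, h1, hz]
    calc (w' * z)⁻¹ * (w * z) = z⁻¹ * (w'⁻¹ * w * z) := by group
      _ = z⁻¹ * (z * (w'⁻¹ * w)) := by rw [B.Wab _ (mul_mem (inv_mem hw') hw) _ hzW]
      _ = _ := by group
  have gmul : ∀ b c : G, g * (b * c) * g⁻¹ = (g * b * g⁻¹) * (g * c * g⁻¹) := fun b c => by group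
  have gmv : ∀ w ∈ W, ∀ w' ∈ W, ∀ v ∈ X, w = w' * v → g * w' * g⁻¹ = w' → g * w * g⁻¹ = w := by
    intro w _ w' _ v hv e h1
    rw [e, gmul, h1, B.gX v hv]
  by_cases hy1 : y = 1
  · left
    intro w hw
    rw [hy1, mul_one] at e2
    rw [← mul_inv_eq_iff_eq_mul]
    obtain ⟨z, hz, ez⟩ := B.brk w hw
    by_cases hz1 : z = 1
    · exact B.gX _ (B.cent w hw (by rw [ez, hz1, mul_one]))
    · obtain ⟨h, hh, eh⟩ := T.tr x hx z hz hne hz1
      have h1 := hconj h hh w1 x e1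
      rw [eh] at h1
      obtain ⟨v, hv, ev⟩ := same w hw _ (T.hW h hh w1 hw1) z ez h1
      exact gmv w hw _ (T.hW h hh w1 hw1) v hv ev (by rw [T.comm h hh w1 hw1, e2])
  · right
    -- `y x = 1`
    have hyx : y * x = 1 := by
      by_contra hyx
      obtain ⟨h, hh, eh⟩ := T.tr (y * x) (mul_mem hy hx) x hx hyx hne
      have h1 := hconj h hh w2 (y * x) e3
      rw [eh] at h1
      obtain ⟨v, hv, ev⟩ := same w1 hw1 _ (T.hW h hh w2 hw2) x e1 h1
      have h2 := gmv w1 hw1 _ (T.hW h hh w2 hw2) v hv ev (by rw [T.comm h hh w2 hw2, e4])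
      rw [e2] at h2
      exact hy1 (mul_eq_left.1 h2)
    have hyx' : y = x := by
      have h1 := B.Wsq x (B.XW hx)
      exact mul_right_cancel (hyx.trans h1.symm)
    rw [hyx'] at e2
    have main : ∀ w ∈ W, g * w * g⁻¹ = t * w * t := by
      intro w hw
      obtain ⟨z, hz, ez⟩ := B.brk w hw
      by_cases hz1 : z = 1
      · have h1 := B.cent w hw (by rw [ez, hz1, mul_one])
        rw [B.gX _ h1, B.Xt _ h1]
      · obtain ⟨h, hh, eh⟩ := T.tr x hx z hz hne hz1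
        have h1 := hconj h hh w1 x e1
        rw [eh] at h1
        obtain ⟨v, hv, ev⟩ := same w hw _ (T.hW h hh w1 hw1) z ez h1
        have h2 : g * (h * w1 * h⁻¹) * g⁻¹ = (h * w1 * h⁻¹) * z := by
          rw [T.comm h hh w1 hw1, e2, ← eh]; group
        rw [ez, ev, gmul, h2, B.gX v hv, mul_assoc _ z v, B.Wab z (B.XW hz) v (B.XW hv), mul_assoc _ v z]
    intro w hw
    rw [← mul_inv_eq_iff_eq_mul]
    calc t * g * w * (t * g)⁻¹ = t * (g * w * g⁻¹) * t⁻¹ := by group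
      _ = (t * t) * w * (t * t) := by rw [main w hw, ti]; group
      _ = w := by rw [B.tt, one_mul, mul_one]

end Cfsg.Agent.OddHalf.D7Out.ConstU

end

-- merged: Cfsg.Agent.OddHalf.D7.Uni.ConstInst
section

/-!
# ODD D7, `K = PSU_n(q)`: an involution `g ∈ C(t)` normalising the points of a frame: `g` or `t g` centralises `W_v`

`cent_or_fld`: `g` acts as the semilinear isometry `x ↦ x ^ q` of the frame `v, v', u, u'` (`ConstU.cent_or`).
-/

set_option autoImplicit false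
set_option linter.unusedSectionVars false

namespace Cfsg.Agent.OddHalf.D7.Uni.ConstInst

open Cfsg Cfsg.Agent.LieClassical.HermBasic Cfsg.Agent.LieClassical.HermSiegel
  Cfsg.Agent.LieClassical.HermGen Cfsg.Agent.LieClassical.SUBasic Matrix
  Cfsg.Agent.ClassicalGeometry.PSUAutBasic Cfsg.Agent.ClassicalGeometry.PSUAutSylow
  Cfsg.Agent.ClassicalGeometry.PSUAutUnip Cfsg.Agent.ClassicalGeometry.PSUAutPhi
  Cfsg.Agent.KFacts.Unit Cfsg.Agent.OddHalf.D7.Uni.Face Cfsg.Agent.OddHalf.D7.Uni.Equiv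
  Cfsg.Agent.OddHalf.D7.Uni.FaceR Cfsg.Agent.OddHalf.D7Out

open Cfsg.Agent.ClassicalGeometry.PSUAutCount (gm semiConj toAut act_semiConj)

variable {F : Type*} [Field F] [Fintype F] {q n : ℕ} {G : Type*} [Group G] {t g : G} {j : PSU n F q →* G}

/-- Semilinear conjugation of a Siegel element. -/
theorem sc_Sg (hF : Fintype.card F = q ^ 2) {A : GU n F q} {ρ : F ≃+* F} (S : Semi t j g A ρ) {u w : Fin n → F} {μ : F}
    (h : IsSiegel q u w μ) :
    g * fj n F q j (Sg hF u w μ) * g⁻¹ = fj n F q j (Sg hF (sg A ρ u) (sg A ρ w) (ρ μ)) := by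
  have h' : IsSiegel q (sg A ρ u) (sg A ρ w) (ρ μ) := Cfsg.Agent.ClassicalGeometry.PSUAutExt.isSiegel_semi A ρ h
  rw [S.conj, Sg_eq hF h, Sg_eq hF h', Cfsg.Agent.ClassicalGeometry.PSUAutExt.semiConj_siegel]
  rfl

/-- `g` acts as the field automorphism of the frame. -/
structure Fld (t : G) (j : PSU n F q →* G) (g : G) (A : GU n F q) (ρ : F ≃+* F) (v v' u u' : Fin n → F) : Prop
    extends Semi t j g A ρ where
  gg : g * g = 1
  fr : ∀ x, ρ x = x ^ q
  fv : sg A ρ v = v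
  fv' : sg A ρ v' = v'
  fu : sg A ρ u = u
  fu' : sg A ρ u' = u'

section one

variable [CharP F 2] {hF : Fintype.card F = q ^ 2} {v v' u u' : Fin n → F} (H : P2 q v v' u u')
  {A : GU n F q} {ρ : F ≃+* F} (D : Fld t j g A ρ v v' u u')

include H D

theorem gNp {x : F} (hx : x ^ q = x) : g * fj n F q j (Np hF v x) * g⁻¹ = fj n F q j (Np hF v x) := by
  rw [Np, sc_Sg hF D.toSemi (isS_np H.pp hx), D.fv, sg_zero, D.fr, hx]

theorem gMm (μ : F) : g * fj n F q j (Mm hF v u μ) * g⁻¹ = fj n F q j (Mm hF v u (μ ^ q)) := by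
  rw [Mm, sc_Sg hF D.toSemi (isS_vec hF H.pp H.rp H.rr _), D.fv, sg_smul, D.fu, D.fr, map_zero, Mm]

end one

theorem P2.kap (hF : Fintype.card F = q ^ 2) {v v' u u' : Fin n → F} (H : P2 q v v' u u') {z : F} (hz : z ≠ 0) :
    P2 q v v' (z • u') ((z ^ q)⁻¹ • u) := by
  have e1 : z * ((z ^ q)⁻¹) ^ q = 1 := by
    rw [inv_pow, pow_q_pow_q hF, mul_inv_cancel₀ hz]
  have e2 : (z ^ q)⁻¹ * z ^ q = 1 := inv_mul_cancel₀ (pow_ne_zero _ hz)
  constructor <;>
    simp only [herm_smul_left, herm_smul_right, H.pp, H.p'p', H.pp', H.p'p, H.rr,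
      H.r'r', H.rr', H.r'r, H.pr, H.rp, H.pr', H.r'p, H.p'r, H.rp', H.p'r', H.r'p', mul_zero, mul_one] <;>
    first
      | done
      | linear_combination e1
      | linear_combination e2

theorem exists_kap (hF : Fintype.card F = q ^ 2) (hn : 5 ≤ n) {v v' u u' : Fin n → F} (H : P2 q v v' u u') {z : F}
    (hz : z ≠ 0) : ∃ k : SU n F q, act k v = v ∧ act k u = z • u' ∧ act k u' = (z ^ q)⁻¹ • u := by
  obtain ⟨k, h1, h2⟩ := exists_map_Frm hF hn H.frm (P2.kap hF H hz).frm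
  exact ⟨k, h1 0, h1 1, h2 1⟩

section two

variable [CharP F 2] {hF : Fintype.card F = q ^ 2} {v v' u u' : Fin n → F} {W R : (Fin n → F) → Subgroup G}

/-- the subgroups on the line `⟨v, u⟩` -/
def EL' (W : (Fin n → F) → Subgroup G) (v u : Fin n → F) : Subgroup G :=
  Subgroup.closure {w | ∃ a b : F, a • v + b • u ≠ 0 ∧ w ∈ W (a • v + b • u)}

omit [CharP F 2] in
theorem herm_line (hF : Fintype.card F = q ^ 2) (H : P2 q v v' u u') (a b : F) : hermForm n F q (a • v + b • u) (a • v + b • u) = 0 := by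
  rw [herm_add_left, herm_add_right hF, herm_add_right hF, herm_smul_left, herm_smul_left, herm_smul_left,
    herm_smul_left, herm_smul_right, herm_smul_right, herm_smul_right, herm_smul_right, H.pp, H.pr, H.rp, H.rr]
  ring

omit [CharP F 2] in
/-- the pointwise stabiliser of the line centralises `EL'` -/
theorem cent_EL' (Y : Dbl hF t j W) (H : P2 q v v' u u') {k : SU n F q} (h1 : act k v = v) (h2 : act k u = u) {x : G}
    (hx : x ∈ EL' W v u) : fj n F q j k * x = x * fj n F q j k := by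
  refine Subgroup.closure_induction (p := fun x _ => fj n F q j k * x = x * fj n F q j k) ?_ ?_ ?_ ?_ hx
  · rintro w ⟨a, b, hne, hw⟩
    exact (Y.cent hne (herm_line hF H a b) w hw k (by rw [act_add, act_smul, act_smul, h1, h2])).symm
  · rw [mul_one, one_mul]
  · intro x y _ _ hx hy
    have c1 : Commute (fj n F q j k) x := hx
    have c2 : Commute (fj n F q j k) y := hy
    exact (c1.mul_right c2).eq
  · intro x _ hx
    have c1 : Commute (fj n F q j k) x := hx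
    exact c1.inv_right.eq

/-- `g` normalises `EL'` -/
theorem g_EL' (Y : Dbl hF t j W) (hn : 4 ≤ n) (H : P2 q v v' u u') {A : GU n F q} {ρ : F ≃+* F}
    (D : Fld t j g A ρ v v' u u') {x : G} (hx : x ∈ EL' W v u) : g * x * g⁻¹ ∈ EL' W v u := by
  refine conj_closure ?_ hx
  rintro w ⟨a, b, hne, hw⟩
  have e : sg A ρ (a • v + b • u) = ρ a • v + ρ b • u := by
    rw [sg_add, sg_smul, sg_smul, D.fv, D.fu]
  have hne' : ρ a • v + ρ b • u ≠ 0 := by
    intro h
    rw [← e] at h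
    exact hne (sg_eq_zero A ρ h)
  have hu' := herm_line hF H (ρ a) (ρ b)
  have M : Mv hF t j g ρ (a • v + b • u) (ρ a • v + ρ b • u) (herm_line hF H a b) hu' := by
    have := D.toSemi.mv (hF := hF) (herm_line hF H a b) (by rw [e]; exact hu')
    simpa only [e] using this
  exact Subgroup.subset_closure ⟨ρ a, ρ b, hne', M.conj_W Y hn hne hne' hw⟩

/-- `EL'` lies in the closure of the generators of `E_l` -/
theorem EL'_le (Y : Dbl hF t j W) (H : P2 q v v' u u') : EL' W v u ≤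
    Subgroup.closure (LineGrp.gens (W v) (W u) (fun μ => fj n F q j (Mm hF v u μ))
      (fun l => fj n F q j (Mm hF v u' l))) := by
  rw [EL', Subgroup.closure_le]
  rintro w ⟨a, b, hne, hw⟩
  by_cases hb : b = 0
  · subst hb
    rw [zero_smul, add_zero] at hw hne
    have ha : a ≠ 0 := by rintro rfl; exact hne (zero_smul _ _)
    rw [Y.smul H.p_ne H.pp ha] at hw
    exact Subgroup.subset_closure (Or.inl hw)
  · have e : a • v + b • u = b • (u + (b⁻¹ * a) • v) := by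
      rw [smul_add, smul_smul, mul_inv_cancel_left₀ hb, add_comm]
    have e2 := Gg_r hF H (b⁻¹ * a)
    have e3 : act (Mm hF v u' (b⁻¹ * a))⁻¹ (u + (b⁻¹ * a) • v) = u := by rw [← e2, act_inv_act]
    have hne2 : u + (b⁻¹ * a) • v ≠ 0 := by
      intro h
      rw [h, act_zero] at e3
      exact H.r_ne e3.symm
    have hi2 : hermForm n F q (u + (b⁻¹ * a) • v) (u + (b⁻¹ * a) • v) = 0 := by
      have := herm_line hF H (b⁻¹ * a) 1
      rwa [one_smul, add_comm] at this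
    rw [e, Y.smul hne2 hi2 hb] at hw
    refine Subgroup.subset_closure (Or.inr (Or.inl ⟨b⁻¹ * a,
      (fj n F q j (Mm hF v u' (b⁻¹ * a)))⁻¹ * w * fj n F q j (Mm hF v u' (b⁻¹ * a)), ?_, by group⟩))
    have h1 := Y.conj hne2 hi2 (Mm hF v u' (b⁻¹ * a))⁻¹ w hw
    rwa [e3, map_inv, inv_inv] at h1

omit [CharP F 2] in
theorem Mm_one (hF : Fintype.card F = q ^ 2) (v u : Fin n → F) : Mm hF v u 1 = Sg hF v u 0 := by
  rw [Mm, one_pow, one_smul]

theorem S_inj (S : Sit n F q t j) (hn : 3 ≤ n) (H : P2 q v v' u u') {μ ν : F}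
    (h : fj n F q j (Mm hF v u μ) = fj n F q j (Mm hF v u ν)) : μ = ν := by
  have h1 := S.eq_of hF hn H.p_ne (by rw [Mm_p hF H, Mm_p hF H]) h
  have h2 := congrArg (fun k => act k u') h1
  simp only [act_Mm hF H.pp H.rr H.rp] at h2
  have h3 := congrArg (fun x => hermForm n F q x v') h2
  simp only [herm_sub_left, herm_add_left, herm_smul_left, H.pp', H.rp', H.r'p', H.r'r, H.r'p, mul_zero, mul_one,
    add_zero, zero_sub] at h3
  exact neg_injective h3

omit [CharP F 2] in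
theorem not_mul (H : P2 q v v' u u') (c : F) : u ≠ c • v := by
  intro h
  have h1 := H.rr'
  rw [h, herm_smul_left, H.pr', mul_zero] at h1
  exact zero_ne_one h1

/-- an element of `R v` above `m 1` on the line -/
theorem exists_a0 (Y : RF hF t j W R) (H : P2 q v v' u u') : ∃ a ∈ R v, a ∈ EL' W v u ∧
    t * a * t = a * fj n F q j (Mm hF v u 1) := by
  have ti : t⁻¹ = t := inv_eq_of_mul_eq_one_left Y.tt
  obtain ⟨e, heR, heE, w, hw, he⟩ := Y.lift H.p_ne H.pp H.rr H.rp (not_mul H)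
  rw [← Mm_one hF v u] at he
  set s := fj n F q j (Mm hF v u 1) with hs
  have ts : Commute t s := Y.tj _
  have sW : ∀ x ∈ W v, x * s = s * x := fun x hx => Y.cent H.p_ne H.pp x hx _ (Mm_p hF H 1)
  have s2 : s * s = 1 := by
    rw [hs, ← map_mul, ← Mm_add hF H, CharTwo.add_self_eq_zero]
    have := Mm_add hF H (0 : F) 0
    rw [add_zero] at this
    rw [(mul_eq_left.1 this.symm), map_one]
  have hww : w * w = 1 := Y.Wsq H.p_ne H.pp w hw
  -- `t w t = w`
  have h1 : t * w * t = w := by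
    have h2 : t * (t * e * t) * t = e := by
      calc t * (t * e * t) * t = (t * t) * e * (t * t) := by group
        _ = e := by rw [Y.tt]; group
    rw [he] at h2
    have h3 : t * (e * (s * w)) * t = e * ((s * w) * (s * (t * w * t))) := by
      calc t * (e * (s * w)) * t = t * e * 1 * s * w * t := by group
        _ = t * e * (t * t) * s * w * t := by rw [Y.tt]
        _ = (t * e * t) * (t * s) * w * t := by group
        _ = e * (s * w) * (s * t) * w * t := by rw [he, ts.eq]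
        _ = _ := by group
    rw [h3] at h2
    have h4 := mul_eq_left.1 h2
    have h5 : w * (t * w * t) = 1 := by
      calc w * (t * w * t) = (s * s) * w * (t * w * t) := by rw [s2, one_mul]
        _ = s * (s * w) * (t * w * t) := by group
        _ = s * (w * s) * (t * w * t) := by rw [sW w hw]
        _ = (s * w) * (s * (t * w * t)) := by group
        _ = 1 := h4
    exact mul_left_cancel (h5.trans hww.symm)
  have h2 : t * w = w * t := by
    calc t * w = (t * w * t) * t := by rw [mul_assoc (t * w), Y.tt, mul_one]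
      _ = w * t := by rw [h1]
  obtain ⟨x, hx, rfl⟩ := Y.fix H.p_ne H.pp w hw h2
  obtain ⟨w', hw', e'⟩ := Y.surj H.p_ne H.pp x hx
  refine ⟨e * w', mul_mem heR ((Y.pt H.p_ne H.pp).WR hw'), mul_mem heE (Subgroup.subset_closure ⟨1, 0, ?_, ?_⟩), ?_⟩
  · rw [one_smul, zero_smul, add_zero]
    exact H.p_ne
  · rw [one_smul, zero_smul, add_zero]
    exact hw'
  · have c1 : Commute (j x) w' := by
      have h3 := (Y.pt H.p_ne H.pp).Wc _ hw w' ((Y.pt H.p_ne H.pp).WR hw')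
      exact h3
    calc t * (e * w') * t = t * e * 1 * w' * t := by group
      _ = (t * e * t) * (t * w' * t) := by rw [← Y.tt]; group
      _ = e * (s * j x) * (w' * j x) := by rw [he, e']
      _ = e * s * (j x * w') * j x := by group
      _ = e * s * (w' * j x) * j x := by rw [c1.eq]
      _ = e * (s * w') * (j x * j x) := by group
      _ = e * (w' * s) := by rw [← sW w' hw', hww, mul_one]
      _ = _ := by group

/-- the element `a` of `ConstU` -/
theorem exists_a (Y : RF hF t j W R) (hn : 6 ≤ n) (H : P2 q v v' u u') {A : GU n F q} {ρ : F ≃+* F}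
    (D : Fld t j g A ρ v v' u u') : ∃ a ∈ R v, t * a * t = a * fj n F q j (Mm hF v u 1) ∧
      (∀ k : SU n F q, act k v = v → act k u = u → fj n F q j k * a = a * fj n F q j k) ∧
      ∃ x, x ^ q = x ∧ g * a * g⁻¹ = a * fj n F q j (Np hF v x) := by
  have ti : t⁻¹ = t := inv_eq_of_mul_eq_one_left Y.tt
  have hpr := Y.toDbl.pr hn
  have L := Y.toDbl.el (by omega) hpr H
  set E := Subgroup.closure (LineGrp.gens (W v) (W u) (fun μ => fj n F q j (Mm hF v u μ))
      (fun l => fj n F q j (Mm hF v u' l))) with hE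
  have P := Y.pt H.p_ne H.pp
  obtain ⟨a, haR, haE', ha⟩ := exists_a0 Y H
  have haE : a ∈ E := EL'_le Y.toDbl H haE'
  have hgE' : g * a * g⁻¹ ∈ EL' W v u := g_EL' Y.toDbl (by omega) H D haE'
  have hgE : g * a * g⁻¹ ∈ E := EL'_le Y.toDbl H hgE'
  have M : Mv hF t j g ρ v v H.pp H.pp := by
    have := D.toSemi.mv (hF := hF) H.pp (by rw [D.fv]; exact H.pp)
    simpa only [D.fv] using this
  have M' := M.symm
  -- `a ∈ E_{v,l}`
  have haV : a ∈ Quad.Evl E (W v) ((QQ hF v H.pp).map j) :=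
    L.mem_Evl.2 ⟨haE, fun y hy => P.com y (P.QR hy) a haR⟩
  have hgV : g * a * g⁻¹ ∈ Quad.Evl E (W v) ((QQ hF v H.pp).map j) := by
    refine L.mem_Evl.2 ⟨hgE, fun y hy => ?_⟩
    have h1 : g⁻¹ * y * g ∈ (QQ hF v H.pp).map j := by
      have := M'.conj_Q hy
      rwa [inv_inv] at this
    have h2 := M.conj_W Y.toDbl (by omega) H.p_ne H.p_ne (P.com _ (P.QR h1) a haR)
    have e : g * (g⁻¹ * y * g * a * (g⁻¹ * y * g)⁻¹ * a⁻¹) * g⁻¹ = y * (g * a * g⁻¹) * y⁻¹ * (g * a * g⁻¹)⁻¹ := by group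
    rwa [e] at h2
  have hdV : a⁻¹ * (g * a * g⁻¹) ∈ Quad.Evl E (W v) ((QQ hF v H.pp).map j) := mul_mem (inv_mem haV) hgV
  have gt : Commute g t := D.comm
  set s := fj n F q j (Mm hF v u 1) with hs
  have gs : g * s * g⁻¹ = s := by rw [hs, gMm H D, one_pow]
  have tga : t * (g * a * g⁻¹) * t = g * a * g⁻¹ * s := by
    calc t * (g * a * g⁻¹) * t = (t * g) * a * (g⁻¹ * t) := by group
      _ = (g * t) * a * (t * g⁻¹) := by rw [gt.eq, gt.inv_left.eq]
      _ = g * (t * a * t) * g⁻¹ := by group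
      _ = g * a * g⁻¹ * (g * s * g⁻¹) := by rw [ha]; group
      _ = _ := by rw [gs]
  have hsE : s ∈ E := L.m_E 1
  have hdt : t * (a⁻¹ * (g * a * g⁻¹)) = (a⁻¹ * (g * a * g⁻¹)) * t := by
    have h1 : t * (a⁻¹ * (g * a * g⁻¹)) * t = a⁻¹ * (g * a * g⁻¹) := by
      calc t * (a⁻¹ * (g * a * g⁻¹)) * t = t * a⁻¹ * 1 * (g * a * g⁻¹) * t := by group
        _ = (t * a⁻¹ * t) * (t * (g * a * g⁻¹) * t) := by rw [← Y.tt]; group
        _ = (t * a * t)⁻¹ * (g * a * g⁻¹ * s) := by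
            rw [tga]
            congr 1
            rw [_root_.mul_inv_rev, _root_.mul_inv_rev, ti]; group
        _ = s⁻¹ * (a⁻¹ * (g * a * g⁻¹) * s) := by rw [ha]; group
        _ = s⁻¹ * (s * (a⁻¹ * (g * a * g⁻¹))) := by rw [L.ab _ (mul_mem (inv_mem haE) hgE) s hsE]
        _ = _ := by group
    calc t * (a⁻¹ * (g * a * g⁻¹)) = (t * (a⁻¹ * (g * a * g⁻¹)) * t) * t := by
          rw [mul_assoc (t * (a⁻¹ * (g * a * g⁻¹))), Y.tt, mul_one]
      _ = _ := by rw [h1]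
  obtain ⟨x, e, hx, hde⟩ := L.cent_Evl hdV hdt
  have hx' : x ^ q = x := hx
  have hga : g * a * g⁻¹ = a * (fj n F q j (Np hF v x) * fj n F q j (Mm hF v u e)) := by
    rw [← hde]; group
  -- `e ^ q = e`
  have hmm : ∀ μ ν, fj n F q j (Mm hF v u (μ + ν)) = fj n F q j (Mm hF v u μ) * fj n F q j (Mm hF v u ν) :=
    fun μ ν => by rw [Mm_add hF H, map_mul]
  have hnm : ∀ μ, Commute (fj n F q j (Np hF v x)) (fj n F q j (Mm hF v u μ)) := fun μ => by
    show fj n F q j (Np hF v x) * fj n F q j (Mm hF v u μ) = fj n F q j (Mm hF v u μ) * fj n F q j (Np hF v x)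
    rw [← map_mul, ← map_mul, Np_Mm hF H hx']
  have hnn : fj n F q j (Np hF v x) * fj n F q j (Np hF v x) = 1 := by
    have h0 := Np_add hF H (zero_pow_q hF) (zero_pow_q hF)
    rw [add_zero] at h0
    rw [← map_mul, ← Np_add hF H hx' hx', CharTwo.add_self_eq_zero, mul_eq_left.1 h0.symm, map_one]
  have he : e ^ q = e := by
    have h1 : g * (g * a * g⁻¹) * g⁻¹ = a := by
      calc g * (g * a * g⁻¹) * g⁻¹ = (g * g) * a * (g * g)⁻¹ := by group
        _ = a := by rw [D.gg]; group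
    have h2 : g * (g * a * g⁻¹) * g⁻¹ = a * fj n F q j (Mm hF v u (e + e ^ q)) := by
      calc g * (g * a * g⁻¹) * g⁻¹ = (g * a * g⁻¹) * (g * fj n F q j (Np hF v x) * g⁻¹) *
            (g * fj n F q j (Mm hF v u e) * g⁻¹) := by
              conv_lhs => rw [hga]
              group
        _ = a * (fj n F q j (Np hF v x) * fj n F q j (Mm hF v u e)) * fj n F q j (Np hF v x) *
            fj n F q j (Mm hF v u (e ^ q)) := by rw [hga, gNp H D hx', gMm H D]
        _ = a * (fj n F q j (Np hF v x) * (fj n F q j (Mm hF v u e) * fj n F q j (Np hF v x))) *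
            fj n F q j (Mm hF v u (e ^ q)) := by group
        _ = a * ((fj n F q j (Np hF v x) * fj n F q j (Np hF v x)) * fj n F q j (Mm hF v u e)) *
            fj n F q j (Mm hF v u (e ^ q)) := by rw [← (hnm e).eq]; group
        _ = _ := by rw [hnn, one_mul, hmm, mul_assoc]
    rw [h1] at h2
    have h3 : fj n F q j (Mm hF v u (e + e ^ q)) = 1 := mul_eq_left.1 h2.symm
    have h4 : fj n F q j (Mm hF v u (e + e ^ q)) = fj n F q j (Mm hF v u 0) := by
      rw [h3]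
      have h0 := hmm 0 0
      rw [add_zero] at h0
      exact (mul_eq_left.1 h0.symm).symm
    have h5 := S_inj Y.toDbl.toSit (by omega) H h4
    rw [CharTwo.add_eq_zero] at h5
    exact h5.symm
  obtain ⟨y, hy⟩ := exists_trace_eq hF he
  refine ⟨a * fj n F q j (Mm hF v u y), mul_mem haR (P.QR (L.mQ y)), ?_, ?_, x, hx', ?_⟩
  · have h1 : Commute s (fj n F q j (Mm hF v u y)) := by
      show s * fj n F q j (Mm hF v u y) = fj n F q j (Mm hF v u y) * s
      rw [hs, ← hmm, ← hmm, add_comm]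
    have h2 : Commute t (fj n F q j (Mm hF v u y)) := Y.tj _
    calc t * (a * fj n F q j (Mm hF v u y)) * t = t * a * (fj n F q j (Mm hF v u y) * t) := by group
      _ = (t * a * t) * fj n F q j (Mm hF v u y) := by rw [← h2.eq]; group
      _ = a * (s * fj n F q j (Mm hF v u y)) := by rw [ha]; group
      _ = _ := by rw [h1.eq]; group
  · intro k hk1 hk2
    have c1 : Commute (fj n F q j k) a := cent_EL' Y.toDbl H hk1 hk2 haE'
    have c2 : Commute (fj n F q j k) (fj n F q j (Mm hF v u y)) := by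
      have h1 : k * Mm hF v u y * k⁻¹ = Mm hF v u y := by
        rw [Mm, conj_Sg hF (isS_vec hF H.pp H.rp H.rr _), hk1, act_smul, hk2]
      have h2 : k * Mm hF v u y = Mm hF v u y * k := mul_inv_eq_iff_eq_mul.1 h1
      show fj n F q j k * fj n F q j (Mm hF v u y) = fj n F q j (Mm hF v u y) * fj n F q j k
      rw [← map_mul, h2, map_mul]
    exact (c1.mul_right c2).eq
  · have hyq : y ^ q = y + e := by
      rw [← hy, ← add_assoc, CharTwo.add_self_eq_zero, zero_add]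
    calc g * (a * fj n F q j (Mm hF v u y)) * g⁻¹ = (g * a * g⁻¹) * (g * fj n F q j (Mm hF v u y) * g⁻¹) := by group
      _ = a * (fj n F q j (Np hF v x) * fj n F q j (Mm hF v u e)) * fj n F q j (Mm hF v u (y ^ q)) := by
          rw [hga, gMm H D]
      _ = a * (fj n F q j (Np hF v x) * (fj n F q j (Mm hF v u e) * fj n F q j (Mm hF v u (y ^ q)))) := by group
      _ = a * (fj n F q j (Np hF v x) * fj n F q j (Mm hF v u y)) := by
          rw [← hmm, hyq, add_comm, add_assoc, CharTwo.add_self_eq_zero, add_zero]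
      _ = _ := by rw [(hnm y).eq]; group

theorem mem_X' {x : G} (hv : hermForm n F q v v = 0) : x ∈ (RR hF v hv).map j ↔
    ∃ a, a ^ q = a ∧ x = fj n F q j (Np hF v a) := by
  constructor
  · rintro ⟨y, hy, rfl⟩
    obtain ⟨μ, hμ, rfl⟩ := mem_RR.1 hy
    rw [CharTwo.add_eq_zero] at hμ
    refine ⟨μ, hμ.symm, ?_⟩
    rw [Np, Sg_eq hF (isS_np hv hμ.symm)]
    rfl
  · rintro ⟨a, ha, rfl⟩
    have hμ : a + a ^ q = 0 := by rw [ha, CharTwo.add_self_eq_zero]
    refine ⟨_, mem_RR.2 ⟨a, hμ, rfl⟩, ?_⟩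
    rw [Np, Sg_eq hF (isS_np hv ha)]
    rfl

theorem wt (Y : RF hF t j W R) (hn : 6 ≤ n) (H : P2 q v v' u u') {A : GU n F q} {ρ : F ≃+* F}
    (D : Fld t j g A ρ v v' u u') : ConstU.Wt t g ((RR hF v H.pp).map j) (W v) where
  tt := Y.tt
  gt := D.comm
  XW := Y.X_le H.p_ne H.pp
  Wab a ha b hb := Y.toDbl.ab (by omega) (Y.toDbl.pr hn) H.p_ne H.pp ha hb
  Wsq := Y.Wsq H.p_ne H.pp
  brk w hw := by
    obtain ⟨x, hx, e⟩ := Y.brk H.p_ne H.pp w hw
    exact ⟨j x, ⟨x, hx, rfl⟩, e⟩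
  cent w hw h := by
    apply Y.fix H.p_ne H.pp w hw
    calc t * w = (t * w * t) * t := by rw [mul_assoc (t * w), Y.tt, mul_one]
      _ = w * t := by rw [h]
  Xt := by
    rintro _ ⟨x, -, rfl⟩
    rw [Y.tj, mul_assoc, Y.tt, mul_one]
  gX := by
    intro x hx
    obtain ⟨a, ha, rfl⟩ := (mem_X' H.pp).1 hx
    exact gNp H D ha

omit [CharP F 2] in
theorem semi_act {A : GU n F q} {ρ : F ≃+* F} {x y : Fin n → F} {c : F} (hx : sg A ρ x = x) (hy : sg A ρ y = y)
    {k : SU n F q} (h : act k x = c • y) : act (semiConj A ρ k) x = ρ c • y := by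
  conv_lhs => rw [← hx]
  rw [act_sg, h, sg_smul, hy]

/-- the torus -/
def torS (q : ℕ) (v : Fin n → F) : Subgroup (SU n F q) where
  carrier := {k | ∃ b : F, b ≠ 0 ∧ b ^ q = b ∧ act k v = b • v}
  one_mem' := ⟨1, one_ne_zero, one_pow q, by rw [act_one, one_smul]⟩
  mul_mem' := by
    rintro k l ⟨b, hb0, hbq, hb⟩ ⟨c, hc0, hcq, hc⟩
    exact ⟨c * b, mul_ne_zero hc0 hb0, by rw [mul_pow, hcq, hbq], by rw [act_mul, hc, act_smul, hb, smul_smul]⟩
  inv_mem' := by
    rintro k ⟨b, hb0, hbq, hb⟩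
    refine ⟨b⁻¹, inv_ne_zero hb0, by rw [inv_pow, hbq], ?_⟩
    have h1 : act k⁻¹ (act k v) = v := act_inv_act k v
    rw [hb, act_smul] at h1
    rw [← h1, smul_smul, h1, inv_mul_cancel₀ hb0, one_smul]

theorem tor (Y : RF hF t j W R) (hn : 6 ≤ n) (H : P2 q v v' u u') {A : GU n F q} {ρ : F ≃+* F}
    (D : Fld t j g A ρ v v' u u') :
    ConstU.Tor t g ((RR hF v H.pp).map j) (W v) ((torS q v).map (fj n F q j)) where
  ht := by
    rintro _ ⟨k, -, rfl⟩
    exact (Y.tj _).symm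
  hX := by
    rintro _ ⟨k, ⟨b, hb0, hbq, hb⟩, rfl⟩ x hx
    obtain ⟨a, ha, rfl⟩ := (mem_X' H.pp).1 hx
    refine (mem_X' H.pp).2 ⟨b * b ^ q * a, ?_, ?_⟩
    · rw [mul_pow, norm_pow_q hF, ha]
    · rw [← map_mul, ← map_inv, ← map_mul, conj_Np hF H.pp ha hb]
  hW := by
    rintro _ ⟨k, ⟨b, hb0, hbq, hb⟩, rfl⟩ w hw
    have := Y.conj H.p_ne H.pp k w hw
    rwa [hb, Y.smul H.p_ne H.pp hb0] at this
  comm := by
    rintro _ ⟨k, ⟨b, hb0, hbq, hb⟩, rfl⟩ w hw
    have M : Mv hF t j g ρ v v H.pp H.pp := by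
      have := D.toSemi.mv (hF := hF) H.pp (by rw [D.fv]; exact H.pp)
      simpa only [D.fv] using this
    have hgw : g * w * g⁻¹ ∈ W v := M.conj_W Y.toDbl (by omega) H.p_ne H.p_ne hw
    have h1 : act (semiConj A ρ k) v = b • v := by
      rw [semi_act D.fv D.fv hb, D.fr, hbq]
    have h2 : act (k⁻¹ * semiConj A ρ k) v = v := by
      rw [act_mul, h1, ← hb, act_inv_act]
    have h3 := Y.cent H.p_ne H.pp _ hgw _ h2
    rw [map_mul, map_inv, ← D.conj] at h3
    set K := fj n F q j k with hK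
    calc g * (K * w * K⁻¹) * g⁻¹ = (g * K * g⁻¹) * (g * w * g⁻¹) * (g * K * g⁻¹)⁻¹ := by group
      _ = K * ((K⁻¹ * (g * K * g⁻¹)) * (g * w * g⁻¹)) * (g * K * g⁻¹)⁻¹ := by group
      _ = K * ((g * w * g⁻¹) * (K⁻¹ * (g * K * g⁻¹))) * (g * K * g⁻¹)⁻¹ := by rw [h3]
      _ = _ := by group
  tr := by
    intro x hx y hy hx1 hy1
    obtain ⟨a, ha, rfl⟩ := (mem_X' H.pp).1 hx
    obtain ⟨c, hc, rfl⟩ := (mem_X' H.pp).1 hy
    have h0 : fj n F q j (Np hF v 0) = 1 := by
      have h0 := Np_add hF H (zero_pow_q hF) (zero_pow_q hF)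
      rw [add_zero] at h0
      rw [mul_eq_left.1 h0.symm, map_one]
    have ha0 : a ≠ 0 := by rintro rfl; exact hx1 h0
    have hc0 : c ≠ 0 := by rintro rfl; exact hy1 h0
    obtain ⟨b, hb, hbq⟩ := exists_sqrt_fix (q := q) (ν := c / a) (by rw [div_pow, hc, ha])
    have hb0 : b ≠ 0 := by
      rintro rfl
      rw [mul_zero] at hb
      exact (div_ne_zero hc0 ha0) hb.symm
    have h1 : (b * 1) ^ q = b * 1 := by rw [mul_one, hbq]
    have ge := H.lf.dS_e hF hb0 one_ne_zero h1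
    refine ⟨_, ⟨H.lf.dS hF b 1 hb0 one_ne_zero h1, ⟨b, hb0, hbq, ge⟩, rfl⟩, ?_⟩
    rw [← map_mul, ← map_inv, ← map_mul, conj_Np hF H.pp ha ge, hbq, hb, div_mul_cancel₀ _ ha0]

/-- **Field involutions**: `g` or `t g` centralises `W v`. -/
theorem cent_or_fld (Y : RF hF t j W R) (hn : 6 ≤ n) (H : P2 q v v' u u') {A : GU n F q} {ρ : F ≃+* F}
    (D : Fld t j g A ρ v v' u u') : (∀ w ∈ W v, g * w = w * g) ∨ (∀ w ∈ W v, (t * g) * w = w * (t * g)) := by
  have P := Y.pt H.p_ne H.pp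
  obtain ⟨a, haR, ha, hka, x, hx, hga⟩ := exists_a Y hn H D
  obtain ⟨z, hz⟩ := exists_trace_ne hF
  have hz0 : z ≠ 0 := by
    rintro rfl
    rw [zero_pow_q hF, add_zero] at hz
    exact hz rfl
  obtain ⟨k, hkv, hku, hku'⟩ := exists_kap hF (by omega) H hz0
  have hkv' : act k⁻¹ v = v := by conv_lhs => rw [← hkv, act_inv_act]
  set κ := fj n F q j k with hκ
  set a0 := fj n F q j (Mm hF v u 1) with ha0
  have ha0R : a0 ∈ R v := P.QR ((Y.toDbl.el (by omega) (Y.toDbl.pr hn) H).mQ 1)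
  have κR : ∀ r ∈ R v, κ * r * κ⁻¹ ∈ R v := fun r hr => by
    have := Y.conjR H.p_ne H.pp k r hr
    rwa [hkv] at this
  have κR' : ∀ r ∈ R v, κ⁻¹ * r * κ ∈ R v := fun r hr => by
    have := Y.conjR H.p_ne H.pp k⁻¹ r hr
    rwa [hkv', map_inv, inv_inv] at this
  have κW : ∀ w ∈ W v, κ * w = w * κ := fun w hw => (Y.cent H.p_ne H.pp w hw k hkv).symm
  have cmW : ∀ r ∈ R v, ∀ s ∈ R v, ConstU.cm r s ∈ W v := by
    intro r hr s hs
    have h1 := P.com _ (inv_mem hr) _ (inv_mem hs)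
    rwa [inv_inv, inv_inv] at h1
  have hxW : fj n F q j (Np hF v x) ∈ W v := Y.X_le H.p_ne H.pp ((mem_X' H.pp).2 ⟨x, hx, rfl⟩)
  -- the commutator of `a0` and `κ a0 κ⁻¹`
  have hb0 : κ * a0 * κ⁻¹ = fj n F q j (Mm hF v u' (z ^ q)) := by
    have h1 : k * Mm hF v u 1 * k⁻¹ = Mm hF v u' (z ^ q) := by
      rw [Mm, conj_Sg hF (isS_vec hF H.pp H.rp H.rr _), hkv, act_smul, hku, Mm, pow_q_pow_q hF, one_pow, one_smul]
    rw [hκ, ha0, ← h1, map_mul, map_mul, map_inv]
  have hcm : ConstU.cm a0 (κ * a0 * κ⁻¹) = fj n F q j (Np hF v (z + z ^ q)) := by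
    have C := coord Y.toSit hF (by omega) H
    have h1 := C.g_m (z ^ q) 1
    have h2 := Quad.Coord.g_sq C (z ^ q)
    rw [hb0]
    set b0 := fj n F q j (Mm hF v u' (z ^ q)) with hb0
    have h3 : b0⁻¹ = b0 := inv_eq_of_mul_eq_one_left h2
    have h4 : b0 * a0 * b0⁻¹ = a0 * fj n F q j (Np hF v (z + z ^ q)) := by
      rw [h1, map_one, mul_one, mul_one]
      congr 3
      show z ^ q + (z ^ q) ^ q = z + z ^ q
      rw [pow_q_pow_q hF, add_comm]
    have h5 : ConstU.cm a0 b0 = a0⁻¹ * (b0⁻¹ * a0 * b0) := by unfold ConstU.cm; group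
    rw [h5]
    conv_lhs => rw [h3]
    conv_lhs => rw [show b0 * a0 * b0 = b0 * a0 * b0⁻¹ by rw [h3]]
    rw [h4, inv_mul_cancel_left]
  have hzq : (z + z ^ q) ^ q = z + z ^ q := trace_pow_q hF z
  have E : ConstU.El t g ((RR hF v H.pp).map j) (W v) a a0 κ :=
    { aW := fun w hw => (P.Wc w hw a haR).symm
      a0W := fun w hw => (P.Wc w hw a0 ha0R).symm
      κW := κW
      κt := (Y.tj _).symm
      ta := ha
      ta0 := by
        have h1 : t * a0 = a0 * t := Y.tj _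
        rw [h1, mul_assoc, Y.tt, mul_one]
      ab := cmW _ haR _ (κR a haR)
      a0b := cmW _ ha0R _ (κR a haR)
      a0b' := cmW _ ha0R _ (κR' a haR)
      x0 := (mem_X' H.pp).2 ⟨_, hzq, hcm⟩
      ga := ⟨_, hxW, hga⟩
      ga0 := ⟨1, one_mem _, by rw [mul_one, ha0, gMm H D, one_pow]⟩
      gκ := by
        refine ⟨_, hxW, ?_⟩
        -- `g κ g⁻¹`
        have h1 : act (k * semiConj A ρ k) v = v := by
          rw [act_mul, semi_act D.fv D.fv (c := 1) (by rw [hkv, one_smul]), map_one, one_smul, hkv]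
        have h2 : act (k * semiConj A ρ k) u = u := by
          rw [act_mul, semi_act D.fu D.fu' hku, act_smul, hku', D.fr, smul_smul,
            mul_inv_cancel₀ (pow_ne_zero _ hz0), one_smul]
        have h3 := hka _ h1 h2
        rw [map_mul, ← D.conj, ← hκ] at h3
        have h4 : (g * κ * g⁻¹) * fj n F q j (Np hF v x) = fj n F q j (Np hF v x) * (g * κ * g⁻¹) := by
          have h5 := Y.cent H.p_ne H.pp _ hxW (semiConj A ρ k) (by
            rw [semi_act D.fv D.fv (c := 1) (by rw [hkv, one_smul]), map_one, one_smul])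
          rw [← D.conj] at h5
          exact h5.symm
        set κ' := g * κ * g⁻¹ with hκ'
        set c := fj n F q j (Np hF v x) with hc
        have h6 : κ' * a * κ'⁻¹ = κ⁻¹ * a * κ := by
          calc κ' * a * κ'⁻¹ = κ⁻¹ * ((κ * κ') * a) * κ'⁻¹ := by group
            _ = κ⁻¹ * (a * (κ * κ')) * κ'⁻¹ := by rw [h3]
            _ = _ := by group
        calc g * (κ * a * κ⁻¹) * g⁻¹ = κ' * (g * a * g⁻¹) * κ'⁻¹ := by rw [hκ']; group
          _ = κ' * a * (c * κ'⁻¹) := by rw [hga]; group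
          _ = κ' * a * (κ'⁻¹ * (κ' * c) * κ'⁻¹) := by group
          _ = κ' * a * (κ'⁻¹ * (c * κ') * κ'⁻¹) := by rw [h4]
          _ = (κ' * a * κ'⁻¹) * c := by group
          _ = _ := by rw [h6] }
  refine ConstU.cent_or (wt Y hn H D) E (tor Y hn H D) ?_
  rw [hcm]
  intro h1
  have h2 : fj n F q j (Np hF v (z + z ^ q)) * fj n F q j (Mm hF v u 0) * fj n F q j (Np hF u 0) = 1 := by
    have C := coord Y.toSit hF (by omega) H
    have h3 := Quad.Coord.m_zero C
    have h4 := Quad.Coord.nr_zero C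
    rw [h1, h3, h4, mul_one, mul_one]
  exact hz ((coord Y.toSit hF (by omega) H).inj _ _ _ hzq (map_zero _) h2).1

end two

end Cfsg.Agent.OddHalf.D7.Uni.ConstInst

end

-- merged: Cfsg.Agent.OddHalf.D7.Uni.ConstC01
section

/-!
# ODD D7, `K = PSU_n(q)`: (c01) for involutions of `C(t)` normalising the points of a frame

`c01`: `g ∈ C(t)`, `g² = 1`, `g` normalises `X_v`, `X_{v'}`, `X_u`, `X_{u'}` for two orthogonal hyperbolic pairs:
`g` or `t g` centralises `W v`.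
-/

set_option autoImplicit false
set_option linter.unusedSectionVars false

namespace Cfsg.Agent.OddHalf.D7.Uni.ConstInst

open Cfsg Cfsg.Agent.LieClassical.HermBasic Cfsg.Agent.LieClassical.HermSiegel
  Cfsg.Agent.LieClassical.HermGen Cfsg.Agent.LieClassical.SUBasic Matrix
  Cfsg.Agent.ClassicalGeometry.PSUAutBasic Cfsg.Agent.ClassicalGeometry.PSUAutSylow
  Cfsg.Agent.ClassicalGeometry.PSUAutUnip Cfsg.Agent.ClassicalGeometry.PSUAutPhi
  Cfsg.Agent.KFacts.Unit Cfsg.Agent.OddHalf.D7.Uni.Face Cfsg.Agent.OddHalf.D7.Uni.Equiv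
  Cfsg.Agent.OddHalf.D7.Uni.FaceR Cfsg.Agent.OddHalf.D7Out

open Cfsg.Agent.ClassicalGeometry.PSUAutCount (gm semiConj toAut act_semiConj)

variable {F : Type*} [Field F] [Fintype F] {q n : ℕ} {G : Type*} [Group G] {t g : G} {j : PSU n F q →* G}

/-- The involution of `Aut(F)`. -/
theorem frob_of_invol [CharP F 2] (hF : Fintype.card F = q ^ 2) {ρ : F ≃+* F} (h2 : ∀ x, ρ (ρ x) = x)
    (hne : ∃ x, ρ x ≠ x) : ∀ x, ρ x = x ^ q := by
  classical
  let _ := ZMod.algebra F 2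
  have key : ∀ (τ : F ≃+* F) (r : ZMod 2), τ (algebraMap (ZMod 2) F r) = algebraMap (ZMod 2) F r := fun τ r =>
    RingHom.congr_fun (Subsingleton.elim ((τ : F →+* F).comp (algebraMap (ZMod 2) F)) (algebraMap (ZMod 2) F)) r
  let ρ' : F ≃ₐ[ZMod 2] F := AlgEquiv.ofRingEquiv (key ρ)
  let σ' : F ≃ₐ[ZMod 2] F := AlgEquiv.ofRingEquiv (key (conj hF))
  by_contra hcon
  push Not at hcon
  obtain ⟨y, hy⟩ := hcon
  obtain ⟨x, hx⟩ := hne
  obtain ⟨z, hz⟩ := exists_not_fixed hF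
  have h1 : ρ' ≠ σ' := fun h => hy (DFunLike.congr_fun h y)
  have h3 : (1 : F ≃ₐ[ZMod 2] F) ≠ ρ' := fun h => hx (DFunLike.congr_fun h x).symm
  have h4 : (1 : F ≃ₐ[ZMod 2] F) ≠ σ' := fun h => hz (DFunLike.congr_fun h z).symm
  have hc := IsCyclic.card_pow_eq_one_le (α := F ≃ₐ[ZMod 2] F) (n := 2) two_pos
  have h5 : ({1, ρ', σ'} : Finset (F ≃ₐ[ZMod 2] F)) ⊆ Finset.univ.filter (fun a => a ^ 2 = 1) := by
    intro a ha
    rw [Finset.mem_filter]
    refine ⟨Finset.mem_univ _, ?_⟩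
    simp only [Finset.mem_insert, Finset.mem_singleton] at ha
    rcases ha with rfl | rfl | rfl
    · exact one_pow 2
    · ext w
      rw [pow_two]
      exact h2 w
    · ext w
      rw [pow_two]
      exact pow_q_pow_q hF w
  have h6 := Finset.card_le_card h5
  rw [Finset.card_insert_of_notMem (by simp [h3, h4]), Finset.card_insert_of_notMem (by simpa using h1),
    Finset.card_singleton] at h6
  omega

/-- A nontrivial transvection determines its point. -/
theorem pt_of_mem (hF : Fintype.card F = q ^ 2) (hn : 3 ≤ n) {u u' : Fin n → F} (hu0 : u ≠ 0)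
    {hu : hermForm n F q u u = 0} {hu' : hermForm n F q u' u' = 0} {μ : F} (hμ0 : μ ≠ 0) (hμ : μ + μ ^ q = 0)
    (h : pr n F q (transv hF u hu μ hμ) ∈ RR hF u' hu') : ∃ c : F, c ≠ 0 ∧ u' = c • u := by
  obtain ⟨μ', hμ', h2⟩ := mem_RR.1 h
  have h3 := siegel_pr_inj hF hn _ _ h2
  obtain ⟨f, -, huf, hfu⟩ := exists_partner hF hu0 hu
  have h4 := congrArg (fun g => act g f) h3
  have h5 : f + (μ * 1) • u = f + (μ' * hermForm n F q f u') • u' := by
    have h6 := act_transv hF hu hμ f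
    have h7 := act_transv hF hu' hμ' f
    rw [hfu] at h6
    rw [← h6, ← h7]
    exact h4
  rw [add_right_inj, mul_one] at h5
  have hne : μ' * hermForm n F q f u' ≠ 0 := by
    intro h0
    rw [h0, zero_smul, smul_eq_zero] at h5
    rcases h5 with h | h
    · exact hμ0 h
    · exact hu0 h
  refine ⟨(μ' * hermForm n F q f u')⁻¹ * μ, mul_ne_zero (inv_ne_zero hne) hμ0, ?_⟩
  rw [mul_smul, h5, smul_smul, inv_mul_cancel₀ hne, one_smul]

omit [Fintype F] in
theorem sg_iso {A : GU n F q} {ρ : F ≃+* F} {x : Fin n → F} (hx : hermForm n F q x x = 0) :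
    hermForm n F q (sg A ρ x) (sg A ρ x) = 0 := by
  rw [herm_sg, hx, map_zero]

/-- `g` normalises `X_x`: it fixes the point. -/
theorem fix_of_norm (hF : Fintype.card F = q ^ 2) (hn : 3 ≤ n) (S : Sit n F q t j) {A : GU n F q} {ρ : F ≃+* F}
    (D : Semi t j g A ρ) {x : Fin n → F} (hx0 : x ≠ 0) (hx : hermForm n F q x x = 0)
    (hg : ∀ y ∈ (RR hF x hx).map j, g * y * g⁻¹ ∈ (RR hF x hx).map j) : ∃ c : F, c ≠ 0 ∧ sg A ρ x = c • x := by
  obtain ⟨μ, hμ0, hμ⟩ := exists_trace_zero_ne hF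
  have hρ : ρ.symm μ + ρ.symm μ ^ q = 0 := by rw [← map_pow, ← map_add, hμ, map_zero]
  have h1 : pr n F q (transv hF x hx (ρ.symm μ) hρ) ∈ RR hF x hx := mem_RR.2 ⟨_, hρ, rfl⟩
  have hs0 : sg A ρ x ≠ 0 := fun h => hx0 (sg_eq_zero A ρ h)
  obtain ⟨y, hy, e⟩ := hg _ ⟨_, h1, rfl⟩
  have h2 : g * j (pr n F q (transv hF x hx (ρ.symm μ) hρ)) * g⁻¹ =
      j (pr n F q (semiConj A ρ (transv hF x hx (ρ.symm μ) hρ))) := D.conj _
  rw [h2] at e
  have h3 := S.inj e
  have h4 : semiConj A ρ (transv hF x hx (ρ.symm μ) hρ) = transv hF (sg A ρ x) (sg_iso hx) μ hμ := by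
    rw [transv, Cfsg.Agent.ClassicalGeometry.PSUAutExt.semiConj_siegel, transv]
    refine siegel_congr hF _ _ rfl ?_ (ρ.apply_symm_apply μ)
    exact sg_zero A ρ
  rw [h4] at h3
  rw [h3] at hy
  obtain ⟨c, hc0, hc⟩ := pt_of_mem hF hn hs0 hμ0 hμ hy
  refine ⟨c⁻¹, inv_ne_zero hc0, ?_⟩
  conv_rhs => rw [hc]
  rw [smul_smul, inv_mul_cancel₀ hc0, one_smul]

/-- The square of the semilinear isometry of an involution is a scalar. -/
theorem scalar_of_sq (hF : Fintype.card F = q ^ 2) (hn : 3 ≤ n) (S : Sit n F q t j) {A : GU n F q} {ρ : F ≃+* F}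
    (D : Semi t j g A ρ) (gg : g * g = 1) : (∀ x, ρ (ρ x) = x) ∧ ∃ b : F, b ≠ 0 ∧ ∀ x, sg A ρ (sg A ρ x) = b • x := by
  obtain ⟨μ, hμ0, hμ⟩ := exists_trace_zero_ne hF
  set B : Matrix (Fin n) (Fin n) F := gm A * (gm A).map ρ with hB
  have hBx : ∀ x : Fin n → F, (B *ᵥ fun i => (ρ.trans ρ) (x i)) = sg A ρ (sg A ρ x) := by
    intro x
    rw [hB, ← Matrix.mulVec_mulVec, sg_def, sg_def]
    congr 1
    funext i
    simp [Matrix.mulVec, dotProduct, map_sum]
  have hB0 : B ≠ 0 := by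
    intro h
    have h1 := hBx (Pi.single (⟨0, by omega⟩ : Fin n) 1)
    rw [h, Matrix.zero_mulVec] at h1
    have h2 := sg_eq_zero A ρ (sg_eq_zero A ρ h1.symm)
    have h3 := congrFun h2 ⟨0, by omega⟩
    simp at h3
  obtain ⟨h1, b, hb0, hb⟩ := Cfsg.Agent.ClassicalGeometry.PSUAutCount.scalar_of_isotropic hF hn hB0 (ψ := ρ.trans ρ) (by
    intro x hx hx0
    rw [hBx]
    have h1 : g * (g * fj n F q j (transv hF x hx μ hμ) * g⁻¹) * g⁻¹ = fj n F q j (transv hF x hx μ hμ) := by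
      calc g * (g * fj n F q j (transv hF x hx μ hμ) * g⁻¹) * g⁻¹
          = (g * g) * fj n F q j (transv hF x hx μ hμ) * (g * g)⁻¹ := by group
        _ = _ := by rw [gg]; group
    rw [D.conj, D.conj] at h1
    have h2 := S.inj h1
    have h3 : pr n F q (semiConj A ρ (semiConj A ρ (transv hF x hx μ hμ))) ∈
        RR hF (sg A ρ (sg A ρ x)) (sg_iso (sg_iso hx)) := by
      have h4 : pr n F q (transv hF x hx μ hμ) ∈ RR hF x hx := mem_RR.2 ⟨_, hμ, rfl⟩
      have h5 := (Cfsg.Agent.ClassicalGeometry.PSUAutMain.toAut_RR hF A ρ hx (sg_iso hx) rfl _).1 h4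
      exact (Cfsg.Agent.ClassicalGeometry.PSUAutMain.toAut_RR hF A ρ (sg_iso hx) (sg_iso (sg_iso hx)) rfl _).1 h5
    rw [h2] at h3
    obtain ⟨c, -, hc⟩ := pt_of_mem hF hn hx0 hμ0 hμ h3
    exact ⟨c, hc⟩)
  refine ⟨h1, b, hb0, fun x => ?_⟩
  rw [← hBx, hb, Matrix.smul_mulVec, Matrix.one_mulVec]
  congr 1
  funext i
  exact h1 (x i)

/-- Hilbert 90. -/
theorem exists_hilb [CharP F 2] (hF : Fintype.card F = q ^ 2) {c : F} (hc : c * c ^ q = 1) :
    ∃ d : F, d ≠ 0 ∧ d ^ q * c = d := by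
  have key : ∀ x : F, (x + x ^ q * c) ^ q * c = x + x ^ q * c := by
    intro x
    rw [add_pow_q hF, mul_pow, pow_q_pow_q hF]
    linear_combination x * hc
  by_cases h1 : c = 1
  · exact ⟨1, one_ne_zero, by rw [one_pow, h1, mul_one]⟩
  · refine ⟨_, ?_, key 1⟩
    intro h
    rw [one_pow, one_mul, CharTwo.add_eq_zero] at h
    exact h1 h.symm

theorem P2.smul2 (hF : Fintype.card F = q ^ 2) {v v' u u' : Fin n → F} (H : P2 q v v' u u') {d e : F} (hd : d ≠ 0)
    (he : e ≠ 0) : P2 q (d • v) ((d ^ q)⁻¹ • v') (e • u) ((e ^ q)⁻¹ • u') := by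
  have e1 : d * ((d ^ q)⁻¹) ^ q = 1 := by rw [inv_pow, pow_q_pow_q hF, mul_inv_cancel₀ hd]
  have e2 : (d ^ q)⁻¹ * d ^ q = 1 := inv_mul_cancel₀ (pow_ne_zero _ hd)
  have e3 : e * ((e ^ q)⁻¹) ^ q = 1 := by rw [inv_pow, pow_q_pow_q hF, mul_inv_cancel₀ he]
  have e4 : (e ^ q)⁻¹ * e ^ q = 1 := inv_mul_cancel₀ (pow_ne_zero _ he)
  constructor <;>
    simp only [herm_smul_left, herm_smul_right, H.pp, H.p'p', H.pp', H.p'p, H.rr,
      H.r'r', H.rr', H.r'r, H.pr, H.rp, H.pr', H.r'p, H.p'r, H.rp', H.p'r', H.r'p', mul_zero, mul_one] <;>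
    first
      | done
      | linear_combination e1
      | linear_combination e2
      | linear_combination e3
      | linear_combination e4

section c01

variable [CharP F 2] {hF : Fintype.card F = q ^ 2} {v v' u u' : Fin n → F} {W R : (Fin n → F) → Subgroup G}

/-- **(c01).** -/
theorem c01 (Y : RF hF t j W R) (hn : 6 ≤ n) (H : P2 q v v' u u') (gt : g * t = t * g) (gg : g * g = 1)
    (gv : ∀ x ∈ (RR hF v H.pp).map j, g * x * g⁻¹ ∈ (RR hF v H.pp).map j)
    (gv' : ∀ x ∈ (RR hF v' H.p'p').map j, g * x * g⁻¹ ∈ (RR hF v' H.p'p').map j)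
    (gu : ∀ x ∈ (RR hF u H.rr).map j, g * x * g⁻¹ ∈ (RR hF u H.rr).map j)
    (gu' : ∀ x ∈ (RR hF u' H.r'r').map j, g * x * g⁻¹ ∈ (RR hF u' H.r'r').map j) :
    (∀ w ∈ W v, g * w = w * g) ∨ (∀ w ∈ W v, (t * g) * w = w * (t * g)) := by
  have S := Y.toSit
  obtain ⟨A, ρ, D⟩ := exists_semi S hF (by omega) gt
  have hv0 : v ≠ 0 := H.p_ne
  have hu0 : u ≠ 0 := H.r_ne
  have hv'0 : v' ≠ 0 := by
    rintro h
    have := H.p'p
    rw [h, herm_zero_left] at this
    exact zero_ne_one this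
  have hu'0 : u' ≠ 0 := by
    rintro h
    have := H.r'r
    rw [h, herm_zero_left] at this
    exact zero_ne_one this
  obtain ⟨c, hc0, hc⟩ := fix_of_norm hF (by omega) S D hv0 H.pp gv
  obtain ⟨c', hc'0, hc'⟩ := fix_of_norm hF (by omega) S D hv'0 H.p'p' gv'
  obtain ⟨e, he0, he⟩ := fix_of_norm hF (by omega) S D hu0 H.rr gu
  obtain ⟨e', he'0, he'⟩ := fix_of_norm hF (by omega) S D hu'0 H.r'r' gu'
  obtain ⟨hρ, b, hb0, hb⟩ := scalar_of_sq hF (by omega) S D gg
  -- `b b ^ q = 1`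
  have hbb : b * b ^ q = 1 := by
    have h1 := herm_sg A ρ (sg A ρ v) (sg A ρ v')
    rw [hb, hb, herm_sg, hρ, herm_smul_left, herm_smul_right, H.pp', mul_one] at h1
    exact h1
  have hcb : ∀ {x : Fin n → F} {a : F}, x ≠ 0 → sg A ρ x = a • x → ρ a * a = b := by
    intro x a hx0 hx
    have h1 := hb x
    rw [hx, sg_smul, hx, smul_smul] at h1
    have h2 : (ρ a * a - b) • x = 0 := by rw [sub_smul, h1, sub_self]
    rcases smul_eq_zero.1 h2 with h3 | h3
    · exact sub_eq_zero.1 h3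
    · exact absurd h3 hx0
  by_cases hlin : ∀ x, ρ x = x
  · -- linear
    have hρ1 : ρ = RingEquiv.refl F := RingEquiv.ext hlin
    subst hρ1
    have hcc : c * c = b := hcb hv0 hc
    have hci : c⁻¹ * c⁻¹ ^ q = 1 := by
      have h1 : (c * c ^ q) * (c * c ^ q) = 1 := by
        have h2 : (c * c) * (c * c) ^ q = 1 := by rw [hcc, hbb]
        rw [mul_pow] at h2
        linear_combination h2
      have h3 : c * c ^ q = 1 := by
        have h9 : (c * c ^ q + 1) * (c * c ^ q + 1) = 0 := by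
          have h10 := CharTwo.add_self_eq_zero (c * c ^ q)
          have h11 := CharTwo.add_self_eq_zero (1 : F)
          linear_combination h1 + h10 + h11
        have h10 := mul_self_eq_zero.1 h9
        rwa [CharTwo.add_eq_zero] at h10
      rw [inv_pow, ← mul_inv, h3, inv_one]
    have hsq : ∀ x, c⁻¹ • sg A (RingEquiv.refl F) (c⁻¹ • sg A (RingEquiv.refl F) x) = x := by
      intro x
      rw [sg_smul, hb, smul_smul, smul_smul, RingEquiv.refl_apply, ← hcc]
      have : c⁻¹ * c⁻¹ * (c * c) = 1 := by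
        field_simp
      rw [this, one_smul]
    obtain ⟨s, hs⟩ := exists_SU_of_isometry hF A hci (fun x => by
      have h1 : sg A (RingEquiv.refl F) (c⁻¹ • sg A (RingEquiv.refl F) x - x) =
          sg A (RingEquiv.refl F) (c⁻¹ • sg A (RingEquiv.refl F) x) - sg A (RingEquiv.refl F) x := by
        rw [sub_eq_add_neg, sg_add, sub_eq_add_neg]
        congr 1
        have h2 := sg_smul A (RingEquiv.refl F) (-1) x
        rw [neg_smul, one_smul, map_neg, map_one, neg_smul, one_smul] at h2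
        exact h2
      rw [h1, smul_sub, hsq]
      funext i
      simp only [Pi.sub_apply, CharTwo.sub_eq_add]
      exact add_comm _ _)
    have hin := toAut_eq_conj A (inv_ne_zero hc0) hs
    have hsv : act s v = v := by rw [hs, hc, smul_smul, inv_mul_cancel₀ hc0, one_smul]
    have hg : ∀ x, g * j x * g⁻¹ = j (MulAut.conj (pr n F q s) x) := by
      intro x
      obtain ⟨k, rfl⟩ := pr_surjective x
      rw [← hin]
      exact D.conj k
    rcases S.eq_or gt hg with h1 | h1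
    · left
      intro w hw
      rw [h1]
      exact (Y.cent hv0 H.pp w hw s hsv).symm
    · right
      intro w hw
      rw [h1, ← mul_assoc, Y.tt, one_mul]
      exact (Y.cent hv0 H.pp w hw s hsv).symm
  · -- field
    push Not at hlin
    have hfr := frob_of_invol hF hρ hlin
    have hb1 : b = 1 := by
      have h1 : c ^ q * c = b := by rw [← hfr]; exact hcb hv0 hc
      have h2 : b ^ q = b := by rw [← h1, mul_pow, pow_q_pow_q hF, mul_comm]
      rw [h2] at hbb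
      have h9 : (b + 1) * (b + 1) = 0 := by
        have h10 := CharTwo.add_self_eq_zero b
        have h11 := CharTwo.add_self_eq_zero (1 : F)
        linear_combination hbb + h10 + h11
      have h10 := mul_self_eq_zero.1 h9
      rwa [CharTwo.add_eq_zero] at h10
    have hcc : c * c ^ q = 1 := by rw [mul_comm, ← hfr, hcb hv0 hc, hb1]
    have hee : e * e ^ q = 1 := by rw [mul_comm, ← hfr, hcb hu0 he, hb1]
    have hc'c : c' * c' ^ q = 1 := by rw [mul_comm, ← hfr, hcb hv'0 hc', hb1]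
    have he'e : e' * e' ^ q = 1 := by rw [mul_comm, ← hfr, hcb hu'0 he', hb1]
    have hcc' : c' = c := by
      have h1 := herm_sg A ρ v v'
      rw [hc, hc', herm_smul_left, herm_smul_right, H.pp', map_one, mul_one] at h1
      have h2 : c' ^ q ≠ 0 := pow_ne_zero _ hc'0
      exact mul_right_cancel₀ h2 (hc'c.trans h1.symm)
    have hee' : e' = e := by
      have h1 := herm_sg A ρ u u'
      rw [he, he', herm_smul_left, herm_smul_right, H.rr', map_one, mul_one] at h1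
      have h2 : e' ^ q ≠ 0 := pow_ne_zero _ he'0
      exact mul_right_cancel₀ h2 (he'e.trans h1.symm)
    obtain ⟨d, hd0, hd⟩ := exists_hilb hF hcc
    obtain ⟨f, hf0, hf⟩ := exists_hilb hF hee
    have H' := P2.smul2 hF H hd0 hf0
    have e1 : ∀ {d c : F}, d ≠ 0 → d ^ q * c = d → ρ (d ^ q)⁻¹ * c = (d ^ q)⁻¹ := by
      intro d c hd0 hd
      have h1 : d ^ q ≠ 0 := pow_ne_zero _ hd0
      rw [map_inv₀, hfr, pow_q_pow_q hF]
      field_simp
      linear_combination hd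
    have D' : Fld t j g A ρ (d • v) ((d ^ q)⁻¹ • v') (f • u) ((f ^ q)⁻¹ • u') :=
      { toSemi := D
        gg := gg
        fr := hfr
        fv := by rw [sg_smul, hc, smul_smul, hfr, hd]
        fv' := by rw [sg_smul, hc', smul_smul, hcc', e1 hd0 hd]
        fu := by rw [sg_smul, he, smul_smul, hfr, hf]
        fu' := by rw [sg_smul, he', smul_smul, hee', e1 hf0 hf] }
    have h1 := cent_or_fld Y hn H' D'
    rwa [Y.smul hv0 H.pp hd0] at h1

end c01

end Cfsg.Agent.OddHalf.D7.Uni.ConstInst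

end

-- merged: Cfsg.Agent.KFacts.TwFrame.UTrans
section

/-!
# `SU_n(q)` is transitive on frames of isotropic points

`Fl q m e f`: mutually perpendicular hyperbolic pairs `e i, f i` (`i < m`) of `hermForm n F q`. `trans_points`: for two
such families some `g : SU n F q` maps the points `F e i, F f i` to `F e' i, F f' i` (all characteristics).
-/

set_option autoImplicit false

namespace Cfsg.Agent.KFacts.TwFrame.UTrans

open Cfsg Cfsg.Agent.LieClassical.HermBasic Cfsg.Agent.LieClassical.HermSiegel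

variable {F : Type*} [Field F] [Fintype F] {q n : ℕ}

/-- mutually perpendicular hyperbolic pairs `e i, f i` (`i < m`) -/
structure Fl (q m : ℕ) (e f : ℕ → Fin n → F) : Prop where
  ee : ∀ i < m, ∀ j < m, hermForm n F q (e i) (e j) = 0
  ff : ∀ i < m, ∀ j < m, hermForm n F q (f i) (f j) = 0
  ef : ∀ i < m, ∀ j < m, hermForm n F q (e i) (f j) = if i = j then 1 else 0

theorem Fl.fe (hF : Fintype.card F = q ^ 2) {m : ℕ} {e f : ℕ → Fin n → F} (h : Fl q m e f) {i j : ℕ} (hi : i < m)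
    (hj : j < m) : hermForm n F q (f i) (e j) = if i = j then 1 else 0 := by
  rw [herm_swap hF, h.ef j hj i hi]
  by_cases hij : i = j
  · rw [if_pos hij.symm, if_pos hij, one_pow]
  · rw [if_neg (Ne.symm hij), if_neg hij, zero_pow_q hF]

omit [Fintype F] in
theorem Fl.mono {m l : ℕ} {e f : ℕ → Fin n → F} (h : Fl q m e f) (hl : l ≤ m) : Fl q l e f where
  ee i hi j hj := h.ee i (by omega) j (by omega)
  ff i hi j hj := h.ff i (by omega) j (by omega)
  ef i hi j hj := h.ef i (by omega) j (by omega)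

variable (hF : Fintype.card F = q ^ 2)
include hF

theorem z_swap {u v : Fin n → F} (h : hermForm n F q u v = 0) : hermForm n F q v u = 0 := herm_eq_zero_swap hF h

theorem o_swap {u v : Fin n → F} (h : hermForm n F q u v = 1) : hermForm n F q v u = 1 := by
  rw [herm_swap hF, h, one_pow]

/-- Two partners of an isotropic vector `x`. -/
theorem partner {x y y' : Fin n → F} (hx : hermForm n F q x x = 0) (hy : hermForm n F q y y = 0)
    (hy' : hermForm n F q y' y' = 0) (hxy : hermForm n F q x y = 1) (hxy' : hermForm n F q x y' = 1) :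
    ∃ g : SU n F q, act g x = x ∧ act g y = y' ∧
      ∀ s, hermForm n F q x s = 0 → hermForm n F q y s = 0 → hermForm n F q y' s = 0 → act g s = s := by
  have hyx := o_swap hF hxy
  have hyx' := o_swap hF hxy'
  have hS : IsSiegel q x (y' - y) (hermForm n F q y y') := by
    refine ⟨hx, ?_, ?_⟩
    · rw [herm_sub_left, hyx, hyx', sub_self]
    · rw [herm_sub_left, herm_sub_right hF, herm_sub_right hF, hy, hy', ← herm_swap hF]
      ring
  refine ⟨siegel hF x (y' - y) _ hS, act_siegel_self hF hS, ?_, fun s h1 h2 h3 => ?_⟩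
  · rw [act_siegel, hyx, herm_sub_right hF, hy]
    simp
  · rw [act_siegel, z_swap hF h1, herm_sub_right hF, z_swap hF h2, z_swap hF h3]
    simp

/-- Two isotropic vectors which are not perpendicular. -/
theorem move1 {S : Set (Fin n → F)} {x x' : Fin n → F} (hx : hermForm n F q x x = 0) (hx' : hermForm n F q x' x' = 0)
    (hxx : hermForm n F q x x' ≠ 0) (hxS : ∀ s ∈ S, hermForm n F q x s = 0)
    (hxS' : ∀ s ∈ S, hermForm n F q x' s = 0) :
    ∃ (g : SU n F q) (c : F), c ≠ 0 ∧ act g x = c • x' ∧ ∀ s ∈ S, act g s = s := by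
  obtain ⟨l, hl0, hl⟩ := exists_trace_zero_ne hF
  -- `x''` with `(x, x'') = 1`
  obtain ⟨c, hc⟩ : ∃ c, c = hermForm n F q x x' := ⟨_, rfl⟩
  rw [← hc] at hxx
  obtain ⟨d, hd⟩ : ∃ d : F, d = (c ^ q)⁻¹ := ⟨_, rfl⟩
  have hcq : c ^ q ≠ 0 := fun h => hxx ((pow_q_eq_zero hF).1 h)
  have hd0 : d ≠ 0 := by rw [hd]; exact inv_ne_zero hcq
  have hdq : d ^ q = c⁻¹ := by rw [hd, inv_pow, pow_q_pow_q hF]
  obtain ⟨x2, hx2⟩ : ∃ x2, x2 = d • x' := ⟨_, rfl⟩
  have h1 : hermForm n F q x x2 = 1 := by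
    rw [hx2, herm_smul_right, ← hc, hdq, inv_mul_cancel₀ hxx]
  have h2 : hermForm n F q x2 x2 = 0 := by rw [hx2, herm_smul_right, herm_smul_left, hx', mul_zero, mul_zero]
  have h1' := o_swap hF h1
  -- the third point
  obtain ⟨z, hz⟩ : ∃ z, z = x + l • x2 := ⟨_, rfl⟩
  have hzz : hermForm n F q z z = 0 := by
    rw [hz, herm_add_left, herm_add_right hF, herm_add_right hF, herm_smul_left, herm_smul_left, herm_smul_right,
      herm_smul_right, hx, h1, h1', h2]
    linear_combination hl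
  have hzx : hermForm n F q z x = l := by
    rw [hz, herm_add_left, herm_smul_left, hx, h1', mul_one, zero_add]
  have hzx2 : hermForm n F q z x2 = 1 := by
    rw [hz, herm_add_left, herm_smul_left, h1, h2, mul_zero, add_zero]
  -- scale `x`
  obtain ⟨a, ha⟩ : ∃ a : F, a = (l ^ q)⁻¹ := ⟨_, rfl⟩
  have hlq : l ^ q ≠ 0 := fun h => hl0 ((pow_q_eq_zero hF).1 h)
  have ha0 : a ≠ 0 := by rw [ha]; exact inv_ne_zero hlq
  have haq : a ^ q = l⁻¹ := by rw [ha, inv_pow, pow_q_pow_q hF]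
  have hzax : hermForm n F q z (a • x) = 1 := by
    rw [herm_smul_right, hzx, haq, inv_mul_cancel₀ hl0]
  obtain ⟨g, -, hg, hgS⟩ := partner hF hzz (y := a • x) (y' := x2)
    (by rw [herm_smul_right, herm_smul_left, hx, mul_zero, mul_zero]) h2 hzax hzx2
  refine ⟨g, a⁻¹ * d, mul_ne_zero (inv_ne_zero ha0) hd0, ?_, fun s hs => hgS s ?_ ?_ ?_⟩
  · have h3 : a • act g x = x2 := by rw [← act_smul, hg]
    rw [mul_smul, ← hx2, ← h3, smul_smul, inv_mul_cancel₀ ha0, one_smul]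
  · rw [hz, herm_add_left, herm_smul_left, hxS s hs, hx2, herm_smul_left, hxS' s hs]
    ring
  · rw [herm_smul_left, hxS s hs, mul_zero]
  · rw [hx2, herm_smul_left, hxS' s hs, mul_zero]

/-- Hyperbolic pairs perpendicular to `S`. -/
theorem move2 {S : Set (Fin n → F)} {x y x' y' : Fin n → F} (hx : hermForm n F q x x = 0)
    (hy : hermForm n F q y y = 0) (hxy : hermForm n F q x y = 1) (hx' : hermForm n F q x' x' = 0)
    (hy' : hermForm n F q y' y' = 0) (hxy' : hermForm n F q x' y' = 1) (hxS : ∀ s ∈ S, hermForm n F q x s = 0)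
    (hyS : ∀ s ∈ S, hermForm n F q y s = 0) (hxS' : ∀ s ∈ S, hermForm n F q x' s = 0)
    (hyS' : ∀ s ∈ S, hermForm n F q y' s = 0) :
    ∃ (g : SU n F q) (c d : F), c ≠ 0 ∧ d ≠ 0 ∧ act g x = c • x' ∧ act g y = d • y' ∧ ∀ s ∈ S, act g s = s := by
  obtain ⟨g1, c, hc, hg1, hg1S⟩ : ∃ (g : SU n F q) (c : F), c ≠ 0 ∧ act g x = c • x' ∧ ∀ s ∈ S, act g s = s := by
    by_cases hxx : hermForm n F q x x' ≠ 0
    · exact move1 hF hx hx' hxx hxS hxS'
    · rw [ne_eq, not_not] at hxx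
      obtain ⟨z, hz, hz1, hz2, hzS⟩ : ∃ z, hermForm n F q z z = 0 ∧ hermForm n F q x z ≠ 0 ∧
          hermForm n F q z x' ≠ 0 ∧ ∀ s ∈ S, hermForm n F q z s = 0 := by
        by_cases h1 : hermForm n F q y x' ≠ 0
        · exact ⟨y, hy, by rw [hxy]; exact one_ne_zero, h1, hyS⟩
        rw [ne_eq, not_not] at h1
        by_cases h2 : hermForm n F q x y' ≠ 0
        · exact ⟨y', hy', h2, by rw [o_swap hF hxy']; exact one_ne_zero, hyS'⟩
        rw [ne_eq, not_not] at h2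
        have h3 := z_swap hF h2
        have h4 := o_swap hF hxy
        refine ⟨y + y' + (-hermForm n F q y y') • x, ?_, ?_, ?_, fun s hs => ?_⟩
        · simp only [herm_add_left, herm_add_right hF, herm_smul_left, herm_smul_right, hx, hy, hy', hxy, h2, h3, h4,
            neg_pow_q hF]
          rw [herm_swap hF y y']
          ring
        · rw [herm_add_right hF, herm_add_right hF, herm_smul_right, hxy, h2, hx]
          simp
        · rw [herm_add_left, herm_add_left, herm_smul_left, h1, o_swap hF hxy', hxx]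
          simp
        · rw [herm_add_left, herm_add_left, herm_smul_left, hyS s hs, hyS' s hs, hxS s hs]
          ring
      obtain ⟨g, c, hc, hg, hgS⟩ := move1 hF hx hz hz1 hxS hzS
      obtain ⟨g', c', hc', hg', hgS'⟩ := move1 hF hz hx' hz2 hzS hxS'
      refine ⟨g' * g, c * c', mul_ne_zero hc hc', ?_, fun s hs => ?_⟩
      · rw [act_mul, hg, act_smul, hg', smul_smul]
      · rw [act_mul, hgS s hs, hgS' s hs]
  -- the second vector
  have hcq : c ^ q ≠ 0 := fun h => hc ((pow_q_eq_zero hF).1 h)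
  obtain ⟨y1, hy1⟩ : ∃ y1, y1 = (c ^ q) • act g1 y := ⟨_, rfl⟩
  have h1 : hermForm n F q y1 y1 = 0 := by
    rw [hy1, herm_smul_right, herm_smul_left, herm_act, hy, mul_zero, mul_zero]
  have h2 : hermForm n F q x' y1 = 1 := by
    have h3 : x' = c⁻¹ • act g1 x := by rw [hg1, smul_smul, inv_mul_cancel₀ hc, one_smul]
    rw [hy1, herm_smul_right, h3, herm_smul_left, herm_act, hxy, pow_q_pow_q hF, mul_one, mul_inv_cancel₀ hc]
  obtain ⟨g2, hg2, hg2', hg2S⟩ := partner hF hx' h1 hy' h2 hxy'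
  refine ⟨g2 * g1, c, (c ^ q)⁻¹, hc, inv_ne_zero hcq, ?_, ?_, fun s hs => ?_⟩
  · rw [act_mul, hg1, act_smul, hg2]
  · have h3 : act g2 y1 = y' := hg2'
    rw [hy1, act_smul] at h3
    rw [act_mul, ← h3, smul_smul, inv_mul_cancel₀ hcq, one_smul]
  · rw [act_mul, hg1S s hs]
    refine hg2S s (hxS' s hs) ?_ (hyS' s hs)
    rw [hy1, herm_smul_left]
    have h3 : hermForm n F q (act g1 y) s = 0 := by
      rw [← hg1S s hs, herm_act]
      exact hyS s hs
    rw [h3, mul_zero]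

/-- **`SU_n(q)` is transitive on frames of points.** -/
theorem trans_points : ∀ (m : ℕ) {e f e' f' : ℕ → Fin n → F}, Fl q m e f → Fl q m e' f' →
    ∃ g : SU n F q, ∀ i < m, (∃ c : F, c ≠ 0 ∧ act g (e i) = c • e' i) ∧ ∃ d : F, d ≠ 0 ∧ act g (f i) = d • f' i := by
  intro m
  induction m with
  | zero =>
    intro e f e' f' _ _
    exact ⟨1, fun i hi => by omega⟩
  | succ m ih =>
    intro e f e' f' h h'
    obtain ⟨g0, hg0⟩ := ih (h.mono (Nat.le_succ m)) (h'.mono (Nat.le_succ m))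
    have hm : m < m + 1 := Nat.lt_succ_self m
    set S : Set (Fin n → F) := {s | ∃ k < m, s = e' k ∨ s = f' k} with hS
    have hp : ∀ {a : Fin n → F}, (∀ k < m, hermForm n F q (e k) a = 0 ∧ hermForm n F q (f k) a = 0) →
        ∀ s ∈ S, hermForm n F q (act g0 a) s = 0 := by
      rintro a ha s ⟨k, hk, rfl | rfl⟩
      · obtain ⟨c, hc, hck⟩ := (hg0 k hk).1
        have h1 : e' k = c⁻¹ • act g0 (e k) := by rw [hck, smul_smul, inv_mul_cancel₀ hc, one_smul]
        rw [h1, herm_smul_right, herm_act, z_swap hF (ha k hk).1, mul_zero]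
      · obtain ⟨c, hc, hck⟩ := (hg0 k hk).2
        have h1 : f' k = c⁻¹ • act g0 (f k) := by rw [hck, smul_smul, inv_mul_cancel₀ hc, one_smul]
        rw [h1, herm_smul_right, herm_act, z_swap hF (ha k hk).2, mul_zero]
    have hp' : ∀ {a : Fin n → F}, (∀ k < m, hermForm n F q (e' k) a = 0 ∧ hermForm n F q (f' k) a = 0) →
        ∀ s ∈ S, hermForm n F q a s = 0 := by
      rintro a ha s ⟨k, hk, rfl | rfl⟩
      · exact z_swap hF (ha k hk).1
      · exact z_swap hF (ha k hk).2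
    have hne : ∀ k < m, k ≠ m := fun k hk => by omega
    obtain ⟨g1, c, d, hc, hd, h1, h2, h3⟩ := move2 hF (S := S) (x := act g0 (e m)) (y := act g0 (f m))
      (x' := e' m) (y' := f' m)
      (by rw [herm_act]; exact h.ee m hm m hm) (by rw [herm_act]; exact h.ff m hm m hm)
      (by rw [herm_act, h.ef m hm m hm, if_pos rfl]) (h'.ee m hm m hm) (h'.ff m hm m hm)
      (by rw [h'.ef m hm m hm, if_pos rfl])
      (hp fun k hk => ⟨h.ee k (by omega) m hm, by rw [h.fe hF (by omega) hm, if_neg (hne k hk)]⟩)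
      (hp fun k hk => ⟨by rw [h.ef k (by omega) m hm, if_neg (hne k hk)], h.ff k (by omega) m hm⟩)
      (hp' fun k hk => ⟨h'.ee k (by omega) m hm, by rw [h'.fe hF (by omega) hm, if_neg (hne k hk)]⟩)
      (hp' fun k hk => ⟨by rw [h'.ef k (by omega) m hm, if_neg (hne k hk)], h'.ff k (by omega) m hm⟩)
    refine ⟨g1 * g0, fun i hi => ?_⟩
    rw [act_mul, act_mul]
    rcases Nat.lt_succ_iff_lt_or_eq.1 hi with h4 | rfl
    · obtain ⟨⟨a, ha, ha'⟩, b, hb, hb'⟩ := hg0 i h4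
      refine ⟨⟨a, ha, ?_⟩, b, hb, ?_⟩
      · rw [ha', act_smul, h3 _ ⟨i, h4, Or.inl rfl⟩]
      · rw [hb', act_smul, h3 _ ⟨i, h4, Or.inr rfl⟩]
    · exact ⟨⟨c, hc, h1⟩, d, hd, h2⟩

end Cfsg.Agent.KFacts.TwFrame.UTrans

end

-- merged: Cfsg.Agent.KFacts.TwFrame.UFrame
section

/-!
# `FrameFact` for `PSU n F q`, `q` even

`frm hF h`: the transvection groups of the isotropic points of a frame `h : Flag.Fr q m e f`. `frameFact`:
`FrameFact (frm hF h) U` with `U` the image of the Sylow 2-subgroup `pr (QS q e f) m`. `map_QS`: an automorphism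
which fixes the members of the frame fixes the images of the `QS q e f j`.
-/

set_option autoImplicit false

namespace Cfsg.Agent.KFacts.TwFrame.UFrame

open Cfsg Cfsg.Agent.LieClassical.HermBasic Cfsg.Agent.LieClassical.HermSiegel
  Cfsg.Agent.LieClassical.HermGen Cfsg.Agent.LieClassical.SUBasic Matrix
  Cfsg.Agent.ClassicalGeometry.PSUAutBasic Cfsg.Agent.ClassicalGeometry.PSUAutSylow
  Cfsg.Agent.ClassicalGeometry.PSUAutUnip Cfsg.Agent.KFacts.Unit Cfsg.Agent.KFacts.Unit.Flag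
  Cfsg.Agent.OddHalf.D7.Uni Cfsg.Agent.OddHalf.D7Out

open Cfsg.Agent.ClassicalGeometry.PSUAutCount (gm semiConj toAut act_semiConj)
open Cfsg.Agent.ClassicalGeometry.PSUAutMain (toAut_pr' toAut_RR exists_toAut)

variable {F : Type*} [Field F] [Fintype F] {q n m : ℕ} {e f : ℕ → Fin n → F}

/-- The transvection groups of the frame. -/
def frm (hF : Fintype.card F = q ^ 2) (h : Fr q m e f) : Fin m × Bool → Subgroup (PSU n F q) :=
  fun i => if i.2 then RR hF (e i.1) (h.ee i.1 i.1.2 i.1 i.1.2) else RR hF (f i.1) (h.ff i.1 i.1.2 i.1 i.1.2)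

theorem frm_e (hF : Fintype.card F = q ^ 2) (h : Fr q m e f) {i : ℕ} (hi : i < m) :
    frm hF h (⟨i, hi⟩, true) = RR hF (e i) (h.ee i hi i hi) := rfl

theorem frm_f (hF : Fintype.card F = q ^ 2) (h : Fr q m e f) {i : ℕ} (hi : i < m) :
    frm hF h (⟨i, hi⟩, false) = RR hF (f i) (h.ff i hi i hi) := rfl

theorem fne (h : Fr q m e f) {j : ℕ} (hj : j < m) : f j ≠ 0 := by
  intro h0
  have h1 := h.fe j hj j hj
  rw [h0, herm_zero_left, if_pos rfl] at h1
  exact zero_ne_one h1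

theorem forall_frm {hF : Fintype.card F = q ^ 2} {h : Fr q m e f} {P : Fin m × Bool → Prop} :
    (∀ i, P i) ↔ ∀ (i : ℕ) (hi : i < m), P (⟨i, hi⟩, true) ∧ P (⟨i, hi⟩, false) := by
  constructor
  · intro h i hi
    exact ⟨h _, h _⟩
  · rintro h ⟨⟨i, hi⟩, b⟩
    cases b
    · exact (h i hi).2
    · exact (h i hi).1

/-- An automorphism mapping the group of `u` into itself. -/
theorem scal_of_fix (hF : Fintype.card F = q ^ 2) (hn : 3 ≤ n) (A : GU n F q) (ρ : F ≃+* F) {u : Fin n → F}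
    (hu0 : u ≠ 0) (hu : hermForm n F q u u = 0) (hα : ∀ x ∈ RR hF u hu, toAut A ρ x ∈ RR hF u hu) :
    ∃ c : F, c ≠ 0 ∧ sg A ρ u = c • u := by
  have hsu : hermForm n F q (sg A ρ u) (sg A ρ u) = 0 := by rw [herm_sg, hu, map_zero]
  have h1 : (RR hF u hu).map (toAut A ρ : MulAut (PSU n F q)).toMonoidHom = RR hF (sg A ρ u) hsu := by
    ext x
    constructor
    · rintro ⟨y, hy, rfl⟩
      exact (toAut_RR hF A ρ hu hsu rfl y).1 hy
    · intro hx
      refine ⟨(toAut A ρ).symm x, (toAut_RR hF A ρ hu hsu rfl _).2 ?_, ?_⟩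
      · rw [MulEquiv.apply_symm_apply]; exact hx
      · exact MulEquiv.apply_symm_apply _ _
  have h2 : (RR hF u hu).map (toAut A ρ : MulAut (PSU n F q)).toMonoidHom ≤ RR hF u hu := by
    rintro _ ⟨y, hy, rfl⟩
    exact hα y hy
  have h3 : (RR hF u hu).map (toAut A ρ : MulAut (PSU n F q)).toMonoidHom = RR hF u hu :=
    Subgroup.eq_of_le_of_card_ge h2 (by
      rw [Subgroup.card_map_of_injective (MulEquiv.injective _)])
  exact (RR_eq_iff hF hn hu0 (fun h0 => hu0 (sg_eq_zero A ρ h0)) hu hsu).1 (h3.symm.trans h1)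

/-- The semi-isometry of an automorphism fixing the members of the frame. -/
theorem scal_frm (hF : Fintype.card F = q ^ 2) (hn : 3 ≤ n) (h : Fr q m e f) (A : GU n F q) (ρ : F ≃+* F)
    (hα : ∀ i, ∀ x ∈ frm hF h i, toAut A ρ x ∈ frm hF h i) {i : ℕ} (hi : i < m) :
    (∃ c : F, c ≠ 0 ∧ sg A ρ (e i) = c • e i) ∧ ∃ c : F, c ≠ 0 ∧ sg A ρ (f i) = c • f i :=
  ⟨scal_of_fix hF hn A ρ (h.ne_zero hi) _ (hα (⟨i, hi⟩, true)),
    scal_of_fix hF hn A ρ (fne h hi) _ (hα (⟨i, hi⟩, false))⟩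

omit [Fintype F] in
theorem act_semi_fix {A : GU n F q} {ρ : F ≃+* F} {g : SU n F q} {u : Fin n → F} {c : F} (hc : c ≠ 0)
    (hu : sg A ρ u = c • u) (hg : act g u = u) : act (semiConj A ρ g) u = u := by
  have h1 : act (semiConj A ρ g) (sg A ρ u) = sg A ρ (act g u) := act_semiConj A ρ g u
  rw [hg, hu, act_smul] at h1
  have h2 := congrArg (fun v => c⁻¹ • v) h1
  simpa only [smul_smul, inv_mul_cancel₀ hc, one_smul] using h2

/-- The groups `QS j` are invariant. -/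
theorem semi_QS (h : Fr q m e f) {A : GU n F q} {ρ : F ≃+* F}
    (hs : ∀ i < m, (∃ c : F, c ≠ 0 ∧ sg A ρ (e i) = c • e i) ∧ ∃ c : F, c ≠ 0 ∧ sg A ρ (f i) = c • f i)
    {j : ℕ} (hj : j < m) {g : SU n F q} (hg : g ∈ QS q e f j) : semiConj A ρ g ∈ QS q e f j := by
  rw [QS, Subgroup.mem_inf, mem_QA, mem_fixF] at hg ⊢
  obtain ⟨⟨hg1, hg2⟩, hg3⟩ := hg
  obtain ⟨c, hc, hce⟩ := (hs j hj).1
  refine ⟨⟨act_semi_fix hc hce hg1, fun w hw => ?_⟩, fun i hi => ?_⟩
  · obtain ⟨y, rfl⟩ := exists_sg A ρ w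
    have h0 : hermForm n F q y (e j) = 0 := by
      have h1 := herm_sg A ρ y (e j)
      rw [hce, herm_smul_right, hw, mul_zero] at h1
      exact (map_eq_zero ρ).1 h1.symm
    obtain ⟨d, hd⟩ := hg2 y h0
    have h1 : act (semiConj A ρ g) (sg A ρ y) = sg A ρ (act g y) := act_semiConj A ρ g y
    have h2 : act g y = y + d • e j := by rw [← hd]; abel
    refine ⟨ρ d * c, ?_⟩
    rw [h1, h2, sg_add, sg_smul, hce, smul_smul]
    abel
  · obtain ⟨⟨a, ha, hae⟩, b, hb, hbf⟩ := hs i (by omega)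
    exact ⟨act_semi_fix ha hae (hg3 i hi).1, act_semi_fix hb hbf (hg3 i hi).2⟩

/-- **Invariance of the images of `QS j`** under the stabiliser of the frame in the automorphism group. -/
theorem map_QS (hF : Fintype.card F = q ^ 2) (hn : 3 ≤ n) (h32 : ¬ (n = 3 ∧ q = 2)) (h : Fr q m e f)
    {α : MulAut (PSU n F q)} (hα : ∀ i, ∀ x ∈ frm hF h i, α x ∈ frm hF h i) {j : ℕ} (hj : j < m) :
    ∀ x ∈ (QS q e f j).map (pr n F q), α x ∈ (QS q e f j).map (pr n F q) := by
  obtain ⟨A, ρ, rfl⟩ := exists_toAut hF hn h32 α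
  rintro _ ⟨g, hg, rfl⟩
  rw [toAut_pr']
  exact ⟨_, semi_QS h (fun i hi => scal_frm hF hn h A ρ hα hi) hj hg, rfl⟩

/-- Invariance of the Sylow 2-subgroup. -/
theorem map_pr (hF : Fintype.card F = q ^ 2) (hn : 3 ≤ n) (h32 : ¬ (n = 3 ∧ q = 2)) (h : Fr q m e f)
    {α : MulAut (PSU n F q)} (hα : ∀ i, ∀ x ∈ frm hF h i, α x ∈ frm hF h i) {j : ℕ} (hj : j ≤ m) :
    ∀ x ∈ (Chain.pr (QS q e f) j).map (pr n F q), α x ∈ (Chain.pr (QS q e f) j).map (pr n F q) := by
  have h1 : (Chain.pr (QS q e f) j).map (pr n F q) ≤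
      ((Chain.pr (QS q e f) j).map (pr n F q)).comap α.toMonoidHom := by
    rw [Subgroup.map_le_iff_le_comap]
    refine Chain.pr_le fun i hi => ?_
    intro g hg
    have h2 := map_QS hF hn h32 h hα (j := i) (by omega) _ ⟨g, hg, rfl⟩
    exact Subgroup.map_mono (Chain.le_pr (QS q e f) hi) h2
  exact fun x hx => h1 hx

/-- An element of `SU` fixing a point normalises its group. -/
theorem conj_RR (hF : Fintype.card F = q ^ 2) {u : Fin n → F} (hu : hermForm n F q u u = 0) {g : SU n F q} {c : F}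
    (hc : c ≠ 0) (hg : act g u = c • u) {x : PSU n F q} (hx : x ∈ RR hF u hu) :
    pr n F q g * x * (pr n F q g)⁻¹ ∈ RR hF u hu := by
  have h1 : hermForm n F q (act g u) (act g u) = 0 := by rw [herm_act]; exact hu
  have h2 : hermForm n F q (c • u) (c • u) = 0 := by rw [← hg]; exact h1
  rw [← RR_le hF hu hc h2, ← RR_congr hF h1 h2 hg, RR_conj hF hu]
  have h3 : (pr n F q g)⁻¹ * (pr n F q g * x * (pr n F q g)⁻¹) * pr n F q g = x := by group
  rw [h3]
  exact hx

/-- **`FrameFact` for the unitary groups.** -/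
theorem frameFact [CharP F 2] (hF : Fintype.card F = q ^ 2) (hn : 3 ≤ n) (h32 : ¬ (n = 3 ∧ q = 2))
    (h : Fr q m e f) :
    TwFrame.FrameFact (frm hF h) ((Chain.pr (QS q e f) m).map (pr n F q)) := by
  have hodd : Odd ((Chain.pr (QS q e f) m).map (pr n F q)).index := by
    obtain ⟨k, hk⟩ := Subgroup.index_map_dvd (Chain.pr (QS q e f) m) (f := pr n F q) pr_surjective
    have h1 := odd_index hF h
    rw [hk, Nat.odd_mul] at h1
    exact h1.1
  have hpU : IsPGroup 2 ↥((Chain.pr (QS q e f) m).map (pr n F q)) := (isPGroup_pr hF h le_rfl).map _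
  have hfix : ∀ α : MulAut (PSU n F q), (∀ i, ∀ x ∈ frm hF h i, α x ∈ frm hF h i) →
      ∀ u ∈ (Chain.pr (QS q e f) m).map (pr n F q), α u ∈ (Chain.pr (QS q e f) m).map (pr n F q) :=
    fun α hα => map_pr hF hn h32 h hα le_rfl
  refine ⟨hpU, fun P hP hle => Syl.le_of_odd hodd hP hle, ?_, ?_, hfix⟩
  · -- transitivity
    intro α
    obtain ⟨A, ρ, rfl⟩ := exists_toAut hF hn h32 α
    have hfl : UTrans.Fl q m e f := ⟨h.ee, h.ff, h.ef⟩
    have hfl' : UTrans.Fl q m (fun i => sg A ρ (e i)) (fun i => sg A ρ (f i)) := by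
      refine ⟨fun i hi j hj => ?_, fun i hi j hj => ?_, fun i hi j hj => ?_⟩
      · show hermForm n F q (sg A ρ (e i)) (sg A ρ (e j)) = 0
        rw [herm_sg, h.ee i hi j hj, map_zero]
      · show hermForm n F q (sg A ρ (f i)) (sg A ρ (f j)) = 0
        rw [herm_sg, h.ff i hi j hj, map_zero]
      · show hermForm n F q (sg A ρ (e i)) (sg A ρ (f j)) = _
        rw [herm_sg, h.ef i hi j hj]
        split_ifs
        · exact map_one ρ
        · exact map_zero ρ
    obtain ⟨g, hg⟩ := UTrans.trans_points hF m hfl hfl'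
    have key : ∀ {u : Fin n → F} (hu : hermForm n F q u u = 0) {c : F}, c ≠ 0 → act g u = c • sg A ρ u →
        ∀ x ∈ RR hF u hu, (pr n F q g)⁻¹ * toAut A ρ x * pr n F q g ∈ RR hF u hu := by
      intro u hu c hc hgu x hx
      have hsu : hermForm n F q (sg A ρ u) (sg A ρ u) = 0 := by rw [herm_sg, hu, map_zero]
      have h1 : hermForm n F q (act g u) (act g u) = 0 := by rw [herm_act]; exact hu
      have h2 : hermForm n F q (c • sg A ρ u) (c • sg A ρ u) = 0 := by rw [← hgu]; exact h1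
      rw [← RR_conj hF hu g h1, RR_congr hF h1 h2 hgu, RR_le hF hsu hc h2]
      exact (toAut_RR hF A ρ hu hsu rfl x).1 hx
    refine ⟨pr n F q g, ?_⟩
    rintro ⟨⟨i, hi⟩, b⟩ x hx
    obtain ⟨⟨c, hc, hge⟩, d, hd, hgf⟩ := hg i hi
    cases b
    · exact key (h.ff i hi i hi) hd hgf x hx
    · exact key (h.ee i hi i hi) hc hge x hx
  · -- odd order
    intro x hx hxx
    have h1 : ∀ i, ∀ y ∈ frm hF h i, MulAut.conj x y ∈ frm hF h i := fun i y hy => by
      rw [MulAut.conj_apply]; exact hx i y hy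
    have h2 : x ∈ (Chain.pr (QS q e f) m).map (pr n F q) := by
      have h3 := Syl.mem_of_norm (j := MonoidHom.id (PSU n F q)) (fun _ _ h => h) hodd hpU (x := x)
        ⟨x, rfl⟩ hxx (by
          rw [Subgroup.map_id]
          intro u hu
          have := hfix _ h1 u hu
          rwa [MulAut.conj_apply] at this)
      rwa [Subgroup.map_id] at h3
    obtain ⟨g, hg, rfl⟩ := h2
    obtain ⟨k, hk⟩ : ∃ k : ℕ, g ^ 2 ^ k = 1 := by
      obtain ⟨k, hk⟩ := isPGroup_pr hF h le_rfl ⟨g, hg⟩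
      exact ⟨k, congrArg Subtype.val hk⟩
    have key : ∀ {u : Fin n → F} (hu0 : u ≠ 0) (hu : hermForm n F q u u = 0),
        (∀ y ∈ RR hF u hu, pr n F q g * y * (pr n F q g)⁻¹ ∈ RR hF u hu) → act g u = u := by
      intro u hu0 hu hy
      have hgu : hermForm n F q (act g u) (act g u) = 0 := by rw [herm_act]; exact hu
      have h4 : RR hF u hu = RR hF (act g u) hgu := by
        have h5 : (RR hF u hu).map (MulAut.conj (pr n F q g)).toMonoidHom = RR hF (act g u) hgu := by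
          ext z
          rw [RR_conj hF hu]
          constructor
          · rintro ⟨y, hy, rfl⟩
            have h6 : (pr n F q g)⁻¹ * (MulAut.conj (pr n F q g)).toMonoidHom y * pr n F q g = y := by
              show (pr n F q g)⁻¹ * (pr n F q g * y * (pr n F q g)⁻¹) * pr n F q g = y
              group
            rw [h6]
            exact hy
          · intro hz
            refine ⟨_, hz, ?_⟩
            show pr n F q g * ((pr n F q g)⁻¹ * z * pr n F q g) * (pr n F q g)⁻¹ = z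
            group
        rw [← h5]
        refine (Subgroup.eq_of_le_of_card_ge ?_ ?_).symm
        · rintro _ ⟨y, hy', rfl⟩
          exact hy y hy'
        · rw [Subgroup.card_map_of_injective (MulEquiv.injective _)]
      obtain ⟨c, hc, hcu⟩ := (RR_eq_iff hF hn hu0 (fun h0 => hu0 (by
        rw [← act_inv_act g u, h0, act_zero])) hu hgu).1 h4
      have h5 : ∀ l : ℕ, act (g ^ l) u = c ^ l • u := by
        intro l
        induction l with
        | zero => rw [pow_zero, pow_zero, act_one, one_smul]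
        | succ l ih => rw [pow_succ, act_mul, hcu, act_smul, ih, smul_smul, pow_succ']
      have h6 := h5 (2 ^ k)
      rw [hk, act_one] at h6
      have h7 : c ^ 2 ^ k = 1 := by
        have h8 : (c ^ 2 ^ k - 1) • u = 0 := by rw [sub_smul, ← h6, one_smul, sub_self]
        rcases smul_eq_zero.1 h8 with h9 | h9
        · exact sub_eq_zero.1 h9
        · exact absurd h9 hu0
      have h8 : c = 1 := by
        have h9 : (c - 1) ^ 2 ^ k = 0 := by
          rw [sub_pow_char_pow, h7, one_pow, sub_self]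
        exact sub_eq_zero.1 (pow_eq_zero_iff (by positivity) |>.1 h9)
      rw [hcu, h8, one_smul]
    have h3 : g = 1 := h.top g ⟨k, hk⟩ fun i hi =>
      ⟨key (h.ne_zero hi) (h.ee i hi i hi) (hx (⟨i, hi⟩, true)),
        key (fne h hi) (h.ff i hi i hi) (hx (⟨i, hi⟩, false))⟩
    rw [h3, map_one]

end Cfsg.Agent.KFacts.TwFrame.UFrame

end

-- merged: Cfsg.Agent.OddHalf.D7.Uni.RowU
section

/-!
# ODD D7, `K ≅ PSU_n(2^a)`, `n ≥ 6`: the row

`false_big` : `q > 2` (growth of Sylow subgroups, clean and outer case together); `node` : the row, with the node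
D8 (M) as hypothesis for `q = 2`.
-/

set_option autoImplicit false
set_option linter.unusedSectionVars false

namespace Cfsg.Agent.OddHalf.D7.Uni.RowU

open Subgroup
open Cfsg Cfsg.Agent.LieClassical.HermBasic Cfsg.Agent.LieClassical.HermSiegel
  Cfsg.Agent.LieClassical.HermGen Cfsg.Agent.LieClassical.SUBasic
  Cfsg.Agent.ClassicalGeometry.PSUAutBasic Cfsg.Agent.ClassicalGeometry.PSUAutSylow
  Cfsg.Agent.ClassicalGeometry.PSUAutUnip Cfsg.Agent.KFacts.Unit Cfsg.Agent.KFacts.Unit.Flag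
  Cfsg.Agent.OddHalf.D7.Uni.Face Cfsg.Agent.OddHalf.D7.Uni.RowStart

universe u

variable {F : Type*} [Field F] [Fintype F] {q n : ℕ} [CharP F 2] {G : Type u} [Group G]

/-- **The row**, `q > 2`. -/
theorem false_big (C : Iface.Ctx G) {K : Subgroup G} (S : Iface.Std G K) (hcyc : Iface.Cyc K)
    (hF : Fintype.card F = q ^ 2) (hn : 6 ≤ n) (hq : q ≠ 2) (i : ↥K ≃* PSU n F q) : False := by
  have := C.fin
  have h32 : ¬ (n = 3 ∧ q = 2) := by omega
  have hcy : D7Out.TwChoice.CycOut (PSU n F q) := by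
    intro A hA
    obtain ⟨γ, hγ, h⟩ := Cfsg.Agent.KFacts.OutCyc.PSU.cyc2 hF (by omega) h32 (Ex.q_even hF) A hA
    exact ⟨γ, hγ, fun β hβ => by obtain ⟨k, x, hx⟩ := h β hβ; exact ⟨k, x, hx⟩⟩
  obtain ⟨t, St, hct, hsch, W, D⟩ := exists_dbl C S hcyc hF hn hq i hcy
  set j := emb i with hj
  -- the frame
  obtain ⟨m, hm⟩ : ∃ m, n = 2 * m ∨ n = 2 * m + 1 := by
    rcases Nat.even_or_odd' n with ⟨m, h | h⟩
    · exact ⟨m, Or.inl h⟩
    · exact ⟨m, Or.inr h⟩
  have hm3 : 3 ≤ m := by omega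
  obtain ⟨e, f, h⟩ := exists_fr hF hm
  have h0m : 0 < m := by omega
  have h1m : 1 < m := by omega
  -- `T = U P`
  have FF := (Cfsg.Agent.KFacts.TwFrame.UFrame.frameFact hF (by omega) h32 h).map i.symm
  obtain ⟨P, O⟩ := D7Out.TwFrame.exists_out St.toStart0 FF
  have hmm : ∀ A : Subgroup (PSU n F q), (A.map i.symm.toMonoidHom).map K.subtype = A.map j := by
    intro A; rw [Subgroup.map_map]; rfl
  have hU : (((Chain.pr (QS q e f) m).map (pr n F q)).map i.symm.toMonoidHom).map K.subtype =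
      (Chain.pr (QS q e f) m).map (fj n F q j) := by
    rw [hmm, Subgroup.map_map]; rfl
  rw [hU] at O
  set U := (Chain.pr (QS q e f) m).map (fj n F q j) with hUdef
  set T := U ⊔ P with hT
  have hPY : ∀ p ∈ P, ∀ (k : Fin m × Bool), ∀ x ∈ (Cfsg.Agent.KFacts.TwFrame.UFrame.frm hF h k).map j,
      p * x * p⁻¹ ∈ (Cfsg.Agent.KFacts.TwFrame.UFrame.frm hF h k).map j := by
    intro p hp k x hx
    have h1 := (D7Out.TwFrame.mem_frY.1 (O.PY hp)).2 k
    rw [hmm] at h1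
    exact h1 x hx
  have hPe : ∀ p ∈ P, ∀ i (hi : i < m), ∀ y ∈ XP hF j (e i) (h.ee i hi i hi), p * y * p⁻¹ ∈ XP hF j (e i) (h.ee i hi i hi) :=
    fun p hp i hi => hPY p hp (⟨i, hi⟩, true)
  have hPf : ∀ p ∈ P, ∀ i (hi : i < m), ∀ y ∈ XP hF j (f i) (h.ff i hi i hi),
      p * y * p⁻¹ ∈ XP hF j (f i) (h.ff i hi i hi) :=
    fun p hp i hi => hPY p hp (⟨i, hi⟩, false)
  have hPt : ∀ p ∈ P, p * t = t * p := fun p hp => O.tc p (O.PT hp)
  obtain ⟨Us, Gr⟩ := Grow.gr D hn h hm3 (T := T) (P := P) (fun x hx => (O.T_eq x).1 hx) hPt hPe hPf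
  have hKt := St.toStart0.Kt
  have htK : t ∉ K := fun h1 => St.t1 (St.cen t h1 fun y hy => hKt y hy)
  have hKn : ∀ c, c * t = t * c → ∀ x ∈ K, c * x * c⁻¹ ∈ K := fun c hc x hx =>
    (mem_normalizer_iff.1 (St.nK c hc) x).1 hx
  have hUK : U ≤ K := by
    rintro _ ⟨g, -, rfl⟩
    exact emb_mem i _
  have hz : ∀ r ∈ zpowers t, r = 1 ∨ r = t := by
    intro r hr
    exact D.ker r (St.toStart0.Qt r hr) fun x => (St.toStart0.QK r hr _ (emb_mem i x)).symm
  have hcyT : ∃ y ∈ T, ∀ x ∈ T, ∃ i : ℤ, y ^ i * x ∈ U ∨ t * (y ^ i * x) ∈ U := by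
    obtain ⟨y, hy, h1⟩ := O.cyc_T hct
    refine ⟨y, O.PT hy, fun x hx => ?_⟩
    obtain ⟨k, r, hr, w, hw, rfl⟩ := h1 x hx
    refine ⟨-k, ?_⟩
    have e1 : y ^ (-k) * (y ^ k * r * w) = r * w := by group
    rw [e1]
    rcases hz r hr with rfl | rfl
    · left; rw [one_mul]; exact hw
    · right; rw [← mul_assoc, St.tt, one_mul]; exact hw
  have hP2 : P2 q (e 0) (f 0) (e 1) (f 1) :=
    { pp := h.ee 0 h0m 0 h0m
      p'p' := h.ff 0 h0m 0 h0m
      pp' := by rw [h.ef 0 h0m 0 h0m, if_pos rfl]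
      p'p := by rw [h.fe 0 h0m 0 h0m, if_pos rfl]
      rr := h.ee 1 h1m 1 h1m
      r'r' := h.ff 1 h1m 1 h1m
      rr' := by rw [h.ef 1 h1m 1 h1m, if_pos rfl]
      r'r := by rw [h.fe 1 h1m 1 h1m, if_pos rfl]
      pr := h.ee 0 h0m 1 h1m
      rp := h.ee 1 h1m 0 h0m
      pr' := by rw [h.ef 0 h0m 1 h1m, if_neg (by omega)]
      r'p := by rw [h.fe 1 h1m 0 h0m, if_neg (by omega)]
      p'r := by rw [h.fe 0 h0m 1 h1m, if_neg (by omega)]
      rp' := by rw [h.ef 1 h1m 0 h0m, if_neg (by omega)]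
      p'r' := h.ff 0 h0m 1 h1m
      r'p' := h.ff 1 h1m 0 h0m }
  have hQU : ∀ y ∈ QQ hF (e 0) (h.ee 0 h0m 0 h0m), (i.symm y : G) ∈ U := by
    rintro _ ⟨g, hg, rfl⟩
    refine ⟨g, Chain.le_pr (QS q e f) h0m ?_, rfl⟩
    rw [QS, mem_inf, QA_eq hF (h.ee 0 h0m 0 h0m) (h.ff 0 h0m 0 h0m) (by rw [h.ef 0 h0m 0 h0m, if_pos rfl])]
    exact ⟨hg, fun i hi => absurd hi (Nat.not_lt_zero i)⟩
  have Da : D7Out.TwEnd.Dat D7Out.OddGen.OddGen t K U Us T (W (e 0)) (XP hF j (e 0) (h.ee 0 h0m 0 h0m)) :=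
    { tt := St.tt
      K_t := hKt
      hconj := D7Out.PZeroU.hconj
      hS := D7Out.PZeroU.hS (T := T) St.tt htK hKt hKn O.pT O.tc O.odd_relIndex hUK hcyT
      t_K := htK
      t_T := O.PT O.vP
      T_t := O.tc
      T2 := O.pT
      hodd := O.odd_relIndex
      U_K := hUK
      U_T := O.UT
      hU := fun x hx hxT => by
        have h1 : x ∈ T ⊓ K := ⟨hxT, hx⟩
        rwa [O.TK] at h1
      U_Us := Gr.U_Us
      Us2 := Gr.Us2
      T_Us := Gr.T_Us
      CUs := Gr.CUs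
      W_Us := Gr.W_Us
      W_cent := Gr.W_cent
      hfree := Gr.hfree
      cyc := hcyT
      c01 := by
        intro g hg hgg
        rcases O.c01 (W := W (e 0)) (fun u hu w hw => (Gr.W_cent w hw u (Gr.U_Us hu)).symm) (fun g hg hgg =>
          ConstInst.c01 (rf D hn) hn hP2 (hPt g hg) hgg (hPe g hg 0 h0m) (hPf g hg 0 h0m) (hPe g hg 1 h1m)
            (hPf g hg 1 h1m)) g hg hgg with h1 | h1
        · exact Or.inl fun w hw => (h1 w hw).symm
        · exact Or.inr fun w hw => (h1 w hw).symm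
      f3 := D7Out.PZeroU.f3_U hF hn (h.ne_zero h0m) (h.ee 0 h0m 0 h0m) i.symm St.tt hKt hKn
        (fun z hz' h1 => D.ker z hz' fun x => h1 _ (emb_mem i x)) O.tc hQU (fun y hy => ⟨y, hy, rfl⟩)
      cardW := Gr.cardW
      X_ne := Gr.X_ne }
  exact D7Out.TwEnd.false_of (Front.FE.commutator_eq_top C) Da

/-- **The row `PSU_n(2^a)`, `n ≥ 6`, of node D7.** -/
theorem node (hM : D8.MainE.NoComp.{u} (fun _ _ _ P R => CaseM.SheetM P R)) :
    Cases.Node.{u} @Cases.FamU.{u} := by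
  intro G _ C K S hcyc hK
  obtain ⟨F, instF, instT, a, n, ha, hF, hn, ⟨i⟩⟩ := hK
  have hF' : Fintype.card F = (2 ^ a) ^ 2 := by rw [hF, ← pow_mul, mul_comm, pow_mul]; norm_num
  by_cases h1 : a = 1
  · subst h1
    have h2 : Fintype.card F = 2 ^ 2 := by rw [hF]; norm_num
    exact RowTwo.row hM G C K S hcyc ⟨F, instF, instT, n, h2, hn, ⟨i⟩⟩
  · have : Fact (Nat.Prime 2) := ⟨Nat.prime_two⟩
    have : CharP F 2 := charP_of_card_eq_prime_pow (f := a * 2) (by rw [hF', ← pow_mul])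
    refine false_big C S hcyc hF' hn ?_ i
    intro h2
    apply h1
    have h3 : 2 ^ a = 2 ^ 1 := by rw [h2, pow_one]
    exact Nat.pow_right_injective le_rfl h3

end Cfsg.Agent.OddHalf.D7.Uni.RowU

end
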