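import Cfsg.Agent.OddHalf.D7.Uni.HeisSemi
import Cfsg.Agent.OddHalf.D7.Uni.HeisPoint
import Cfsg.Agent.OddHalf.D7Ex.Move
import Cfsg.Agent.OddHalf.D7.Uni.Face
import Cfsg.Agent.OddHalf.D7Ex.Norm

-- merged: Cfsg.Agent.OddHalf.D7.Uni.HeisO2
section

/-!
# The Heisenberg group of a point: `O_2(P) = Q` (helper575)

* `Form.unip` : if `T_x T_y` has 2-power order, the isotropic vectors `x`, `y` are orthogonal;
* `Form.perp_perp` : a vector orthogonal to the isotropic vectors of `s^⊥` is a multiple of `s`;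
* `Heis.O2` : a normal 2-subgroup of `P` lies in `Q`.
-/

set_option autoImplicit false

namespace Cfsg.Agent.OddHalf.D7.Uni.Ex

open Subgroup

variable {G : Type*} [Group G] {F : Type*} [Field F] {N : Type*} [AddCommGroup N] [Module F N]

/-- every isotropic vector is orthogonal to a hyperbolic pair -/
def Pairs (B : N → N → F) : Prop :=
  ∀ s, B s s = 0 → ∃ x y, B x x = 0 ∧ B y y = 0 ∧ B x y = 1 ∧ B x s = 0 ∧ B y s = 0

namespace Form

variable {σ : F →+* F} {B : N → N → F}

/-- the product of two transvections, restricted to the plane -/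
theorem unip (H : Form σ B) {x y : N} (hx : B x x = 0) (hy : B y y = 0) {T : N → N}
    (hT : ∀ v, T v = (v + B v y • y) + B (v + B v y • y) x • x) {k : ℕ} (hk : ∀ v, T^[2 ^ k] v = v) :
    B x y = 0 := by
  by_contra hne
  have hx0 : x ≠ 0 := by
    rintro rfl; exact hne (H.zero_left y)
  set β := B x y with hβ
  have hyx : B y x = σ β := H.symm x y
  set c := β * σ β with hc
  have hTadd : ∀ v w, T (v + w) = T v + T w := by
    intro v w
    rw [hT, hT, hT]
    simp only [H.add_left, add_smul]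
    abel
  have hTsmul : ∀ (a : F) v, T (a • v) = a • T v := by
    intro a v
    rw [hT, hT]
    simp only [H.add_left, H.smul_left, smul_add, smul_smul, add_smul, mul_assoc]
  have hTx : T x = (1 + c) • x + β • y := by
    rw [hT]
    simp only [← hβ, H.add_left, H.smul_left, hx, hyx, zero_add]
    rw [← hc, add_smul, one_smul]
    abel
  have hTy : T y = y + σ β • x := by
    rw [hT, hy, zero_smul, add_zero, hyx]
  -- the plane
  let M : Submodule F N := Submodule.span F {x, y}
  have hxM : x ∈ M := Submodule.subset_span (by simp)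
  have hyM : y ∈ M := Submodule.subset_span (by simp)
  have hM : ∀ v ∈ M, ∃ a b : F, v = a • x + b • y := by
    intro v hv
    obtain ⟨a, b, h⟩ := Submodule.mem_span_pair.1 hv
    exact ⟨a, b, h.symm⟩
  have hTM : ∀ v ∈ M, T v ∈ M := by
    intro v hv
    obtain ⟨a, b, rfl⟩ := hM v hv
    rw [hTadd, hTsmul, hTsmul, hTx, hTy]
    exact M.add_mem (M.smul_mem _ (M.add_mem (M.smul_mem _ hxM) (M.smul_mem _ hyM)))
      (M.smul_mem _ (M.add_mem hyM (M.smul_mem _ hxM)))
  have h2 := H.two 1
  -- Cayley-Hamilton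
  have hCH : ∀ v ∈ M, T (T v) = c • T v + v := by
    intro v hv
    obtain ⟨a, b, rfl⟩ := hM v hv
    have h1 : T (T x) = c • T x + x := by
      rw [hTx, hTadd, hTsmul, hTsmul, hTx, hTy]
      match_scalars
      · rw [hc]; linear_combination (β * σ β) * h2
      · rw [hc]; linear_combination β * h2
    have h3 : T (T y) = c • T y + y := by
      rw [hTy, hTadd, hTsmul, hTx, hTy]
      match_scalars
      · rw [hc]; ring
      · rw [hc]; linear_combination σ β * h2
    rw [hTadd, hTsmul, hTsmul, hTadd, hTsmul, hTsmul, h1, h3, smul_add, smul_add, smul_add, smul_comm c a,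
      smul_comm c b]
    abel
  have hit : ∀ (j : ℕ) (v : N), v ∈ M → T^[j] v ∈ M := by
    intro j
    induction j with
    | zero => intro v hv; exact hv
    | succ j ih => intro v hv; rw [Function.iterate_succ_apply']; exact hTM _ (ih v hv)
  have hadd : ∀ (j : ℕ) (v w : N), T^[j] (v + w) = T^[j] v + T^[j] w := by
    intro j
    induction j with
    | zero => intro v w; rfl
    | succ j ih => intro v w; rw [Function.iterate_succ_apply', ih, hTadd, Function.iterate_succ_apply',
        Function.iterate_succ_apply']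
  have hsmul : ∀ (j : ℕ) (a : F) (v : N), T^[j] (a • v) = a • T^[j] v := by
    intro j
    induction j with
    | zero => intro a v; rfl
    | succ j ih => intro a v; rw [Function.iterate_succ_apply', ih, hTsmul, Function.iterate_succ_apply']
  have key : ∀ (j : ℕ) (v : N), v ∈ M → T^[2 ^ j] (T^[2 ^ j] v) = c ^ 2 ^ j • T^[2 ^ j] v + v := by
    intro j
    induction j with
    | zero =>
      intro v hv
      rw [pow_zero, pow_one]
      exact hCH v hv
    | succ j ih =>
      intro v hv
      have e1 : ∀ w, T^[2 ^ (j + 1)] w = T^[2 ^ j] (T^[2 ^ j] w) := by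
        intro w
        rw [← Function.iterate_add_apply, pow_succ, mul_two]
      have hv1 := hit (2 ^ j) v hv
      have hv2 := hit (2 ^ j) _ hv1
      rw [e1, e1, ih _ hv2, ih _ hv1, ih _ hv, pow_succ 2 j, pow_mul]
      set w := T^[2 ^ j] v
      set d := c ^ 2 ^ j
      match_scalars
      · linear_combination d * h2
      · ring
  have h3 := key k x hxM
  rw [hk, hk] at h3
  have h4 : c ^ 2 ^ k • x = 0 := by
    have := h3.symm
    rwa [add_eq_right] at this
  rcases smul_eq_zero.1 h4 with h5 | h5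
  · have h6 : c = 0 := pow_eq_zero_iff (pow_ne_zero _ two_ne_zero) |>.1 h5
    rw [hc] at h6
    rcases mul_eq_zero.1 h6 with h7 | h7
    · exact hne h7
    · exact hne ((map_eq_zero σ).1 h7)
  · exact hx0 h5

/-- a vector orthogonal to all isotropic vectors of `s^⊥` is a multiple of `s` -/
theorem perp_perp (H : Form σ B) (hp : Pairs B) {s w : N} (hs : B s s = 0) (hs0 : s ≠ 0)
    (hw : ∀ z, B z z = 0 → B z s = 0 → B z w = 0) : ∃ k : F, w = k • s := by
  obtain ⟨x, y, hx, hy, hxy, hxs, hys⟩ := hp s hs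
  have hyx : B y x = 1 := by rw [H.symm, hxy, map_one]
  have key : ∀ z, B z s = 0 → B z w = 0 := by
    intro z hz
    set z' := z + B z y • x + B z x • y with hz'
    have hwy : B z' y = 0 := by
      rw [hz', H.add_left, H.add_left, H.smul_left, H.smul_left, hxy, hy, mul_one, mul_zero, add_zero, H.two]
    have hwx : B z' x = 0 := by
      rw [hz', H.add_left, H.add_left, H.smul_left, H.smul_left, hyx, hx, mul_one, mul_zero, add_zero, H.two]
    have hws : B z' s = 0 := by
      rw [hz', H.add_left, H.add_left, H.smul_left, H.smul_left, hz, hxs, hys]; ring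
    obtain ⟨c, hc⟩ := H.exists_tr (H.self_sigma z')
    have h1 : B (z' + x + c • y) (z' + x + c • y) = 0 := by
      simp only [H.add_left, H.add_right, H.smul_left, H.smul_right, hwy, hwx, H.swap hwy, H.swap hwx, hx, hy, hxy,
        hyx]
      linear_combination (c + σ c) * H.two 1 - hc
    have h2 : B (z' + x + c • y) s = 0 := by
      rw [H.add_left, H.add_left, H.smul_left, hws, hxs, hys]; ring
    have h3 := hw _ h1 h2
    have hxw := hw x hx hxs
    have hyw := hw y hy hys
    rw [H.add_left, H.add_left, H.smul_left, hxw, hyw, mul_zero, add_zero, add_zero, hz', H.add_left, H.add_left,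
      H.smul_left, H.smul_left, hxw, hyw] at h3
    linear_combination h3
  obtain ⟨x0, hx0⟩ := H.exists_one hs0
  refine ⟨σ (B x0 w), ?_⟩
  have h1 : w + σ (B x0 w) • s = 0 := by
    apply H.nondeg
    intro v
    have h2 := key (v + B v s • x0) (by rw [H.add_left, H.smul_left, hx0, mul_one, H.two])
    rw [H.add_left, H.smul_left] at h2
    rw [H.add_right, H.smul_right, H.σσ, mul_comm]
    exact h2
  rw [add_eq_zero_iff_eq_neg, H.neg_eq'] at h1
  exact h1

end Form

/-- an element trivial on `Q/X` lies in `Q` -/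
def Cen (X Q P : Subgroup G) : Prop := ∀ p ∈ P, (∀ q ∈ Q, p * q * p⁻¹ * q⁻¹ ∈ X) → p ∈ Q

namespace Heis

variable {σ : F →+* F} {B : N → N → F} {X Q P : Subgroup G} {S : N → F → G}

/-- an element acting trivially on `N` is trivial on `Q/X` -/
theorem mem_X_of_eq (H : Heis σ B X Q S) {x : N} {a b : F} (ha : a + σ a = B x x) (hb : b + σ b = B x x) :
    S x b * (S x a)⁻¹ ∈ X := by
  have h1 : σ (b + a) = b + a := by
    have h4 : (b + a) + σ (b + a) = 0 := by
      rw [map_add]
      calc b + a + (σ b + σ a) = (b + σ b) + (a + σ a) := by ring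
        _ = 0 := by rw [ha, hb, H.two]
    rw [add_eq_zero_iff_eq_neg, H.neg_eq] at h4
    exact h4.symm
  have h2 : S x b = S 0 (b + a) * S x a := by
    rw [H.X_mul ha h1]
    congr 1
    linear_combination - a * H.two 1
  rw [h2, mul_inv_cancel_right]
  exact H.mem_X h1

/-- **O2**: a normal 2-subgroup of `P` lies in `Q`. -/
theorem O2 (H : Heis σ B X Q S) (T : HasTr σ B P S) (L : Lin' σ B P S) (hp : Pairs B) {ι : Type*} [Fintype ι]
    {b : Module.Basis ι F N} (g : Geo B b) (hC : Cen X Q P) {R : Subgroup G} (hRP : R ≤ P)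
    (hR : ∀ p ∈ P, ∀ r ∈ R, p * r * p⁻¹ ∈ R) (h2 : IsPGroup 2 R) : R ≤ Q := by
  intro r hr
  obtain ⟨γ, hγ, hγS⟩ := L r (hRP hr)
  -- iterates of an element of `P`
  have hiter : ∀ (u : G) (T : N → N), (∀ x a, a + σ a = B x x → ∃ a', a' + σ a' = B (T x) (T x) ∧
      u * S x a * u⁻¹ = S (T x) a') → ∀ (j : ℕ) x a, a + σ a = B x x →
      ∃ a', a' + σ a' = B (T^[j] x) (T^[j] x) ∧ u ^ j * S x a * (u ^ j)⁻¹ = S (T^[j] x) a' := by
    intro u T hT j
    induction j with
    | zero => intro x a ha; exact ⟨a, ha, by rw [pow_zero]; simp⟩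
    | succ j ih =>
      intro x a ha
      obtain ⟨a1, ha1, e1⟩ := ih x a ha
      obtain ⟨a2, ha2, e2⟩ := hT _ a1 ha1
      rw [Function.iterate_succ_apply']
      refine ⟨a2, ha2, ?_⟩
      rw [← e2, ← e1, pow_succ']
      group
  have hfix : ∀ (u : G) (T : N → N) (j : ℕ), (∀ x a, a + σ a = B x x → ∃ a', a' + σ a' = B (T x) (T x) ∧
      u * S x a * u⁻¹ = S (T x) a') → u ^ j = 1 → ∀ x, T^[j] x = x := by
    intro u T j hT hj x
    obtain ⟨a, ha⟩ := H.exists_S x
    obtain ⟨a', ha', e⟩ := hiter u T hT j x a ha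
    rw [hj, one_mul, inv_one, mul_one] at e
    exact (H.eq_iff ha ha' e).1.symm
  -- `B (γ s) s = 0`
  have h3 : ∀ s, B s s = 0 → B (γ s) s = 0 := by
    intro s hs
    obtain ⟨p, hpP, hpS⟩ := T s hs
    have hu : r * (p * r⁻¹ * p⁻¹) ∈ R := R.mul_mem hr (hR p hpP _ (R.inv_mem hr))
    obtain ⟨k, hk⟩ := h2 ⟨_, hu⟩
    have hk' : (r * (p * r⁻¹ * p⁻¹)) ^ 2 ^ k = 1 := congrArg Subtype.val hk
    have hγs : B (γ s) (γ s) = 0 := by rw [hγ.iso]; exact hs
    -- the action of `r p r⁻¹ p⁻¹`
    have hpinv : ∀ x a, a + σ a = B x x → p⁻¹ * S x a * p = S (x + B x s • s) a := by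
      intro x a ha
      have h4 : a + σ a = B (x + B x s • s) (x + B x s • s) := by rw [H.isometry_tr hs]; exact ha
      have h5 := hpS _ a h4
      have h6 : x + B x s • s + B (x + B x s • s) s • s = x := by
        rw [H.add_left, H.smul_left, hs, mul_zero, add_zero, add_assoc, H.two', add_zero]
      rw [h6] at h5
      rw [← h5]; group
    obtain ⟨γ', hγ', hγS'⟩ := L r⁻¹ (P.inv_mem (hRP hr))
    have hγγ : ∀ x, γ (γ' x) = x := by
      intro x
      obtain ⟨a, ha⟩ := H.exists_S x
      obtain ⟨a1, ha1, e1⟩ := hγS' x a ha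
      obtain ⟨a2, ha2, e2⟩ := hγS _ a1 ha1
      rw [← e1] at e2
      have h4 : S x a = S (γ (γ' x)) a2 := by rw [← e2]; group
      exact (H.eq_iff ha ha2 h4).1.symm
    refine H.unip (x := γ s) (y := s) hγs hs (T := fun v => (v + B v s • s) + B (v + B v s • s) (γ s) • γ s)
      (fun v => rfl) (k := k) (hfix _ _ _ (fun x a ha => ?_) hk')
    have h4 : a + σ a = B (x + B x s • s) (x + B x s • s) := by rw [H.isometry_tr hs]; exact ha
    obtain ⟨a1, ha1, e1⟩ := hγS' _ a h4
    have h5 : a1 + σ a1 = B (γ' (x + B x s • s) + B (γ' (x + B x s • s)) s • s)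
      (γ' (x + B x s • s) + B (γ' (x + B x s • s)) s • s) := by rw [H.isometry_tr hs]; exact ha1
    obtain ⟨a2, ha2, e2⟩ := hγS _ a1 h5
    have h6 : γ (γ' (x + B x s • s) + B (γ' (x + B x s • s)) s • s) =
        (x + B x s • s) + B (x + B x s • s) (γ s) • γ s := by
      rw [hγ.add, hγ.smul, hγγ]
      congr 2
      rw [← hγ.iso, hγγ]
    rw [h6] at ha2 e2
    refine ⟨a2, ha2, ?_⟩
    rw [← e2, ← hpS _ _ ha1, ← e1, ← hpinv x a ha]
    group
  -- polarisation
  have h4 : ∀ s z, B s s = 0 → B z z = 0 → B z s = 0 → B z (γ s) = 0 := by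
    intro s z hs hz hzs
    have hsz := H.swap hzs
    have h5 : ∀ l : F, σ l * B (γ s) z + l * B (γ z) s = 0 := by
      intro l
      have h6 := h3 (s + l • z) (by
        simp only [H.add_left, H.add_right, H.smul_left, H.smul_right, hs, hz, hzs, hsz]; ring)
      rw [hγ.add, hγ.smul, H.add_left, H.add_right, H.add_right, H.smul_left, H.smul_left, H.smul_right,
        H.smul_right, h3 s hs, h3 z hz] at h6
      linear_combination h6
    obtain ⟨θ, hθ⟩ := H.nt
    have h6 := h5 1
    rw [map_one, one_mul, one_mul] at h6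
    have h7 := h5 θ
    have h8 : (σ θ + θ) * B (γ s) z = 0 := by
      linear_combination h7 + θ * h6 - (θ * B (γ z) s) * H.two 1
    have h9 : σ θ + θ ≠ 0 := by
      intro h
      apply hθ
      rw [add_eq_zero_iff_eq_neg, H.neg_eq] at h
      exact h
    exact H.swap ((mul_eq_zero.1 h8).resolve_left h9)
  -- scalars on isotropic vectors
  have h5 : ∀ s, B s s = 0 → s ≠ 0 → ∃ k : F, γ s = k • s := fun s hs hs0 =>
    H.perp_perp hp hs hs0 fun z hz hzs => h4 s z hs hz hzs
  obtain ⟨k, hk⟩ := h2 ⟨r, hr⟩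
  have hk' : r ^ 2 ^ k = 1 := congrArg Subtype.val hk
  have h6 : ∀ s, B s s = 0 → s ≠ 0 → γ s = s := by
    intro s hs hs0
    obtain ⟨c, hc⟩ := h5 s hs hs0
    have h7 : ∀ j : ℕ, γ^[j] s = c ^ j • s := by
      intro j
      induction j with
      | zero => rw [pow_zero, one_smul]; rfl
      | succ j ih => rw [Function.iterate_succ_apply', ih, hγ.smul, hc, smul_smul, pow_succ]
    have h8 := h7 (2 ^ k)
    rw [hfix r γ _ hγS hk'] at h8
    have h9 : (c ^ 2 ^ k - 1) • s = 0 := by rw [sub_smul, ← h8, one_smul, sub_self]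
    have h10 : c ^ 2 ^ k = 1 := by
      rcases smul_eq_zero.1 h9 with h | h
      · exact sub_eq_zero.1 h
      · exact absurd h hs0
    have hsq : ∀ y : F, y ^ 2 = 1 → y = 1 := by
      intro y hy
      have h1 : (y + 1) ^ 2 = 0 := by linear_combination hy + (y + 1) * H.two 1
      have h2 : y + 1 = 0 := by
        exact pow_eq_zero_iff (two_ne_zero) |>.1 h1
      rw [add_eq_zero_iff_eq_neg, H.neg_eq] at h2
      exact h2
    have h11 : ∀ m : ℕ, c ^ 2 ^ m = 1 → c = 1 := by
      intro m
      induction m with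
      | zero => intro h; rwa [pow_zero, pow_one] at h
      | succ m ih => intro h; exact ih (hsq _ (by rw [← pow_mul, ← pow_succ]; exact h))
    rw [hc, h11 k h10, one_smul]
  have h7 : ∀ x, γ x = x := by
    intro x
    have hsum : ∀ (t : Finset ι) (c : ι → F), γ (∑ i ∈ t, c i • b i) = ∑ i ∈ t, c i • b i := by
      intro t c
      classical
      induction t using Finset.induction_on with
      | empty =>
        have h0 := hγ.smul 0 0
        rw [zero_smul, zero_smul] at h0
        simpa using h0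
      | insert i t hi ih =>
        rw [Finset.sum_insert hi, hγ.add, ih, hγ.smul, h6 _ (g.iso i) (b.ne_zero i)]
    rw [← b.sum_repr x]
    exact hsum _ _
  apply hC r (hRP hr)
  intro q hq
  obtain ⟨x, a, ha, rfl⟩ := (H.memQ q).1 hq
  obtain ⟨a', ha', e⟩ := hγS x a ha
  rw [h7] at ha' e
  rw [e]
  exact H.mem_X_of_eq ha ha'

end Heis

end Cfsg.Agent.OddHalf.D7.Uni.Ex

end

-- merged: Cfsg.Agent.OddHalf.D7.Uni.HeisGeo
section

/-!
# A basis of isotropic vectors of `⟨e, f⟩^⊥`, `n ≥ 6` (helper575)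
-/

set_option autoImplicit false
set_option linter.unusedSectionVars false

namespace Cfsg.Agent.OddHalf.D7.Uni.Ex

open Subgroup

section Abs

variable {F : Type*} [Field F] {N : Type*} [AddCommGroup N] [Module F N]

/-- A hermitian space in which every isotropic vector is orthogonal to a hyperbolic pair has a good basis. -/
theorem Form.exists_geo {σ : F →+* F} {B : N → N → F} [Finite N] (H : Form σ B)
    (hp : ∀ s, B s s = 0 → ∃ x y, B x x = 0 ∧ B y y = 0 ∧ B x y = 1 ∧ B x s = 0 ∧ B y s = 0) :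
    ∃ (s : Set N) (b : Module.Basis s F N), Finite s ∧ Nonempty s ∧ Geo B b := by
  obtain ⟨x, y, hx, hy, hxy, -, -⟩ := hp 0 (H.zero_left 0)
  have hyx : B y x = 1 := by rw [H.symm, hxy, map_one]
  have hspan : (⊤ : Submodule F N) ≤ Submodule.span F {v | B v v = 0} := by
    intro z _
    set w := z + B z y • x + B z x • y with hw
    have hwy : B w y = 0 := by
      rw [hw, H.add_left, H.add_left, H.smul_left, H.smul_left, hxy, hy, mul_one, mul_zero, add_zero, H.two]
    have hwx : B w x = 0 := by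
      rw [hw, H.add_left, H.add_left, H.smul_left, H.smul_left, hyx, hx, mul_one, mul_zero, add_zero, H.two]
    obtain ⟨c, hc⟩ := H.exists_tr (H.self_sigma w)
    have h1 : B (w + x + c • y) (w + x + c • y) = 0 := by
      simp only [H.add_left, H.add_right, H.smul_left, H.smul_right, hwy, hwx, H.swap hwy, H.swap hwx, hx, hy, hxy,
        hyx]
      linear_combination (c + σ c) * H.two 1 - hc
    have h2 : z = (w + x + c • y) + x + c • y + B z y • x + B z x • y := by
      have e1 := H.two' x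
      have e2 := H.two' (c • y)
      have e3 := H.two' (B z y • x)
      have e4 := H.two' (B z x • y)
      calc z = z + (B z y • x + B z y • x) + (B z x • y + B z x • y) + (x + x) + (c • y + c • y) := by
            rw [e1, e2, e3, e4]; abel
        _ = _ := by rw [hw]; abel
    rw [h2]
    have hx' : x ∈ Submodule.span F {v | B v v = 0} := Submodule.subset_span hx
    have hy' : y ∈ Submodule.span F {v | B v v = 0} := Submodule.subset_span hy
    exact Submodule.add_mem _ (Submodule.add_mem _ (Submodule.add_mem _ (Submodule.add_mem _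
      (Submodule.subset_span h1) hx') (Submodule.smul_mem _ _ hy')) (Submodule.smul_mem _ _ hx'))
      (Submodule.smul_mem _ _ hy')
  have hx0 : x ≠ 0 := by
    rintro rfl
    rw [H.zero_left] at hxy
    exact zero_ne_one hxy
  have : Nontrivial N := ⟨⟨x, 0, hx0⟩⟩
  let b := Module.Basis.ofSpan hspan
  have hiso : ∀ i, B (b i) (b i) = 0 := fun i => Module.Basis.ofSpan_subset hspan ⟨i, rfl⟩
  refine ⟨_, b, inferInstance, b.index_nonempty, hiso, fun i j => ?_⟩
  by_cases hij : B (b i) (b j) = 0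
  · by_cases hne : i = j
    · subst hne
      obtain ⟨x, y, hx, hy, hxy, hxs, hys⟩ := hp _ (hiso i)
      have h1 : Ind F (b i) x := by
        intro a d had
        have h2 := congrArg (fun v => B v y) had
        simp only [H.add_left, H.smul_left, H.swap hys, hxy, H.zero_left, mul_zero, mul_one, zero_add] at h2
        rw [h2, zero_smul, add_zero] at had
        rcases smul_eq_zero.1 had with h3 | h3
        · exact ⟨h3, h2⟩
        · exact absurd h3 (b.ne_zero i)
      exact ⟨x, hx, H.swap hxs, H.swap hxs, h1, h1⟩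
    · have hji := H.swap hij
      refine ⟨b i + b j, ?_, ?_, ?_, ?_, ?_⟩
      · rw [H.add_left, H.add_right, H.add_right, hiso, hiso, hij, hji]; ring
      · rw [H.add_right, hiso, hij, add_zero]
      · rw [H.add_right, hiso, hji, add_zero]
      · intro a d had
        have h1 : d = 0 := by
          have := congrArg (fun v => b.repr v j) had
          simp [hne] at this
          exact this
        rw [h1, zero_smul, add_zero] at had
        rcases smul_eq_zero.1 had with h3 | h3
        · exact ⟨h3, h1⟩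
        · exact absurd h3 (b.ne_zero i)
      · intro a d had
        have h1 : d = 0 := by
          have := congrArg (fun v => b.repr v i) had
          simp [Ne.symm hne] at this
          exact this
        rw [h1, zero_smul, add_zero] at had
        rcases smul_eq_zero.1 had with h3 | h3
        · exact ⟨h3, h1⟩
        · exact absurd h3 (b.ne_zero j)
  · obtain ⟨x, y, hx, hy, hxy, hxs, hys⟩ := hp _ (hiso i)
    have hji : B (b j) (b i) ≠ 0 := fun h => hij (H.swap h)
    set k := B x (b j) * (B (b i) (b j))⁻¹ with hk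
    have h1 : B (x + k • b i) (b j) = 0 := by
      rw [H.add_left, H.smul_left, hk, mul_assoc, inv_mul_cancel₀ hij, mul_one, H.two]
    have h2 : B (x + k • b i) (b i) = 0 := by
      rw [H.add_left, H.smul_left, hxs, hiso, mul_zero, add_zero]
    have h3 : B (x + k • b i) y = 1 := by
      rw [H.add_left, H.smul_left, hxy, H.swap hys, mul_zero, add_zero]
    refine ⟨x + k • b i, ?_, H.swap h2, H.swap h1, ?_, ?_⟩
    · rw [H.add_right, H.smul_right, h2, mul_zero, add_zero, H.add_left, H.smul_left, hx, H.swap hxs]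
      ring
    · intro a d had
      have h4 := congrArg (fun v => B v (b j)) had
      simp only [H.add_left _ _ (b j), H.smul_left] at h4
      rw [show B x (b j) + k * B (b i) (b j) = 0 by rw [← H.smul_left, ← H.add_left]; exact h1, mul_zero, add_zero,
        H.zero_left] at h4
      have h5 : a = 0 := (mul_eq_zero.1 h4).resolve_right hij
      rw [h5, zero_smul, zero_add] at had
      have h6 := congrArg (fun v => B v y) had
      simp only [H.smul_left, H.zero_left] at h6
      rw [h3, mul_one] at h6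
      exact ⟨h5, h6⟩
    · intro a d had
      have h4 := congrArg (fun v => B v (b i)) had
      simp only [H.add_left _ _ (b i), H.smul_left] at h4
      rw [hxs, hiso, mul_zero, add_zero, mul_zero, add_zero, H.zero_left] at h4
      have h5 : a = 0 := (mul_eq_zero.1 h4).resolve_right hji
      rw [h5, zero_smul, zero_add] at had
      have h6 := congrArg (fun v => B v y) had
      simp only [H.smul_left, H.zero_left] at h6
      rw [h3, mul_one] at h6
      exact ⟨h5, h6⟩

end Abs

open Cfsg Cfsg.Agent.LieClassical.HermBasic Cfsg.Agent.LieClassical.HermSiegel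
  Cfsg.Agent.LieClassical.HermGen Cfsg.Agent.LieClassical.SUBasic Matrix
  Cfsg.Agent.ClassicalGeometry.PSUAutBasic Cfsg.Agent.ClassicalGeometry.PSUAutSylow
  Cfsg.Agent.ClassicalGeometry.PSUAutUnip Cfsg.Agent.KFacts.Unit

variable {F : Type*} [Field F] [Fintype F] {q n : ℕ} {e f : Fin n → F} [CharP F 2]

/-- A hyperbolic pair of `N` orthogonal to an isotropic vector. -/
theorem exists_pair_NN (hF : Fintype.card F = q ^ 2) (hn : 6 ≤ n) (H : Hyp q e f) (s : NN q e f)
    (hs : BB q e f s s = 0) :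
    ∃ x y : NN q e f, BB q e f x x = 0 ∧ BB q e f y y = 0 ∧ BB q e f x y = 1 ∧ BB q e f x s = 0 ∧ BB q e f y s = 0 := by
  obtain ⟨x, y, hxx, hyy, hxy, hxe, hye, hxs, hys⟩ := exists_pair_perp hF hn (u := e) (s := s) H.ne_zero H.ee hs s.2.1
  have hes : hermForm n F q e s = 0 := herm_eq_zero_swap hF s.2.1
  have key : ∀ x y : Fin n → F, hermForm n F q x e = 0 → hermForm n F q y e = 0 →
      hermForm n F q (prN q e f x) (prN q e f y) = hermForm n F q x y := by
    intro x y hx hy
    rw [prN, prN, hx, hy, zero_smul, sub_zero, sub_zero, herm_sub_left, herm_sub_right hF,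
      herm_sub_right hF, herm_smul_left, herm_smul_left, herm_smul_right, herm_smul_right, hx, H.ee,
      herm_eq_zero_swap hF hy]
    ring
  have hp : ∀ x : Fin n → F, hermForm n F q x s = 0 → hermForm n F q x e = 0 →
      hermForm n F q (prN q e f x) s = 0 := by
    intro x hx hxe
    rw [prN, hxe, zero_smul, sub_zero, herm_sub_left, herm_smul_left, hx, hes]
    ring
  refine ⟨⟨prN q e f x, prN_e hF H x, prN_f H x⟩, ⟨prN q e f y, prN_e hF H y, prN_f H y⟩, ?_, ?_, ?_, ?_, ?_⟩
  · exact (key x x hxe hxe).trans hxx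
  · exact (key y y hye hye).trans hyy
  · exact (key x y hxe hye).trans hxy
  · exact hp x hxs hxe
  · exact hp y hys hye

/-- **A good basis of `⟨e, f⟩^⊥`.** -/
theorem exists_geo (hF : Fintype.card F = q ^ 2) (hn : 6 ≤ n) (H : Hyp q e f) :
    ∃ (s : Set (NN q e f)) (b : Module.Basis s F (NN q e f)), Finite s ∧ Nonempty s ∧ Geo (BB q e f) b :=
  (form hF H).exists_geo (exists_pair_NN hF hn H)

end Cfsg.Agent.OddHalf.D7.Uni.Ex

end

-- merged: Cfsg.Agent.OddHalf.D7.Uni.HeisSetup
section

/-!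
# The hypotheses `D7Ex.Setup` for a point of the unitary group (helper575)
-/

set_option autoImplicit false
set_option linter.unusedSectionVars false

namespace Cfsg.Agent.OddHalf.D7.Uni.Ex

open Subgroup

section Abs

variable {G : Type*} [Group G]

theorem conj_eq_of_le [Finite G] {X : Subgroup G} {n : G} (h : ∀ x ∈ X, n * x * n⁻¹ ∈ X) :
    X.map (MulAut.conj n).toMonoidHom = X := by
  apply eq_of_le_of_card_ge
  · rintro _ ⟨x, hx, rfl⟩
    exact h x hx
  · exact (Nat.card_congr
      (X.equivMapOfInjective (MulAut.conj n).toMonoidHom (MulAut.conj n).injective).toEquiv).le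

theorem conj_inv_mem [Finite G] {X : Subgroup G} {n : G} (h : ∀ x ∈ X, n * x * n⁻¹ ∈ X) {x : G} (hx : x ∈ X) :
    n⁻¹ * x * n ∈ X := by
  rw [← conj_eq_of_le h] at hx
  obtain ⟨y, hy, rfl⟩ := hx
  have : n⁻¹ * (MulAut.conj n).toMonoidHom y * n = y := by
    show n⁻¹ * (n * y * n⁻¹) * n = y
    group
  rw [this]; exact hy

variable {F : Type*} [Field F] {N : Type*} [AddCommGroup N] [Module F N]
  {σ : F →+* F} {B : N → N → F} {X Q P : Subgroup G} {S : N → F → G}

theorem Heis.isPGroup_Q (H : Heis σ B X Q S) : IsPGroup 2 Q := by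
  rintro ⟨q, hq⟩
  refine ⟨2, Subtype.ext ?_⟩
  show q ^ 2 ^ 2 = 1
  obtain ⟨x, a, ha, rfl⟩ := (H.memQ q).1 hq
  have h1 : S x a * S x a ∈ X := by
    rw [H.mul x a x a ha ha, H.two']
    refine H.mem_X ?_
    rw [H.two, zero_add]; exact H.self_sigma x
  have h2 := H.X2 h1
  calc S x a ^ 2 ^ 2 = (S x a) ^ 4 := by norm_num
    _ = (S x a * S x a) * (S x a * S x a) := by
      rw [show (4 : ℕ) = 1 + 1 + 1 + 1 from rfl, pow_succ, pow_succ, pow_succ, pow_one]; group
    _ = 1 := h2

/-- **Setup** -/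
theorem Heis.setup [Finite G] [Finite N] [Nontrivial N] (H : Heis σ B X Q S) (T : HasTr σ B P S) (L : Lin' σ B P S)
    (hp : Pairs B) {ι : Type*} [Fintype ι] [Nonempty ι] {b : Module.Basis ι F N} (g : Geo B b) (hC : Cen X Q P)
    {t : G} {Hh : Subgroup G} (tt : t * t = 1) (tX : t ∉ X) (QP : Q ≤ P) (tP : ∀ p ∈ P, t * p = p * t)
    (XP : ∀ x ∈ X, ∀ p ∈ P, x * p = p * x) (PQ : ∀ p ∈ P, ∀ q ∈ Q, p * q * p⁻¹ ∈ Q)
    (tH : ∀ h ∈ Hh, t * h = h * t) (HX : ∀ h ∈ Hh, ∀ x ∈ X, h * x * h⁻¹ ∈ X) (hP : ⁅P, P⁆ = P)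
    (perf : ∀ L : Subgroup G, ⁅L, L⁆ = L → (∀ x ∈ L, t * x = x * t) → (∀ x ∈ L, ∀ y ∈ X, x * y = y * x) → L ≤ P) :
    D7Ex.Setup t X Q P Hh where
  tt := tt
  tX := tX
  X2 := fun x hx => H.X2 hx
  XQ := H.XQ
  QP := QP
  tP := tP
  XP := XP
  PQ := PQ
  tH := tH
  HX := HX
  nP := by
    intro n hnX hnt
    have hXi : ∀ x ∈ X, n⁻¹ * x * n ∈ X := fun x hx => conj_inv_mem hnX hx
    set P' := P.map (MulAut.conj n).toMonoidHom with hP'
    have h1 : P' ≤ P := by
      apply perf
      · rw [hP', ← map_commutator, hP]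
      · rintro _ ⟨p, hp, rfl⟩
        show t * (n * p * n⁻¹) = n * p * n⁻¹ * t
        -- `t = (t (n t n⁻¹)) (n t n⁻¹)`
        set x := t * (n * t * n⁻¹) with hx
        have hx' := hXi _ hnt
        have e1 : t = x * (n * t * n⁻¹) := by
          rw [hx]
          calc t = t * (n * (t * t) * n⁻¹) := by rw [tt]; group
            _ = _ := by group
        have e2 : x * (n * p * n⁻¹) = n * p * n⁻¹ * x := by
          have h3 := XP _ hx' p hp
          calc x * (n * p * n⁻¹) = n * ((n⁻¹ * x * n) * p) * n⁻¹ := by group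
            _ = n * p * n⁻¹ * x := by rw [h3]; group
        have e3 : (n * t * n⁻¹) * (n * p * n⁻¹) = n * p * n⁻¹ * (n * t * n⁻¹) := by
          calc (n * t * n⁻¹) * (n * p * n⁻¹) = n * (t * p) * n⁻¹ := by group
            _ = _ := by rw [tP p hp]; group
        calc t * (n * p * n⁻¹) = (x * (n * t * n⁻¹)) * (n * p * n⁻¹) := by rw [← e1]
          _ = x * ((n * t * n⁻¹) * (n * p * n⁻¹)) := by rw [mul_assoc]
          _ = (x * (n * p * n⁻¹)) * (n * t * n⁻¹) := by rw [e3]; group
          _ = n * p * n⁻¹ * (x * (n * t * n⁻¹)) := by rw [e2]; group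
          _ = n * p * n⁻¹ * t := by rw [← e1]
      · rintro _ ⟨p, hp, rfl⟩ y hy
        show n * p * n⁻¹ * y = y * (n * p * n⁻¹)
        have h3 := XP _ (hXi y hy) p hp
        calc n * p * n⁻¹ * y = n * (p * (n⁻¹ * y * n)) * n⁻¹ := by group
          _ = y * (n * p * n⁻¹) := by rw [← h3]; group
    have hnP : ∀ p ∈ P, n * p * n⁻¹ ∈ P := fun p hp => h1 ⟨p, hp, rfl⟩
    refine ⟨hnP, ?_⟩
    have h2 : Q.map (MulAut.conj n).toMonoidHom ≤ Q := by
      apply H.O2 T L hp g hC
      · rintro _ ⟨q, hq, rfl⟩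
        exact hnP q (QP hq)
      · rintro p hp _ ⟨q, hq, rfl⟩
        refine ⟨(n⁻¹ * p * n) * q * (n⁻¹ * p * n)⁻¹, PQ _ (conj_inv_mem hnP hp) q hq, ?_⟩
        show n * ((n⁻¹ * p * n) * q * (n⁻¹ * p * n)⁻¹) * n⁻¹ = p * (n * q * n⁻¹) * p⁻¹
        group
      · exact H.isPGroup_Q.map _
    exact fun q hq => h2 ⟨q, hq, rfl⟩
  XQQ := H.XQQ (exists_ne 0)
  QQ := H.QQ
  ZQ := H.ZQ
  E2 := fun f h1 h2 h3 h4 => H.E2 T g.iso h1 h2 h3 h4
  noh := by
    intro f p
    have h1 : commutator P = ⊤ := by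
      have h3 : (commutator P).map P.subtype = P := by
        rw [_root_.commutator_def, map_commutator, ← MonoidHom.range_eq_map, P.range_subtype, hP]
      have h4 : (⊤ : Subgroup P).map P.subtype = P := by
        rw [← MonoidHom.range_eq_map, P.range_subtype]
      exact map_injective P.subtype_injective (h3.trans h4.symm)
    have h2 : commutator P ≤ f.ker := by
      rw [_root_.commutator_def, commutator_le]
      intro a _ b _
      rw [MonoidHom.mem_ker, map_commutatorElement, commutatorElement_eq_one_iff_mul_comm]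
      exact Subtype.ext (XP _ (f a).2 _ (QP (H.XQ (f b).2)))
    have h3 : p ∈ f.ker := h2 (by rw [h1]; exact mem_top p)
    exact h3

end Abs

open Cfsg Cfsg.Agent.LieClassical.HermBasic Cfsg.Agent.LieClassical.HermSiegel
  Cfsg.Agent.LieClassical.HermGen Cfsg.Agent.LieClassical.SUBasic Matrix
  Cfsg.Agent.ClassicalGeometry.PSUAutBasic Cfsg.Agent.ClassicalGeometry.PSUAutSylow
  Cfsg.Agent.ClassicalGeometry.PSUAutUnip Cfsg.Agent.KFacts.Unit

variable {F : Type*} [Field F] [Fintype F] {q n : ℕ} {e f : Fin n → F} [CharP F 2] {G : Type*} [Group G]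

theorem pairs (hF : Fintype.card F = q ^ 2) (hn : 6 ≤ n) (H : Hyp q e f) : Pairs (BB q e f) :=
  exists_pair_NN hF hn H

/-- `C_P(Q/X) = Q` -/
theorem cen (hF : Fintype.card F = q ^ 2) (hn : 3 ≤ n) (H : Hyp q e f) {ρ : PSU n F q →* G}
    (hρ : Function.Injective ρ) :
    Cen ((RR hF e H.ee).map ρ) ((QQ hF e H.ee).map ρ) ((PP q e).map ρ) := by
  rintro _ ⟨y, hy, rfl⟩ hcen
  obtain ⟨g, hg, rfl⟩ := mem_PP.1 hy
  have Hs := heis hF hn H hρ
  have key : ∀ w : Fin n → F, hermForm n F q w e = 0 → ∃ c : F, act g w - w = c • e := by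
    intro w hw
    set x : NN q e f := ⟨prN q e f w, prN_e hF H w, prN_f H w⟩ with hx
    have hwx : w = (x : Fin n → F) + hermForm n F q w f • e := by
      conv_lhs => rw [eq_prN (q := q) e f w, hw, zero_smul, add_zero]
      rw [add_comm]
    obtain ⟨a, ha⟩ := Hs.exists_S x
    have h1 := hcen _ (Hs.mem_Q ha)
    obtain ⟨d, hd, e1⟩ := (Hs.memX _).1 h1
    have h2 := (isSiegel_iff H).2 ha
    -- conjugate of the Siegel element
    have h3 : ρ (pr n F q g) * SS hF e f ρ x a * (ρ (pr n F q g))⁻¹ = SS hF e f ρ x (a + d) := by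
      rw [← Hs.X_mul ha hd, ← e1]; group
    have h4 : IsSiegel q e x (a + d) := by
      refine (isSiegel_iff H).2 ?_
      have hd' : d ^ q = d := hd
      have ha' : a + a ^ q = BB q e f x x := ha
      rw [add_pow_q hF, hd', ← ha']
      linear_combination d * two_eq (F := F)
    have h5 := h2.map g
    rw [SS_eq hF ρ h2, SS_eq hF ρ h4, ← map_inv, ← map_inv, ← map_mul, ← map_mul, ← map_mul, ← map_mul,
      conj_siegel] at h3
    have h6 := siegel_pr_inj hF hn _ _ (hρ h3)
    have h7 := congrArg (fun s => act s f) h6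
    simp only [act_siegel, hg, H.fe hF, one_smul, mul_one] at h7
    rw [add_assoc, add_assoc, add_right_inj] at h7
    refine ⟨(a + d - hermForm n F q f x) - (a - hermForm n F q f (act g x)), ?_⟩
    conv_lhs => rw [hwx]
    rw [act_add, act_smul, hg, sub_smul, add_sub_add_right_eq_sub, sub_eq_sub_iff_add_eq_add, add_comm _ (x : Fin n → F)]
    exact h7
  obtain ⟨s, hs, hsact⟩ := exists_siegel_of_isometry hF H.ee H.ff H.ef (T := act g) (act_add g)
    (fun c v => act_smul g c v) (herm_act g) hg key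
  have h1 : g = s := ext_act fun v => (hsact v).symm
  rw [h1]
  exact mem_map_of_mem _ (mem_map_of_mem _ hs)

/-- A subgroup of `PSU` centralising `RR e` has its commutators in `PP e`. -/
theorem commutator_mem_PP (hF : Fintype.card F = q ^ 2) (hn : 3 ≤ n) (H : Hyp q e f) {x y : PSU n F q}
    (hx : ∀ z ∈ RR hF e H.ee, x * z = z * x) (hy : ∀ z ∈ RR hF e H.ee, y * z = z * y) :
    x * y * x⁻¹ * y⁻¹ ∈ PP q e := by
  have key : ∀ x : PSU n F q, (∀ z ∈ RR hF e H.ee, x * z = z * x) →
      ∃ (g : SU n F q) (c : F), pr n F q g = x ∧ act g e = c • e ∧ c ≠ 0 := by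
    intro x hx
    obtain ⟨g, rfl⟩ := pr_surjective x
    have h1' : (1 : F) + 1 ^ q = 0 := by rw [one_pow]; linear_combination two_eq (F := F)
    have h0 := hx _ (mem_RR.2 ⟨1, h1', rfl⟩)
    have h1 : pr n F q (g * transv hF e H.ee 1 h1' * g⁻¹) = pr n F q (transv hF e H.ee 1 h1') := by
      rw [map_mul, map_mul, map_inv, h0, mul_inv_cancel_right]
    rw [transv, conj_siegel] at h1
    have h2 := siegel_pr_inj hF hn _ _ h1
    have h3 := congrArg (fun s => act s f) h2
    simp only [act_siegel] at h3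
    rw [act_zero, smul_zero, smul_zero, herm_zero_right hF, sub_zero, sub_zero, add_zero, add_right_inj, H.fe hF,
      mul_one, one_mul, one_smul] at h3
    have hne : hermForm n F q f (act g e) ≠ 0 := by
      intro h0
      rw [h0, zero_smul] at h3
      exact H.ne_zero h3.symm
    refine ⟨g, (hermForm n F q f (act g e))⁻¹, rfl, ?_, inv_ne_zero hne⟩
    have h4 : ∀ d : F, d ≠ 0 → d • act g e = e → act g e = d⁻¹ • e := by
      intro d hd h
      calc act g e = (d⁻¹ * d) • act g e := by rw [inv_mul_cancel₀ hd, one_smul]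
        _ = d⁻¹ • (d • act g e) := by rw [smul_smul]
        _ = d⁻¹ • e := by rw [h]
    exact h4 _ hne h3
  obtain ⟨g, c, rfl, hg, hc⟩ := key x hx
  obtain ⟨h, d, rfl, hh, hd⟩ := key y hy
  refine mem_PP.2 ⟨g * h * g⁻¹ * h⁻¹, ?_, by rw [map_mul, map_mul, map_mul, map_inv, map_inv]⟩
  have hgi : act g⁻¹ e = c⁻¹ • e := by
    rw [eq_comm, ← act_eq_iff, act_smul, hg, smul_smul, inv_mul_cancel₀ hc, one_smul]
  have hhi : act h⁻¹ e = d⁻¹ • e := by
    rw [eq_comm, ← act_eq_iff, act_smul, hh, smul_smul, inv_mul_cancel₀ hd, one_smul]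
  rw [act_mul, act_mul, act_mul, hhi, act_smul, hgi, smul_smul, act_smul, hh, smul_smul, act_smul, hg, smul_smul]
  have : d⁻¹ * c⁻¹ * d * c = 1 := by field_simp
  rw [this, one_smul]

end Cfsg.Agent.OddHalf.D7.Uni.Ex

end

-- merged: Cfsg.Agent.OddHalf.D7.Uni.ExBase
section

/-!
# The double of one transvection group gives the doubles of all (helper575)

* `Base` : a double `W0` of `RR u0`, normalised by the stabiliser of the point `F u0`;
* `exists_dbl_of_base` : then there is a family `Face.Dbl`.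
-/

set_option autoImplicit false
set_option linter.unusedSectionVars false

namespace Cfsg.Agent.OddHalf.D7.Uni.Ex

open Subgroup
open Cfsg Cfsg.Agent.LieClassical.HermBasic Cfsg.Agent.LieClassical.HermSiegel
  Cfsg.Agent.LieClassical.HermGen Cfsg.Agent.LieClassical.SUBasic Matrix
  Cfsg.Agent.ClassicalGeometry.PSUAutBasic Cfsg.Agent.ClassicalGeometry.PSUAutSylow
  Cfsg.Agent.ClassicalGeometry.PSUAutUnip Cfsg.Agent.KFacts.Unit
  Cfsg.Agent.OddHalf.D7.Uni.Face

variable {F : Type*} [Field F] [Fintype F] {q n : ℕ} {G : Type*} [Group G]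

/-- A double of the transvection group of `u0`. -/
structure Base (hF : Fintype.card F = q ^ 2) (t : G) (j : PSU n F q →* G) (u0 : Fin n → F)
    (hu0 : hermForm n F q u0 u0 = 0) (W0 : Subgroup G) : Prop where
  X_le : (RR hF u0 hu0).map j ≤ W0
  cent : ∀ w ∈ W0, ∀ g : SU n F q, act g u0 = u0 → w * fj n F q j g = fj n F q j g * w
  brk : ∀ w ∈ W0, ∃ x ∈ RR hF u0 hu0, t * w * t = w * j x
  surj : ∀ x ∈ RR hF u0 hu0, ∃ w ∈ W0, t * w * t = w * j x
  fix : ∀ w ∈ W0, t * w = w * t → w ∈ (RR hF u0 hu0).map j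
  norm : ∀ g : SU n F q, ∀ c : F, c ≠ 0 → act g u0 = c • u0 → ∀ w ∈ W0, fj n F q j g * w * (fj n F q j g)⁻¹ ∈ W0
  sq : q = 2 → ∀ w ∈ W0, w * w = 1

theorem RR_conj_mem (hF : Fintype.card F = q ^ 2) {u u' : Fin n → F} (hu : hermForm n F q u u = 0)
    (hu' : hermForm n F q u' u' = 0) {g : SU n F q} {c : F} (hc : c ≠ 0) (hg : act g u = c • u') {x : PSU n F q}
    (hx : x ∈ RR hF u hu) : pr n F q g * x * (pr n F q g)⁻¹ ∈ RR hF u' hu' := by
  have hgu : hermForm n F q (act g u) (act g u) = 0 := by rw [herm_act]; exact hu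
  have h1 : pr n F q g * x * (pr n F q g)⁻¹ ∈ RR hF (act g u) hgu := by
    rw [RR_conj hF hu g hgu]
    have e : (pr n F q g)⁻¹ * (pr n F q g * x * (pr n F q g)⁻¹) * pr n F q g = x := by group
    rw [e]; exact hx
  have h2 : hermForm n F q (c • u') (c • u') = 0 := by
    rw [herm_smul_left, herm_smul_right, hu', mul_zero, mul_zero]
  rw [RR_congr hF hgu h2 hg, RR_le hF hu' hc h2] at h1
  exact h1

theorem exists_map (hF : Fintype.card F = q ^ 2) (hn : 3 ≤ n) {u u' : Fin n → F} (h0 : u ≠ 0) (h0' : u' ≠ 0)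
    (hu : hermForm n F q u u = 0) (hu' : hermForm n F q u' u' = 0) : ∃ g : SU n F q, act g u = u' := by
  obtain ⟨g, -, hg⟩ := exists_map_iso hF hn le_rfl (mem_coordSub_top u) (mem_coordSub_top u') h0 h0' hu hu'
  exact ⟨g, hg⟩

open Classical in
/-- the family of doubles -/
noncomputable def fam (j : PSU n F q →* G) (u0 : Fin n → F) (W0 : Subgroup G) (u : Fin n → F) : Subgroup G :=
  if h : ∃ g : SU n F q, act g u0 = u then W0.map (MulAut.conj (fj n F q j h.choose)).toMonoidHom else ⊥

variable {hF : Fintype.card F = q ^ 2} {t : G} {j : PSU n F q →* G} {u0 : Fin n → F}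
  {hu0 : hermForm n F q u0 u0 = 0} {W0 : Subgroup G}

/-- `W u = g W0 g⁻¹` for every `g` with `g u0 ∈ F u` -/
theorem Base.mem_fam (B : Base hF t j u0 hu0 W0) (hn : 3 ≤ n) (h0 : u0 ≠ 0) {u : Fin n → F} (hne : u ≠ 0)
    (hu : hermForm n F q u u = 0) {g : SU n F q} {c : F} (hc : c ≠ 0) (hg : act g u0 = c • u) {w : G} :
    w ∈ fam j u0 W0 u ↔ (fj n F q j g)⁻¹ * w * fj n F q j g ∈ W0 := by
  have hex : ∃ g : SU n F q, act g u0 = u := exists_map hF hn h0 hne hu0 hu
  rw [fam, dif_pos hex]
  set a := hex.choose with ha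
  have hau : act a u0 = u := hex.choose_spec
  have h1 : act (g⁻¹ * a) u0 = c⁻¹ • u0 := by
    rw [act_mul, hau, eq_comm, ← act_eq_iff, act_smul, hg, smul_smul, inv_mul_cancel₀ hc, one_smul]
  have h2 : act (a⁻¹ * g) u0 = c • u0 := by
    rw [act_mul, hg, act_smul, ← hau, act_inv_act]
  constructor
  · rintro ⟨v, hv, rfl⟩
    have h3 := B.norm _ _ (inv_ne_zero hc) h1 v hv
    rw [map_mul, map_inv] at h3
    have e : (fj n F q j g)⁻¹ * (MulAut.conj (fj n F q j a)).toMonoidHom v * fj n F q j g =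
        (fj n F q j g)⁻¹ * fj n F q j a * v * ((fj n F q j g)⁻¹ * fj n F q j a)⁻¹ := by
      show (fj n F q j g)⁻¹ * (fj n F q j a * v * (fj n F q j a)⁻¹) * fj n F q j g = _
      group
    rw [e]; exact h3
  · intro h
    have h3 := B.norm _ _ hc h2 _ h
    rw [map_mul, map_inv] at h3
    refine ⟨_, h3, ?_⟩
    show fj n F q j a * ((fj n F q j a)⁻¹ * fj n F q j g * ((fj n F q j g)⁻¹ * w * fj n F q j g) *
      ((fj n F q j a)⁻¹ * fj n F q j g)⁻¹) * (fj n F q j a)⁻¹ = w
    group

/-- **The family.** -/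
theorem Base.dbl (B : Base hF t j u0 hu0 W0) (S : Sit n F q t j) (hn : 3 ≤ n) (h0 : u0 ≠ 0) :
    Dbl hF t j (fam j u0 W0) := by
  have hex : ∀ {u : Fin n → F}, u ≠ 0 → hermForm n F q u u = 0 → ∃ g : SU n F q, act g u0 = (1 : F) • u := by
    intro u hne hu
    obtain ⟨g, hg⟩ := exists_map hF hn h0 hne hu0 hu
    exact ⟨g, by rw [hg, one_smul]⟩
  have hinv : ∀ {u u' : Fin n → F} {g : SU n F q} {c : F}, c ≠ 0 → act g u = c • u' → act g⁻¹ u' = c⁻¹ • u := by
    intro u u' g c hc hg
    rw [eq_comm, ← act_eq_iff, act_smul, hg, smul_smul, inv_mul_cancel₀ hc, one_smul]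
  have htf : ∀ g : SU n F q, t * fj n F q j g = fj n F q j g * t := fun g => S.tj _
  have htfi : ∀ g : SU n F q, (fj n F q j g)⁻¹ * t * fj n F q j g = t := fun g => by
    rw [mul_assoc, htf, inv_mul_cancel_left]
  refine ⟨S, ?_, ?_, ?_, ?_, ?_, ?_, ?_, ?_⟩
  · intro u c hne hu hc
    obtain ⟨g, hg⟩ := hex hne hu
    have hcu : hermForm n F q (c • u) (c • u) = 0 := by rw [herm_smul_left, herm_smul_right, hu, mul_zero, mul_zero]
    ext w
    rw [B.mem_fam hn h0 hne hu one_ne_zero hg,
      B.mem_fam hn h0 (smul_ne_zero hc hne) hcu (inv_ne_zero hc) (g := g) (by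
        rw [hg, one_smul, smul_smul, inv_mul_cancel₀ hc, one_smul])]
  · rintro u hne hu _ ⟨x, hx, rfl⟩
    obtain ⟨g, hg⟩ := hex hne hu
    rw [B.mem_fam hn h0 hne hu one_ne_zero hg]
    apply B.X_le
    have h1 := RR_conj_mem hF hu hu0 (inv_ne_zero one_ne_zero) (hinv one_ne_zero hg) hx
    refine ⟨_, h1, ?_⟩
    rw [map_inv, inv_inv, map_mul, map_mul, map_inv]
    rfl
  · intro u hne hu w hw a ha
    obtain ⟨g, hg⟩ := hex hne hu
    rw [B.mem_fam hn h0 hne hu one_ne_zero hg] at hw
    have h1 := B.cent _ hw (g⁻¹ * a * g) (by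
      rw [act_mul, act_mul, hg, one_smul, ha]
      have := hinv one_ne_zero hg
      rw [this, inv_one, one_smul])
    rw [map_mul, map_mul, map_inv] at h1
    calc w * fj n F q j a = fj n F q j g * ((fj n F q j g)⁻¹ * w * fj n F q j g *
          ((fj n F q j g)⁻¹ * fj n F q j a * fj n F q j g)) * (fj n F q j g)⁻¹ := by group
      _ = fj n F q j a * w := by rw [h1]; group
  · intro u hne hu w hw
    obtain ⟨g, hg⟩ := hex hne hu
    rw [B.mem_fam hn h0 hne hu one_ne_zero hg] at hw
    obtain ⟨x, hx, e⟩ := B.brk _ hw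
    refine ⟨_, RR_conj_mem hF hu0 hu one_ne_zero hg hx, ?_⟩
    have e1 : t * w * t = fj n F q j g * (t * ((fj n F q j g)⁻¹ * w * fj n F q j g) * t) * (fj n F q j g)⁻¹ := by
      have h1 : t = fj n F q j g * t * (fj n F q j g)⁻¹ := by rw [← htf]; group
      conv_lhs => rw [h1]
      group
    rw [e1, e, map_mul, map_mul, map_inv]
    show fj n F q j g * ((fj n F q j g)⁻¹ * w * fj n F q j g * j x) * (fj n F q j g)⁻¹ =
      w * (fj n F q j g * j x * (fj n F q j g)⁻¹)
    group
  · intro u hne hu x hx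
    obtain ⟨g, hg⟩ := hex hne hu
    have h1 := RR_conj_mem hF hu hu0 (inv_ne_zero one_ne_zero) (hinv one_ne_zero hg) hx
    obtain ⟨w, hw, e⟩ := B.surj _ h1
    refine ⟨fj n F q j g * w * (fj n F q j g)⁻¹, ?_, ?_⟩
    · rw [B.mem_fam hn h0 hne hu one_ne_zero hg]
      have e2 : (fj n F q j g)⁻¹ * (fj n F q j g * w * (fj n F q j g)⁻¹) * fj n F q j g = w := by group
      rw [e2]; exact hw
    · have e1 : t * (fj n F q j g * w * (fj n F q j g)⁻¹) * t =
          fj n F q j g * (t * w * t) * (fj n F q j g)⁻¹ := by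
        have h2 : (fj n F q j g)⁻¹ * t = t * (fj n F q j g)⁻¹ := by
          rw [inv_mul_eq_iff_eq_mul, ← mul_assoc, ← htf, mul_inv_cancel_right]
        calc t * (fj n F q j g * w * (fj n F q j g)⁻¹) * t = (t * fj n F q j g) * w * ((fj n F q j g)⁻¹ * t) := by
              group
          _ = _ := by rw [htf, h2]; group
      rw [e1, e, map_inv, inv_inv, map_mul, map_mul, map_inv]
      show fj n F q j g * (w * ((fj n F q j g)⁻¹ * j x * fj n F q j g)) * (fj n F q j g)⁻¹ =
        fj n F q j g * w * (fj n F q j g)⁻¹ * j x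
      group
  · intro u hne hu w hw hc
    obtain ⟨g, hg⟩ := hex hne hu
    rw [B.mem_fam hn h0 hne hu one_ne_zero hg] at hw
    have h1 : t * ((fj n F q j g)⁻¹ * w * fj n F q j g) = (fj n F q j g)⁻¹ * w * fj n F q j g * t := by
      have h2 : (fj n F q j g)⁻¹ * t = t * (fj n F q j g)⁻¹ := by
        rw [inv_mul_eq_iff_eq_mul, ← mul_assoc, ← htf, mul_inv_cancel_right]
      calc t * ((fj n F q j g)⁻¹ * w * fj n F q j g) = (t * (fj n F q j g)⁻¹) * w * fj n F q j g := by group
        _ = (fj n F q j g)⁻¹ * (t * w) * fj n F q j g := by rw [← h2]; group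
        _ = (fj n F q j g)⁻¹ * w * (t * fj n F q j g) := by rw [hc]; group
        _ = _ := by rw [htf]; group
    obtain ⟨x, hx, e⟩ := B.fix _ hw h1
    refine ⟨_, RR_conj_mem hF hu0 hu one_ne_zero hg hx, ?_⟩
    rw [map_mul, map_mul, map_inv]
    show fj n F q j g * j x * (fj n F q j g)⁻¹ = w
    rw [e]; group
  · intro u hne hu g w hw
    obtain ⟨a, ha⟩ := hex hne hu
    rw [B.mem_fam hn h0 hne hu one_ne_zero ha] at hw
    have h1 : act g u ≠ 0 := fun h => hne ((act_eq_zero g).1 h)
    have h2 : hermForm n F q (act g u) (act g u) = 0 := by rw [herm_act]; exact hu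
    rw [B.mem_fam hn h0 h1 h2 one_ne_zero (g := g * a) (by rw [act_mul, ha, one_smul, one_smul]), map_mul]
    have e : (fj n F q j g * fj n F q j a)⁻¹ * (fj n F q j g * w * (fj n F q j g)⁻¹) * (fj n F q j g * fj n F q j a) =
        (fj n F q j a)⁻¹ * w * fj n F q j a := by group
    rw [e]; exact hw
  · intro hq u hne hu w hw
    obtain ⟨g, hg⟩ := hex hne hu
    rw [B.mem_fam hn h0 hne hu one_ne_zero hg] at hw
    have h1 := B.sq hq _ hw
    calc w * w = fj n F q j g * ((fj n F q j g)⁻¹ * w * fj n F q j g * ((fj n F q j g)⁻¹ * w * fj n F q j g)) *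
          (fj n F q j g)⁻¹ := by group
      _ = 1 := by rw [h1]; group

end Cfsg.Agent.OddHalf.D7.Uni.Ex

end
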